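import Cfsg.Agent.Blocks.KleinFour
import Cfsg.Agent.Chars.SimpleDegreeTools
import Cfsg.Agent.Chars.Gen
import Cfsg.Agent.PermGroups.OrbitalAlgebra
import Mathlib.GroupTheory.SpecificGroups.Alternating

/-!
The principal `2`-block of `A₅`: every irreducible character other than the one of degree four.
-/

set_option autoImplicit false
set_option linter.style.haveILetI false
set_option maxRecDepth 10000

namespace Cfsg.Agent.PermGroups.JOne

open Cfsg Cfsg.Agent
open scoped ComplexConjugate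

/-- The alternating group of degree five. -/
abbrev A₅ : Type := alternatingGroup (Fin 5)

/-- An element of order three. -/
def g₃ : A₅ :=
  ⟨Equiv.swap 0 1 * Equiv.swap 1 2, Equiv.Perm.mem_alternatingGroup.2 (by decide)⟩

/-- An element of order five. -/
def g₅ : A₅ := ⟨Equiv.swap 0 1 * Equiv.swap 1 2 * (Equiv.swap 2 3 * Equiv.swap 3 4),
    Equiv.Perm.mem_alternatingGroup.2 (by decide)⟩

/-- The number of fixed points. -/
def fixp (s : A₅) : ℕ := (Finset.univ.filter fun i : Fin 5 => (s : Equiv.Perm (Fin 5)) i = i).card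

/-- The integral character of degree four. -/
def chi4Int (s : A₅) : ℤ := (fixp s : ℤ) - 1

/-- The character of degree four. -/
noncomputable def chi4 (s : A₅) : ℂ := (chi4Int s : ℂ)

/-- The column orthogonality sum. -/
def colInt (x s : A₅) : ℤ :=
  if ∃ g, g * x * g⁻¹ = s then ((Finset.univ.filter fun g : A₅ => g * x = x * g).card : ℤ) else 0

/-- The block kernel of `2 × A₅` at elements of odd order. -/
def kerInt (x s : A₅) : ℤ := 2 * (colInt x s - chi4Int x * chi4Int s)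

/-- The number of involution pairs with a given product `t * s`. -/
def pairInt (s : A₅) : ℕ :=
  2 * (Finset.univ.filter fun g : A₅ => g * g = 1 ∧ g ≠ 1 ∧ (g * s⁻¹) * (g * s⁻¹) = 1).card

theorem chi4Int_one : chi4Int 1 = 4 := by decide

theorem g3_cube : g₃ * g₃ * g₃ = 1 := by decide

theorem g5_five : g₅ * g₅ * (g₅ * g₅) * g₅ = 1 := by decide

theorem g3_ne : g₃ ≠ 1 := by decide

theorem g5_ne : g₅ ≠ 1 := by decide

theorem g3_inv : ∃ g, g * g₃ * g⁻¹ = g₃⁻¹ := by decide +kernel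

theorem g3_sq : ∃ g, g * g₃ * g⁻¹ = g₃ * g₃ := by decide +kernel

theorem real_all : ∀ s : A₅, ∃ g, g * s * g⁻¹ = s⁻¹ := by decide +kernel

theorem order_three_conj : ∀ s : A₅, s * s * s = 1 → s ≠ 1 → ∃ g, g * g₃ * g⁻¹ = s := by
  decide +kernel

theorem no_order_fifteen : ∀ s : A₅, s * s * s ≠ 1 → s * s * (s * s) * s = 1 ∨
    s * s = 1 := by decide +kernel

theorem center_trivial : ∀ s : A₅, (∀ g, g * s = s * g) → s = 1 := by decide +kernel

theorem kerInt_values :
    kerInt 1 1 = 88 ∧ kerInt g₃ g₃ = 4 ∧ kerInt g₃ 1 = -8 ∧ kerInt 1 g₃ = -8 ∧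
    kerInt g₅ g₅ = 8 ∧ kerInt (g₅ * g₅) (g₅ * g₅) = 8 ∧
    kerInt g₅ (g₅ * g₅) = -2 ∧ kerInt (g₅ * g₅) g₅ = -2 ∧
    kerInt g₅ 1 = 8 ∧ kerInt 1 g₅ = 8 ∧ kerInt (g₅ * g₅) 1 = 8 ∧ kerInt 1 (g₅ * g₅) = 8 ∧
    kerInt g₅ g₃ = 2 ∧ kerInt g₃ g₅ = 2 ∧ kerInt (g₅ * g₅) g₃ = 2 ∧ kerInt g₃ (g₅ * g₅) = 2 := by
  decide +kernel

theorem five_conj : (∃ g, g * g₅ * g⁻¹ = g₅ * g₅ * (g₅ * g₅)) ∧
    ∃ g, g * (g₅ * g₅) * g⁻¹ = g₅ * g₅ * g₅ := by decide +kernel

theorem pairing_values :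
    ∑ s ∈ (Finset.univ.filter fun s : A₅ => s * s ≠ 1 ∨ s = 1), (pairInt s : ℤ) * kerInt 1 s = 3600 ∧
    ∑ s ∈ (Finset.univ.filter fun s : A₅ => s * s ≠ 1 ∨ s = 1), (pairInt s : ℤ) * kerInt g₃ s = 720 := by
  decide +kernel

theorem regular_iff : ∀ s : A₅, (s * s ≠ 1 ∨ s = 1) ↔
    s * s * s = 1 ∨ s * s * (s * s) * s = 1 := by decide +kernel

theorem exp_sylow : ∀ s : A₅, s * s * (s * s) = 1 → s * s = 1 := by decide +kernel

theorem one_class : ∀ s : A₅, s * s = 1 → s ≠ 1 → ∀ t : A₅, t * t = 1 → t ≠ 1 →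
    ∃ g, g * s * g⁻¹ = t := by decide +kernel

theorem chi4_sq : ∑ s : A₅, chi4Int s * chi4Int s = 60 ∧ ∑ s : A₅, (fixp s : ℤ) = 60 ∧
    ∑ s : A₅, chi4Int s = 0 := by decide +kernel

theorem fixp_conj : ∀ s g : A₅, fixp (g * s * g⁻¹) = fixp s := by decide +kernel

theorem card_A5 : Nat.card A₅ = 60 := by
  rw [Nat.card_eq_fintype_card]; decide +kernel

theorem isCharacter_fixp : IsCharacter A₅ (fun s => (fixp s : ℂ)) := by
  classical
  have e : (fun s : A₅ => (fixp s : ℂ)) = fun s => (Nat.card (MulAction.fixedBy (Fin 5) s) : ℂ) := by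
    funext s
    congr 1
    rw [Nat.card_eq_fintype_card]
    unfold fixp
    exact (Fintype.card_of_finset' _ fun i => by simp [Submonoid.smul_def, Subgroup.smul_def]).symm
  rw [e, fixFun_eq]
  exact Chars.isCharacter_of_rep _

theorem isIrr_chi4 : IsIrrCharacter A₅ chi4 := by
  classical
  have hgen : IsGeneralizedCharacter A₅ chi4 := by
    have e : chi4 = (fun s : A₅ => (fixp s : ℂ)) - fun _ => 1 := by
      funext s; simp [chi4, chi4Int]
    rw [e]
    exact Chars.isGen_sub (Chars.isGen_of_isCharacter isCharacter_fixp)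
      (Chars.isGen_of_isCharacter Chars.isCharacter_one)
  have hnorm : classInner chi4 chi4 = 1 := by
    rw [Chars.classInner_def, card_A5,
      Finset.sum_congr rfl (g := fun s : A₅ => ((chi4Int s * chi4Int s : ℤ) : ℂ))
        fun s _ => by simp [chi4, map_intCast], ← Int.cast_sum, chi4_sq.1]
    norm_num
  rcases Chars.isIrrCharacter_of_gen_norm_one hgen hnorm with h | h
  · exact h
  · exfalso
    obtain ⟨n, -, hn⟩ := Chars.exists_irr_apply_one_eq h
    have : ((-4 : ℤ) : ℂ) = ((n : ℤ) : ℂ) := by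
      push_cast; rw [← hn]; simp [chi4, chi4Int_one]
    have := Int.cast_injective this
    omega

/-- The character of degree four as an element of the type of irreducible characters. -/
noncomputable def chi4Irr : IrrCharacter A₅ := ⟨chi4, isIrr_chi4⟩

variable {M : Ideal AlgInt} [M.IsMaximal]

/-- Every other irreducible character is in the principal block. -/
theorem principal_of_ne (h2M : ((2 : ℕ) : AlgInt) ∈ M) {φ : IrrCharacter A₅} (hφ : φ ≠ chi4Irr) :
    φ ∈ principalBlock M A₅ := by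
  classical
  haveI : Fact (Nat.Prime 2) := ⟨Nat.prime_two⟩
  obtain ⟨P⟩ : Nonempty (Sylow 2 A₅) := inferInstance
  have hP : Nat.card P = 4 := by
    rw [P.card_eq_multiplicity, card_A5, show (60 : ℕ).factorization 2 = 2 by
      rw [Nat.factorization_def _ Nat.prime_two, show (60 : ℕ) = 2 ^ 2 * 15 by norm_num,
        padicValNat.mul (by norm_num) (by norm_num), padicValNat.prime_pow,
        padicValNat.eq_zero_of_not_dvd (by norm_num)]]
    norm_num
  have hexp : ∀ x : P, x * x = 1 := fun x => Subtype.ext (exp_sylow _ (by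
    have h : x ^ 4 = 1 := hP ▸ (pow_card_eq_one' (G := ↥(P : Subgroup A₅)) (x := x))
    have := congrArg Subtype.val h
    rw [← pow_two, ← pow_two, ← pow_mul]
    simpa using this))
  have hone : ∀ s t : A₅, orderOf s = 2 → orderOf t = 2 → IsConj s t := by
    intro s t hs ht
    have aux : ∀ u : A₅, orderOf u = 2 → u * u = 1 ∧ u ≠ 1 := fun u hu =>
      ⟨by rw [← pow_two, ← hu]; exact pow_orderOf_eq_one u, fun e => by rw [e, orderOf_one] at hu; omega⟩
    obtain ⟨g, hg⟩ := one_class s (aux s hs).1 (aux s hs).2 t (aux t ht).1 (aux t ht).2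
    exact isConj_iff.2 ⟨g, hg⟩
  obtain ⟨S, v, hS, hcard, h1, hv1, hpm, -, hmod, horth⟩ := Blocks.klein_data h2M P hP hexp hone
  by_contra hnp
  have hφS : φ ∉ S := fun h => hnp ((hS φ).1 h)
  have hd : ∀ χ : IrrCharacter A₅, (χ : A₅ → ℂ) 1 = (charDegree (χ : A₅ → ℂ) : ℂ) := fun χ =>
    (Blocks.charDegree_eq χ.2).1
  have hd4 : charDegree (chi4Irr : A₅ → ℂ) = 4 := by
    have h := hd chi4Irr
    rw [show (chi4Irr : A₅ → ℂ) 1 = ((4 : ℕ) : ℂ) by simp [chi4Irr, chi4, chi4Int_one]] at h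
    exact_mod_cast h.symm
  have h4S : chi4Irr ∉ S := fun h => by
    have := hmod chi4Irr
    rw [hd4] at this
    rcases hpm _ h with e | e <;> rw [e] at this <;> norm_num at this
  have hone' : charDegree ((Blocks.oneChar A₅ : IrrCharacter A₅) : A₅ → ℂ) = 1 := by
    simp [charDegree, Blocks.coe_oneChar]
  have hna : ¬ ∀ a b : A₅, a * b = b * a := fun h => g3_ne (center_trivial g₃ fun g => h g g₃)
  haveI : IsSimpleGroup A₅ := alternatingGroup.isSimpleGroup_five
  have hge : ∀ χ : IrrCharacter A₅, χ ≠ Blocks.oneChar A₅ → 2 ≤ charDegree (χ : A₅ → ℂ) := by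
    intro χ hχ
    have h0 := (Blocks.charDegree_eq χ.2).2
    have h1 : charDegree (χ : A₅ → ℂ) ≠ 1 := fun h => hχ (Subtype.ext
      (Chars.SimpleDeg.eq_one_of_degree_one hna (χ := χ) (by rw [hd, h, Nat.cast_one])))
    omega
  obtain ⟨i, j, k, hij, hik, hjk, hT⟩ : ∃ i j k, i ≠ j ∧ i ≠ k ∧ j ≠ k ∧
      S.erase (Blocks.oneChar A₅) = {i, j, k} :=
    Finset.card_eq_three.1 (by rw [Finset.card_erase_of_mem h1, hcard])
  have hmem : ∀ x ∈ ({i, j, k} : Finset (IrrCharacter A₅)), x ≠ Blocks.oneChar A₅ ∧ x ∈ S :=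
    fun x hx => Finset.mem_erase.1 (hT ▸ hx)
  have hi := hmem i (by simp)
  have hj := hmem j (by simp)
  have hk := hmem k (by simp)
  set d : IrrCharacter A₅ → ℕ := fun χ => charDegree (χ : A₅ → ℂ) with hdd
  have horth1 : (1 : ℤ) + (v i * d i + v j * d j + v k * d k) = 0 := by
    refine Int.cast_injective (α := ℂ) ?_
    have h := horth 1 (by rw [orderOf_one]; norm_num)
    rw [← Finset.add_sum_erase _ _ h1, hT, Finset.sum_insert (by simp [hij, hik]),
      Finset.sum_insert (by simp [hjk]), Finset.sum_singleton, hv1, hd, hd, hd, hd, hone'] at h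
    push_cast
    simp only [hdd]
    push_cast at h
    linear_combination h
  have hsq : ∑ χ : IrrCharacter A₅, d χ ^ 2 = 60 := by
    have h := Chars.sum_sq_apply_one (G := A₅)
    simp only [hd, card_A5] at h
    exact_mod_cast h
  have hsub : ∑ χ ∈ ({Blocks.oneChar A₅, i, j, k, chi4Irr, φ} : Finset (IrrCharacter A₅)), d χ ^ 2 ≤ 60 :=
    hsq ▸ Finset.sum_le_sum_of_subset_of_nonneg (Finset.subset_univ _) fun _ _ _ => Nat.zero_le _
  have ne4 : ∀ x ∈ S, x ≠ chi4Irr ∧ x ≠ φ := fun x hx => ⟨fun e => h4S (e ▸ hx), fun e => hφS (e ▸ hx)⟩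
  rw [Finset.sum_insert (by simp [(hi.1).symm, (hj.1).symm, (hk.1).symm, (ne4 _ h1).1, (ne4 _ h1).2]),
    Finset.sum_insert (by simp [hij, hik, (ne4 _ hi.2).1, (ne4 _ hi.2).2]),
    Finset.sum_insert (by simp [hjk, (ne4 _ hj.2).1, (ne4 _ hj.2).2]),
    Finset.sum_insert (by simp [(ne4 _ hk.2).1, (ne4 _ hk.2).2]),
    Finset.sum_insert (by simp [Ne.symm hφ]), Finset.sum_singleton] at hsub
  have f1 : d (Blocks.oneChar A₅) = 1 := hone'
  have f4 : d chi4Irr = 4 := hd4
  have f5 : 2 ≤ d φ := hge φ fun e => hφS (e ▸ h1)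
  have fi : 2 ≤ d i := hge i hi.1
  have fj : 2 ≤ d j := hge j hj.1
  have fk : 2 ≤ d k := hge k hk.1
  rw [f1, f4] at hsub
  have b : ∀ n : ℕ, n ^ 2 ≤ 43 → n ≤ 6 := fun n h => by nlinarith
  have bi : d i ≤ 6 := b _ (by nlinarith)
  have bj : d j ≤ 6 := b _ (by nlinarith)
  have bk : d k ≤ 6 := b _ (by nlinarith)
  have bp : 4 ≤ d φ ^ 2 := by nlinarith
  have mi : (4 : ℤ) ∣ (d i : ℤ) - v i := hmod i
  have mj : (4 : ℤ) ∣ (d j : ℤ) - v j := hmod j
  have mk : (4 : ℤ) ∣ (d k : ℤ) - v k := hmod k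
  rcases hpm i hi.2 with ei | ei <;> rcases hpm j hj.2 with ej | ej <;> rcases hpm k hk.2 with ek | ek <;>
    rw [ei] at mi horth1 <;> rw [ej] at mj horth1 <;> rw [ek] at mk horth1 <;>
    (have : d i = 3 ∨ d i = 5 := by omega
     have : d j = 3 ∨ d j = 5 := by omega
     have : d k = 3 ∨ d k = 5 := by omega
     rcases ‹d i = 3 ∨ d i = 5› with e | e <;> rw [e] at hsub horth1 mi <;>
       rcases ‹d j = 3 ∨ d j = 5› with e' | e' <;> rw [e'] at hsub horth1 mj <;>
       rcases ‹d k = 3 ∨ d k = 5› with e'' | e'' <;> rw [e''] at hsub horth1 mk <;> omega)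

end Cfsg.Agent.PermGroups.JOne
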