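import Cfsg.Agent.PermGroups.JOne.SearchTwo

/-!
The integral columns of the principal `2`-block at the section of an involution with centralizer
`2 × A₅`, reduced to the Diophantine systems.
-/

set_option autoImplicit false

namespace Cfsg.Agent.PermGroups.JOne

variable {ι : Type*}

/-- The numerical data of the non-principal characters of the block. -/
structure ColData (T : Finset ι) (d a s n : ι → ℤ) (σ : ι → ι) (lam : ℚ) : Prop where
  deg : ∀ i ∈ T, 2 ≤ d i
  val : ∀ i ∈ T, a i - 3 * s i ≠ 0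
  cong : ∀ i ∈ T, (8 : ℤ) ∣ d i - (a i - 3 * s i)
  nonneg : ∀ i ∈ T, 0 ≤ d i + 7 * (a i - 3 * s i)
  par : ∀ i ∈ T, (2 : ℤ) ∣ n i - s i
  aa : ∑ i ∈ T, a i * a i = 3
  ss : ∑ i ∈ T, s i * s i = 12
  asum : ∑ i ∈ T, a i * s i = 4
  nn : ∑ i ∈ T, n i * n i = 4
  ns : ∑ i ∈ T, n i * s i = 0
  da : ∑ i ∈ T, d i * a i = -1
  ds : ∑ i ∈ T, d i * s i = 0
  dn : ∑ i ∈ T, d i * n i = 0
  pa : 1 + ∑ i ∈ T, (((a i - 3 * s i) ^ 2 * a i : ℤ) : ℚ) / (d i : ℚ) = 6 * lam
  ps : ∑ i ∈ T, (((a i - 3 * s i) ^ 2 * s i : ℤ) : ℚ) / (d i : ℚ) = -8 * lam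
  sig_mem : ∀ i ∈ T, σ i ∈ T
  sig_inj : ∀ i ∈ T, ∀ j ∈ T, σ i = σ j → i = j
  sig_d : ∀ i ∈ T, d (σ i) = d i
  sig_a : ∀ i ∈ T, a (σ i) = a i
  sig_s : ∀ i ∈ T, s (σ i) = s i
  sig_n : ∀ i ∈ T, n (σ i) = -n i

/-- The six possible pairs of signed degrees. -/
def Pair (x y : ℤ) : Prop :=
  (x, y) ∈ ([(-133, -77), (-21, 35), (-637, -53), (-245, -61), (-45, 539), (-37, 147)] : List (ℤ × ℤ))

variable {T : Finset ι} {d a s n : ι → ℤ} {σ : ι → ι} {lam : ℚ}

theorem abs_le_of_sq_le {z : ℤ} {m : ℕ} (h : z * z ≤ (m : ℤ) * m) : -(m : ℤ) ≤ z ∧ z ≤ m :=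
  abs_le.1 (abs_le_of_sq_le_sq' (by rw [pow_two, pow_two]; exact h) (Nat.cast_nonneg m) |>
    fun h => abs_le.2 h)

theorem split_three [DecidableEq ι] {R : Type*} [AddCommMonoid R] (f : ι → R) {i j k : ι} (hi : i ∈ T)
    (hj : j ∈ T) (hk : k ∈ T) (hij : i ≠ j) (hik : i ≠ k) (hjk : j ≠ k) :
    ∑ x ∈ T, f x = f i + f j + f k + ∑ x ∈ T \ {i, j, k}, f x := by
  rw [← Finset.sum_sdiff (s₁ := {i, j, k}) (s₂ := T) (by simp [Finset.insert_subset_iff, *]),
    Finset.sum_insert (by simp [hij, hik]), Finset.sum_insert (by simp [hjk]), Finset.sum_singleton,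
    add_comm]
  simp only [add_assoc]

theorem dvd_signed {e v D : ℤ} (he : e = 1 ∨ e = -1) (h : (8 : ℤ) ∣ D - v) : (8 : ℤ) ∣ e * D - e * v := by
  rw [← mul_sub]; exact Dvd.dvd.mul_left h e

theorem div_signed {e m : ℤ} {D : ℤ} (he : e = 1 ∨ e = -1) :
    ((e * m : ℤ) : ℚ) / (D : ℚ) = (m : ℚ) / ((e * D : ℤ) : ℚ) := by
  rcases he with rfl | rfl
  · simp
  · push_cast; simp [neg_div, div_neg]

theorem not_three (h : ColData T d a s n σ lam) {i : ι} (hi : i ∈ T)
    (he : a i = 1 ∨ a i = -1) (hz : a i * s i = 3) : False := by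
  classical
  have hsi : s i = 3 * a i := by rcases he with e | e <;> rw [e] at hz ⊢ <;> linarith
  have hn2 : n i * n i ≤ 4 := h.nn ▸ Finset.single_le_sum (fun x _ => mul_self_nonneg (n x)) hi
  have hn : n i = 1 ∨ n i = -1 := by
    obtain ⟨h1, h2⟩ := abs_le_of_sq_le (m := 2) (by simpa using hn2)
    have := h.par i hi
    rcases he with e | e <;> rw [hsi, e] at this <;> omega
  have hee : a i * a i = 1 := by rcases he with e | e <;> rw [e] <;> norm_num
  have hnn : n i * n i = 1 := by rcases hn with e | e <;> rw [e] <;> norm_num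
  set f : ι → ℤ := fun x => a i * s x + n i * n x with hf
  have hsq : ∑ x ∈ T, f x * f x = 16 := by
    have e : ∀ x, f x * f x =
        (a i * a i) * (s x * s x) + (n i * n i) * (n x * n x) + 2 * (a i * n i) * (n x * s x) :=
      fun x => by simp only [hf]; ring
    simp only [e, hee, hnn, one_mul, Finset.sum_add_distrib, ← Finset.mul_sum, h.ss, h.nn, h.ns]
    norm_num
  have hfi : f i = 4 := by simp only [hf, hsi]; linear_combination 3 * hee + hnn
  rw [← Finset.add_sum_erase _ _ hi, hfi] at hsq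
  have h0 : ∀ x ∈ T.erase i, f x = 0 := fun x hx => mul_self_eq_zero.1
    ((Finset.sum_eq_zero_iff_of_nonneg fun y _ => mul_self_nonneg (f y)).1 (by linarith) x hx)
  have hd : ∑ x ∈ T, d x * f x = 0 := by
    have e : ∀ x, d x * f x = a i * (d x * s x) + n i * (d x * n x) := fun x => by
      simp only [hf]; ring
    simp only [e, Finset.sum_add_distrib, ← Finset.mul_sum, h.ds, h.dn]; ring
  rw [← Finset.add_sum_erase _ _ hi, Finset.sum_eq_zero (fun x hx => by rw [h0 x hx, mul_zero]), hfi]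
    at hd
  have := h.deg i hi
  linarith

/-- Three rows carry the `a`-column. -/
theorem exists_three (h : ColData T d a s n σ lam) :
    ∃ i j k, i ∈ T ∧ j ∈ T ∧ k ∈ T ∧ i ≠ j ∧ i ≠ k ∧ j ≠ k ∧
      (a i = 1 ∨ a i = -1) ∧ (a j = 1 ∨ a j = -1) ∧ (a k = 1 ∨ a k = -1) ∧
      ∀ x ∈ T, x ≠ i → x ≠ j → x ≠ k → a x = 0 := by
  classical
  set A := T.filter fun x => a x ≠ 0 with hA
  have hpm : ∀ x ∈ A, a x = 1 ∨ a x = -1 := by
    intro x hx
    obtain ⟨hxT, hx0⟩ := Finset.mem_filter.1 hx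
    have h1 : a x * a x ≤ 3 := h.aa ▸ Finset.single_le_sum (fun y _ => mul_self_nonneg (a y)) hxT
    obtain ⟨h2, h3⟩ := abs_le_of_sq_le (m := 2) (z := a x) (by norm_num; linarith)
    have : a x ≠ 2 := fun e => by rw [e] at h1; norm_num at h1
    have : a x ≠ -2 := fun e => by rw [e] at h1; norm_num at h1
    omega
  have hcard : A.card = 3 := by
    have e : ∑ x ∈ T, a x * a x = ∑ x ∈ A, 1 := by
      rw [hA, Finset.sum_filter]
      refine Finset.sum_congr rfl fun x hx => ?_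
      split_ifs with h0
      · rcases hpm x (Finset.mem_filter.2 ⟨hx, h0⟩) with e | e <;> rw [e] <;> norm_num
      · push Not at h0; rw [h0]; norm_num
    rw [h.aa, Finset.sum_const, nsmul_eq_mul, mul_one] at e
    exact_mod_cast e.symm
  obtain ⟨i, j, k, hij, hik, hjk, he⟩ := Finset.card_eq_three.1 hcard
  have hm : ∀ x, x = i ∨ x = j ∨ x = k → x ∈ T ∧ (a x = 1 ∨ a x = -1) := fun x hx => by
    have : x ∈ A := by rw [he]; simpa using hx
    exact ⟨(Finset.mem_filter.1 this).1, hpm x this⟩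
  refine ⟨i, j, k, (hm i (.inl rfl)).1, (hm j (.inr (.inl rfl))).1, (hm k (.inr (.inr rfl))).1,
    hij, hik, hjk, (hm i (.inl rfl)).2, (hm j (.inr (.inl rfl))).2, (hm k (.inr (.inr rfl))).2, ?_⟩
  intro x hx h1 h2 h3
  by_contra h0
  have : x ∈ A := Finset.mem_filter.2 ⟨hx, h0⟩
  rw [he] at this
  simp [h1, h2, h3] at this

theorem case_two (h : ColData T d a s n σ lam) {i j k : ι} (hi : i ∈ T) (hj : j ∈ T) (hk : k ∈ T)
    (hij : i ≠ j) (hik : i ≠ k) (hjk : j ≠ k) (ei : a i = 1 ∨ a i = -1) (ej : a j = 1 ∨ a j = -1)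
    (ek : a k = 1 ∨ a k = -1) (h0 : ∀ x ∈ T, x ≠ i → x ≠ j → x ≠ k → a x = 0)
    (si : s i = 2 * a i) (sj : s j = 2 * a j) (sk : s k = 0) :
    ∃ x y, Pair x y ∧ 6 * lam = 1 + 25 / (x : ℚ) + 25 / (y : ℚ) + 1 / ((-1 - x - y : ℤ) : ℚ) := by
  classical
  set R := T \ {i, j, k} with hR
  have hRT : ∀ x ∈ R, x ∈ T ∧ a x = 0 := fun x hx => by
    simp only [hR, Finset.mem_sdiff, Finset.mem_insert, Finset.mem_singleton, not_or] at hx
    exact ⟨hx.1, h0 x hx.1 hx.2.1 hx.2.2.1 hx.2.2.2⟩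
  have hA : ∀ x ∈ T, a x ≠ 0 → x = i ∨ x = j ∨ x = k := fun x hx hax => by
    by_contra hc; simp only [not_or] at hc; exact hax (h0 x hx hc.1 hc.2.1 hc.2.2)
  have ha0 : ∀ {e : ℤ}, e = 1 ∨ e = -1 → e ≠ 0 := fun he => by omega
  have hσk : σ k = k := by
    rcases hA _ (h.sig_mem k hk) (by rw [h.sig_a k hk]; exact ha0 ek) with e | e | e
    · have := h.sig_s k hk; rw [e, si, sk] at this; omega
    · have := h.sig_s k hk; rw [e, sj, sk] at this; omega
    · exact e
  have nk : n k = 0 := by have := h.sig_n k hk; rw [hσk] at this; omega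
  have hn4 : n i * n i + n j * n j + n k * n k + ∑ x ∈ R, n x * n x = 4 := by
    rw [← h.nn, split_three _ hi hj hk hij hik hjk]
  have hRn : 0 ≤ ∑ x ∈ R, n x * n x := Finset.sum_nonneg fun x _ => mul_self_nonneg _
  have hni : n i = 0 ∧ n j = 0 := by
    have p1 := h.par i hi
    have p2 := h.par j hj
    rw [si] at p1; rw [sj] at p2
    obtain ⟨a1, a2⟩ := abs_le_of_sq_le (m := 2) (z := n i)
      (by norm_num; linarith [mul_self_nonneg (n j), mul_self_nonneg (n k)])
    obtain ⟨b1, b2⟩ := abs_le_of_sq_le (m := 2) (z := n j)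
      (by norm_num; linarith [mul_self_nonneg (n i), mul_self_nonneg (n k)])
    have h1 := h.sig_n i hi
    have h2 := h.sig_n j hj
    have hnot : ¬ (n i ≠ 0 ∧ n j ≠ 0) := by
      rintro ⟨x1, x2⟩
      have : 4 ≤ n i * n i := by
        rcases (show n i = 2 ∨ n i = -2 by omega) with e | e <;> rw [e] <;> norm_num
      have : 4 ≤ n j * n j := by
        rcases (show n j = 2 ∨ n j = -2 by omega) with e | e <;> rw [e] <;> norm_num
      linarith [mul_self_nonneg (n k)]
    refine ⟨?_, ?_⟩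
    · by_contra hne
      rcases hA _ (h.sig_mem i hi) (by rw [h.sig_a i hi]; exact ha0 ei) with e | e | e <;> rw [e] at h1
      · omega
      · exact hnot ⟨hne, by omega⟩
      · omega
    · by_contra hne
      rcases hA _ (h.sig_mem j hj) (by rw [h.sig_a j hj]; exact ha0 ej) with e | e | e <;> rw [e] at h2
      · exact hnot ⟨by omega, hne⟩
      · omega
      · omega
  obtain ⟨ni, nj⟩ := hni
  have sq : ∀ {e : ℤ}, e = 1 ∨ e = -1 → e * e = 1 := fun he => by rcases he with rfl | rfl <;> norm_num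
  have hRs : ∑ x ∈ R, s x * s x = 4 := by
    have := h.ss; rw [split_three _ hi hj hk hij hik hjk, si, sj, sk] at this
    linear_combination this - 4 * sq ei - 4 * sq ej
  rw [ni, nj, nk] at hn4
  have hRns : ∑ x ∈ R, n x * s x = 0 := by
    have := h.ns; rw [split_three _ hi hj hk hij hik hjk, ni, nj, nk] at this; linarith
  have hone : ∀ x ∈ R, (s x = 1 ∨ s x = -1) ∧ (n x = 1 ∨ n x = -1) := by
    have hs : ∀ x ∈ R, s x = 1 ∨ s x = -1 := by
      intro x hx
      have hv := h.val x (hRT x hx).1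
      rw [(hRT x hx).2] at hv
      have h4 : s x * s x ≤ 4 := hRs ▸ Finset.single_le_sum (fun y _ => mul_self_nonneg (s y)) hx
      obtain ⟨c1, c2⟩ := abs_le_of_sq_le (m := 2) (z := s x) (by simpa using h4)
      by_contra hne
      have h2 : s x = 2 ∨ s x = -2 := by omega
      have hsingle : R = {x} := by
        refine Finset.eq_singleton_iff_unique_mem.2 ⟨hx, fun y hy => ?_⟩
        by_contra hyx
        have hsub : ∑ z ∈ ({x, y} : Finset ι), s z * s z ≤ ∑ z ∈ R, s z * s z :=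
          Finset.sum_le_sum_of_subset_of_nonneg (by simp [Finset.insert_subset_iff, hx, hy])
            fun z _ _ => mul_self_nonneg _
        rw [Finset.sum_pair (Ne.symm hyx), hRs] at hsub
        have hy0 : s y = 0 := mul_self_eq_zero.1 (le_antisymm
          (by rcases h2 with e | e <;> rw [e] at hsub <;> linarith) (mul_self_nonneg _))
        have hvy := h.val y (hRT y hy).1
        rw [(hRT y hy).2, hy0] at hvy
        norm_num at hvy
      rw [hsingle, Finset.sum_singleton] at hRns hn4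
      rcases mul_eq_zero.1 hRns with e | e
      · rw [e] at hn4; norm_num at hn4
      · omega
    have hcard : R.card = 4 := by
      have e : ∑ x ∈ R, s x * s x = ∑ x ∈ R, (1 : ℤ) := Finset.sum_congr rfl fun x hx => sq (hs x hx)
      rw [hRs, Finset.sum_const, nsmul_eq_mul, mul_one] at e
      exact_mod_cast e.symm
    have hge : ∀ x ∈ R, 1 ≤ n x * n x := fun x hx => by
      have := h.par x (hRT x hx).1
      have hnx : n x ≠ 0 := by rcases hs x hx with e | e <;> omega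
      nlinarith [Int.one_le_abs hnx, abs_mul_abs_self (n x)]
    have heq : ∀ x ∈ R, 1 = n x * n x := (Finset.sum_eq_sum_iff_of_le hge).1 (by
      rw [Finset.sum_const, hcard]; simpa using hn4.symm)
    exact fun x hx => ⟨hs x hx, mul_self_eq_one_iff.1 (heq x hx).symm⟩
  set P := R.filter fun x => n x = s x with hP
  set N := R.filter fun x => ¬ n x = s x with hN
  have hPN : P.card = N.card := by
    have e1 : ∑ x ∈ P, n x * s x = ∑ x ∈ P, (1 : ℤ) := Finset.sum_congr rfl fun x hx => by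
      obtain ⟨h1, h2⟩ := Finset.mem_filter.1 hx
      rw [h2]; exact sq (hone x h1).1
    have e2 : ∑ x ∈ N, n x * s x = ∑ x ∈ N, (-1 : ℤ) := Finset.sum_congr rfl fun x hx => by
      obtain ⟨h1, h2⟩ := Finset.mem_filter.1 hx
      rcases (hone x h1).1 with e | e <;> rcases (hone x h1).2 with e' | e' <;>
        simp_all
    rw [← Finset.sum_filter_add_sum_filter_not R (fun x => n x = s x), ← hP, ← hN, e1, e2] at hRns
    simp only [Finset.sum_const, nsmul_eq_mul, mul_one, mul_neg] at hRns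
    omega
  have hP2 : P.card = 2 := by
    have e : ∑ x ∈ R, s x * s x = ∑ x ∈ R, (1 : ℤ) := Finset.sum_congr rfl fun x hx => sq (hone x hx).1
    rw [hRs, Finset.sum_const, nsmul_eq_mul, mul_one] at e
    have := Finset.card_filter_add_card_filter_not (s := R) fun x => n x = s x
    rw [← hP, ← hN] at this
    omega
  have hmaps : ∀ x ∈ P, σ x ∈ N := by
    intro x hx
    obtain ⟨h1, h2⟩ := Finset.mem_filter.1 hx
    obtain ⟨hxT, hxa⟩ := hRT x h1
    have hm : σ x ∈ R := by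
      simp only [hR, Finset.mem_sdiff, Finset.mem_insert, Finset.mem_singleton, not_or]
      have ha := h.sig_a x hxT
      rw [hxa] at ha
      exact ⟨h.sig_mem x hxT, fun e => ha0 ei (e ▸ ha), fun e => ha0 ej (e ▸ ha),
        fun e => ha0 ek (e ▸ ha)⟩
    refine Finset.mem_filter.2 ⟨hm, ?_⟩
    rw [h.sig_n x hxT, h.sig_s x hxT, h2]
    rcases (hone x h1).1 with e | e <;> omega
  obtain ⟨p, q, hpq, hPeq⟩ := Finset.card_eq_two.1 hP2
  have hpP : p ∈ P := by simp [hPeq]
  have hqP : q ∈ P := by simp [hPeq]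
  obtain ⟨hpT, hpa⟩ := hRT p (Finset.mem_filter.1 hpP).1
  obtain ⟨hqT, hqa⟩ := hRT q (Finset.mem_filter.1 hqP).1
  have hpq' : σ p ≠ σ q := fun e => hpq (h.sig_inj p hpT q hqT e)
  have hNeq : N = {σ p, σ q} := (Finset.eq_of_subset_of_card_le
    (by simp [Finset.insert_subset_iff, hmaps p hpP, hmaps q hqP])
    (by rw [Finset.card_pair hpq']; omega)).symm
  have sumR : ∀ {K : Type} [AddCommMonoid K] (f : ι → K),
      ∑ x ∈ T, f x = f i + f j + f k + (f p + f q + (f (σ p) + f (σ q))) := by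
    intro K _ f
    rw [split_three _ hi hj hk hij hik hjk, ← hR,
      ← Finset.sum_filter_add_sum_filter_not R (fun x => n x = s x), ← hP, ← hN, hPeq, hNeq,
      Finset.sum_pair hpq, Finset.sum_pair hpq']
  have ep := (hone p (Finset.mem_filter.1 hpP).1).1
  have eq := (hone q (Finset.mem_filter.1 hqP).1).1
  have e1 := h.da
  have e2 := h.ds
  have e3 := h.pa
  have e4 := h.ps
  rw [sumR] at e1 e2 e3 e4
  simp only [h.sig_a p hpT, h.sig_a q hqT, h.sig_s p hpT, h.sig_s q hqT, h.sig_d p hpT, h.sig_d q hqT,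
    hpa, hqa, si, sj, sk, mul_zero, sub_zero, zero_sub, Int.cast_zero, zero_div, add_zero] at e1 e2 e3 e4
  set X := a i * d i with hX
  set Y := a j * d j with hY
  set A := a k * d k with hAd
  set B := s p * d p with hB
  set C := s q * d q with hC
  have f1 : ∀ {e : ℤ} (m D : ℤ), (e = 1 ∨ e = -1) →
      ((e * m : ℤ) : ℚ) / (D : ℚ) = (m : ℚ) / ((e * D : ℤ) : ℚ) := fun m D he => div_signed he
  have vi : (a i - 3 * (2 * a i)) ^ 2 = 25 := by linear_combination 25 * sq ei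
  have vj : (a j - 3 * (2 * a j)) ^ 2 = 25 := by linear_combination 25 * sq ej
  have vk : a k ^ 2 = 1 := by linear_combination sq ek
  have vp : (-(3 * s p)) ^ 2 = 9 := by linear_combination 9 * sq ep
  have vq : (-(3 * s q)) ^ 2 = 9 := by linear_combination 9 * sq eq
  simp only [vi, vj, vk, vp, vq, one_mul] at e3 e4
  have t1 : ∀ {e : ℤ} (m D : ℤ), (e = 1 ∨ e = -1) →
      ((m * e : ℤ) : ℚ) / (D : ℚ) = (m : ℚ) / ((e * D : ℤ) : ℚ) := fun m D he => by
    rw [mul_comm m]; exact div_signed he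
  rw [t1 25 (d i) ei, t1 25 (d j) ej, show ((a k : ℤ) : ℚ) / (d k : ℚ) = (1 : ℤ) / ((a k * d k : ℤ) : ℚ)
    by rw [← div_signed ek, mul_one]] at e3
  rw [show (25 : ℤ) * (2 * a i) = 50 * a i by ring, show (25 : ℤ) * (2 * a j) = 50 * a j by ring,
    t1 50 (d i) ei, t1 50 (d j) ej, t1 9 (d p) ep, t1 9 (d q) eq] at e4
  rw [← hX, ← hY, ← hAd] at e3
  rw [← hX, ← hY, ← hB, ← hC] at e4
  have hA : A = -1 - X - Y := by rw [hX, hY, hAd]; linarith
  have hS : X + Y + B + C = 0 := by rw [hX, hY, hB, hC]; linarith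
  have cX : X % 8 = 3 ∧ (X < 0 ∨ 35 ≤ X) := by
    have c1 := h.cong i hi; have c2 := h.nonneg i hi; have := h.deg i hi
    rw [si] at c1 c2
    rcases ei with e | e <;> simp only [hX, e] at c1 c2 ⊢ <;> omega
  have cY : Y % 8 = 3 ∧ (Y < 0 ∨ 35 ≤ Y) := by
    have c1 := h.cong j hj; have c2 := h.nonneg j hj; have := h.deg j hj
    rw [sj] at c1 c2
    rcases ej with e | e <;> simp only [hY, e] at c1 c2 ⊢ <;> omega
  have cB : B % 8 = 5 ∧ (B < 0 ∨ 21 ≤ B) := by
    have c1 := h.cong p hpT; have c2 := h.nonneg p hpT; have := h.deg p hpT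
    rw [hpa] at c1 c2
    rcases ep with e | e <;> simp only [hB, e] at c1 c2 ⊢ <;> omega
  have cC : C % 8 = 5 ∧ (C < 0 ∨ 21 ≤ C) := by
    have c1 := h.cong q hqT; have c2 := h.nonneg q hqT; have := h.deg q hqT
    rw [hqa] at c1 c2
    rcases eq with e | e <;> simp only [hC, e] at c1 c2 ⊢ <;> omega
  have hAne : A ≠ 1 := by
    have := h.deg k hk
    rcases ek with e | e <;> simp only [hAd, e] <;> omega
  have cast0 : ∀ {z : ℤ}, z ≠ 0 → (z : ℚ) ≠ 0 := fun hz => Int.cast_ne_zero.2 hz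
  have xq : (X : ℚ) ≠ 0 := cast0 (by omega)
  have yq : (Y : ℚ) ≠ 0 := cast0 (by omega)
  have bq : (B : ℚ) ≠ 0 := cast0 (by omega)
  have cq : (C : ℚ) ≠ 0 := cast0 (by omega)
  have aq : ((-1 : ℚ) - X - Y) ≠ 0 := by
    rw [show ((-1 : ℚ) - X - Y) = ((-1 - X - Y : ℤ) : ℚ) by push_cast; ring]; exact cast0 (by omega)
  rw [hA] at e3
  push_cast at e3 e4
  have hgood : Good X Y B C := by
    refine ⟨cX.1, cY.1, cB.1, cC.1, hS, ?_, by omega, cX.2, cY.2, cB.2, cC.2⟩
    have key : (0 : ℚ) = 4 * (1 + (25 / (X : ℚ) + 25 / Y + 1 / (-1 - X - Y))) +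
        3 * (50 / (X : ℚ) + 50 / Y + (9 / B + 9 / C + (9 / B + 9 / C))) := by linarith
    field_simp at key
    have hSq : (C : ℚ) = -X - Y - B := by
      rw [show C = -X - Y - B by omega]; push_cast; ring
    have hS0 : ((X : ℚ) + Y) ≠ 0 := by
      rw [show ((X : ℚ) + Y) = ((X + Y : ℤ) : ℚ) by push_cast; ring]; exact cast0 (by omega)
    have : ((2 * (X * Y) * (B * C) + 125 * (B * C) * (1 + (X + Y)) : ℤ) : ℚ) =
        ((27 * (X * Y) * (1 + (X + Y)) : ℤ) : ℚ) := by
      push_cast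
      refine mul_left_cancel₀ hS0 ?_
      rw [hSq] at key ⊢
      linear_combination (1 / 2 : ℚ) * key
    exact_mod_cast this
  obtain ⟨hsol, -⟩ := good_sol hgood
  rcases hsol with hm | hm
  · exact ⟨X, Y, hm, by push_cast; linarith⟩
  · exact ⟨Y, X, hm, by
      push_cast
      rw [show (-1 : ℚ) - Y - X = -1 - X - Y by ring]; linarith⟩

theorem case_one (h : ColData T d a s n σ lam) {i j k : ι} (hi : i ∈ T) (hj : j ∈ T) (hk : k ∈ T)
    (hij : i ≠ j) (hik : i ≠ k) (hjk : j ≠ k) (ei : a i = 1 ∨ a i = -1) (ej : a j = 1 ∨ a j = -1)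
    (ek : a k = 1 ∨ a k = -1) (h0 : ∀ x ∈ T, x ≠ i → x ≠ j → x ≠ k → a x = 0)
    (si : s i = 2 * a i) (sj : s j = a j) (sk : s k = a k) : False := by
  classical
  set R := T \ {i, j, k} with hR
  have hRT : ∀ x ∈ R, x ∈ T ∧ a x = 0 := fun x hx => by
    simp only [hR, Finset.mem_sdiff, Finset.mem_insert, Finset.mem_singleton, not_or] at hx
    exact ⟨hx.1, h0 x hx.1 hx.2.1 hx.2.2.1 hx.2.2.2⟩
  have hA : ∀ x ∈ T, a x ≠ 0 → x = i ∨ x = j ∨ x = k := fun x hx hax => by
    by_contra hc; simp only [not_or] at hc; exact hax (h0 x hx hc.1 hc.2.1 hc.2.2)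
  have ha0 : ∀ {e : ℤ}, e = 1 ∨ e = -1 → e ≠ 0 := fun he => by omega
  have sq : ∀ {e : ℤ}, e = 1 ∨ e = -1 → e * e = 1 := fun he => by rcases he with rfl | rfl <;> norm_num
  have hσi : σ i = i := by
    have h1 := h.sig_s i hi; have h2 := h.sig_a i hi
    rcases hA _ (h.sig_mem i hi) (by rw [h2]; exact ha0 ei) with e | e | e
    · exact e
    · rw [e] at h1 h2; omega
    · rw [e] at h1 h2; omega
  have ni : n i = 0 := by have := h.sig_n i hi; rw [hσi] at this; omega
  have nj0 : n j ≠ 0 := by have := h.par j hj; rw [sj] at this; rcases ej with e | e <;> omega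
  have hσj : σ j = k := by
    have h1 := h.sig_s j hj; have h2 := h.sig_a j hj; have h3 := h.sig_n j hj
    rcases hA _ (h.sig_mem j hj) (by rw [h2]; exact ha0 ej) with e | e | e
    · rw [e] at h1 h2; omega
    · rw [e] at h3; omega
    · exact e
  have eak : a k = a j := by rw [← hσj]; exact h.sig_a j hj
  have edk : d k = d j := by rw [← hσj]; exact h.sig_d j hj
  have enk : n k = -n j := by rw [← hσj]; exact h.sig_n j hj
  have hn4 : n i * n i + n j * n j + n k * n k + ∑ x ∈ R, n x * n x = 4 := by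
    rw [← h.nn, split_three _ hi hj hk hij hik hjk]
  rw [ni, enk] at hn4
  have hRn0 : 0 ≤ ∑ x ∈ R, n x * n x := Finset.sum_nonneg fun x _ => mul_self_nonneg _
  have hnj : n j = 1 ∨ n j = -1 := by
    obtain ⟨b1, b2⟩ := abs_le_of_sq_le (m := 2) (z := n j) (by norm_num; linarith [mul_self_nonneg (n j)])
    have := h.par j hj; rw [sj] at this
    rcases ej with e | e <;> omega
  have hRn : ∑ x ∈ R, n x * n x = 2 := by linarith [sq hnj]
  have hRs : ∑ x ∈ R, s x * s x = 6 := by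
    have := h.ss; rw [split_three _ hi hj hk hij hik hjk, si, sj, sk] at this
    linear_combination this - 4 * sq ei - sq ej - sq ek
  have hRns : ∑ x ∈ R, n x * s x = 0 := by
    have := h.ns
    rw [split_three _ hi hj hk hij hik hjk, ni, enk, sj, sk, eak] at this
    linarith
  -- the remaining rows
  have hrow : ∀ x ∈ R, (s x = 1 ∨ s x = -1) ∧ (n x = 1 ∨ n x = -1) ∨
      (s x = 2 ∨ s x = -2) ∧ n x = 0 := by
    intro x hx
    have hv := h.val x (hRT x hx).1
    rw [(hRT x hx).2] at hv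
    have h6 : s x * s x ≤ 6 := hRs ▸ Finset.single_le_sum (fun y _ => mul_self_nonneg (s y)) hx
    have h2 : n x * n x ≤ 2 := hRn ▸ Finset.single_le_sum (fun y _ => mul_self_nonneg (n y)) hx
    obtain ⟨c1, c2⟩ := abs_le_of_sq_le (m := 3) (z := s x) (by norm_num; linarith)
    obtain ⟨d1, d2⟩ := abs_le_of_sq_le (m := 2) (z := n x) (by norm_num; linarith)
    have : s x ≠ 3 ∧ s x ≠ -3 := ⟨fun e => by rw [e] at h6; norm_num at h6,
      fun e => by rw [e] at h6; norm_num at h6⟩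
    have : n x ≠ 2 ∧ n x ≠ -2 := ⟨fun e => by rw [e] at h2; norm_num at h2,
      fun e => by rw [e] at h2; norm_num at h2⟩
    have := h.par x (hRT x hx).1
    omega
  set P := R.filter fun x => s x = 1 ∨ s x = -1 with hP
  set N := R.filter fun x => ¬ (s x = 1 ∨ s x = -1) with hN
  have hcards : P.card = 2 ∧ N.card = 1 := by
    have e1 : ∑ x ∈ R, n x * n x = ∑ x ∈ P, (1 : ℤ) := by
      rw [hP, Finset.sum_filter]
      refine Finset.sum_congr rfl fun x hx => ?_
      rcases hrow x hx with ⟨h1, h2⟩ | ⟨h1, h2⟩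
      · rw [if_pos h1]; exact sq h2
      · rw [if_neg (by omega), h2]; norm_num
    have e2 : ∑ x ∈ R, s x * s x = ∑ x ∈ P, (1 : ℤ) + ∑ x ∈ N, (4 : ℤ) := by
      rw [← Finset.sum_filter_add_sum_filter_not R (fun x => s x = 1 ∨ s x = -1), ← hP, ← hN]
      congr 1
      · exact Finset.sum_congr rfl fun x hx => sq (Finset.mem_filter.1 hx).2
      · refine Finset.sum_congr rfl fun x hx => ?_
        obtain ⟨h1, h2⟩ := Finset.mem_filter.1 hx
        rcases (hrow x h1).resolve_left (fun h => h2 h.1) with ⟨e | e, -⟩ <;> rw [e] <;> norm_num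
    simp only [Finset.sum_const, nsmul_eq_mul, mul_one] at e1 e2
    omega
  obtain ⟨p, q, hpq, hPeq⟩ := Finset.card_eq_two.1 hcards.1
  obtain ⟨r, hNeq⟩ := Finset.card_eq_one.1 hcards.2
  have hpP : p ∈ P := by simp [hPeq]
  have hrN : r ∈ N := by simp [hNeq]
  obtain ⟨hpR, ep⟩ := Finset.mem_filter.1 hpP
  obtain ⟨hrR, hr1⟩ := Finset.mem_filter.1 hrN
  have er := ((hrow r hrR).resolve_left (fun h => hr1 h.1)).1
  have np := ((hrow p hpR).resolve_right (fun h => by omega)).2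
  obtain ⟨hpT, hpa⟩ := hRT p hpR
  obtain ⟨hrT, hra⟩ := hRT r hrR
  have hσp : σ p = q := by
    have ha := h.sig_a p hpT
    rw [hpa] at ha
    have hm : σ p ∈ P := Finset.mem_filter.2 ⟨by
      simp only [hR, Finset.mem_sdiff, Finset.mem_insert, Finset.mem_singleton, not_or]
      exact ⟨h.sig_mem p hpT, fun e => ha0 ei (e ▸ ha), fun e => ha0 ej (e ▸ ha),
        fun e => ha0 ek (e ▸ ha)⟩, by rw [h.sig_s p hpT]; exact ep⟩
    rw [hPeq] at hm
    rcases Finset.mem_insert.1 hm with e | e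
    · have := h.sig_n p hpT; rw [e] at this; omega
    · exact Finset.mem_singleton.1 e
  have sumR : ∀ {K : Type} [AddCommMonoid K] (f : ι → K),
      ∑ x ∈ T, f x = f i + f j + f k + (f p + f (σ p) + f r) := by
    intro K _ f
    rw [split_three _ hi hj hk hij hik hjk, ← hR,
      ← Finset.sum_filter_add_sum_filter_not R (fun x => s x = 1 ∨ s x = -1), ← hP, ← hN, hPeq, hNeq,
      Finset.sum_pair hpq, Finset.sum_singleton, hσp]
  obtain ⟨w, hw, hsr⟩ : ∃ w : ℤ, (w = 1 ∨ w = -1) ∧ s r = 2 * w := by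
    rcases er with e | e
    · exact ⟨1, .inl rfl, e⟩
    · exact ⟨-1, .inr rfl, e⟩
  have e1 := h.da
  have e2 := h.ds
  have e3 := h.pa
  have e4 := h.ps
  rw [sumR] at e1 e2 e3 e4
  simp only [h.sig_a p hpT, h.sig_s p hpT, h.sig_d p hpT, hpa, hra, hsr, si, sj, sk, eak, edk, mul_zero,
    zero_sub, Int.cast_zero, zero_div, add_zero] at e1 e2 e3 e4
  set X := a i * d i with hX
  set W := a j * d j with hW
  set B := s p * d p with hB
  set Z := w * d r with hZ
  have vi : (a i - 3 * (2 * a i)) ^ 2 = 25 := by linear_combination 25 * sq ei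
  have vj : (a j - 3 * a j) ^ 2 = 4 := by linear_combination 4 * sq ej
  have vp : (-(3 * s p)) ^ 2 = 9 := by linear_combination 9 * sq ep
  have vr : (-(3 * (2 * w))) ^ 2 = 36 := by linear_combination 36 * sq hw
  simp only [vi, vj, vp, vr] at e3 e4
  have t1 : ∀ {e : ℤ} (m D : ℤ), (e = 1 ∨ e = -1) →
      ((m * e : ℤ) : ℚ) / (D : ℚ) = (m : ℚ) / ((e * D : ℤ) : ℚ) := fun m D he => by
    rw [mul_comm m]; exact div_signed he
  rw [t1 25 (d i) ei, t1 4 (d j) ej, ← hX, ← hW] at e3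
  rw [show (25 : ℤ) * (2 * a i) = 50 * a i by ring, show (36 : ℤ) * (2 * w) = 72 * w by ring,
    t1 50 (d i) ei, t1 4 (d j) ej, t1 9 (d p) ep, t1 72 (d r) hw, ← hX, ← hW, ← hB, ← hZ] at e4
  have hXW : X = -1 - 2 * W := by rw [hX, hW]; linarith
  have hZW : Z = 1 + W - B := by
    have : X + W + Z + B = 0 := by rw [hX, hW, hB, hZ]; linarith
    omega
  have cW : W % 8 = 6 ∧ (W < 0 ∨ 14 ≤ W) := by
    have c1 := h.cong j hj; have c2 := h.nonneg j hj; have := h.deg j hj
    rw [sj] at c1 c2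
    rcases ej with e | e <;> simp only [hW, e] at c1 c2 ⊢ <;> omega
  have cB : B % 8 = 5 ∧ (B < 0 ∨ 21 ≤ B) := by
    have c1 := h.cong p hpT; have c2 := h.nonneg p hpT; have := h.deg p hpT
    rw [hpa] at c1 c2
    rcases ep with e | e <;> simp only [hB, e] at c1 c2 ⊢ <;> omega
  have cast0 : ∀ {z : ℤ}, z ≠ 0 → (z : ℚ) ≠ 0 := fun hz => Int.cast_ne_zero.2 hz
  have xq : ((-1 : ℚ) - 2 * W) ≠ 0 := by
    rw [show ((-1 : ℚ) - 2 * W) = ((-1 - 2 * W : ℤ) : ℚ) by push_cast; ring]; exact cast0 (by omega)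
  have zq : ((1 : ℚ) + W - B) ≠ 0 := by
    rw [show ((1 : ℚ) + W - B) = ((1 + W - B : ℤ) : ℚ) by push_cast; ring]; exact cast0 (by omega)
  have wq : (W : ℚ) ≠ 0 := cast0 (by omega)
  have bq : (B : ℚ) ≠ 0 := cast0 (by omega)
  rw [hXW] at e3 e4
  rw [hZW] at e4
  push_cast at e3 e4
  apply not_goodTwo W B
  refine ⟨cW.1, cB.1, cW.2, cB.2, ?_⟩
  have key : (0 : ℚ) = 4 + 250 / (-1 - 2 * W : ℚ) + 56 / W + 216 / (1 + W - B) + 54 / B := by
    linear_combination (-4 : ℚ) * e3 - 3 * e4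
  field_simp at key
  have : ((4 * ((-1 - 2 * W) * W * (1 + W - B) * B) + 250 * (W * (1 + W - B) * B) +
      56 * ((-1 - 2 * W) * (1 + W - B) * B) + 216 * ((-1 - 2 * W) * W * B) +
      54 * ((-1 - 2 * W) * W * (1 + W - B)) : ℤ) : ℚ) = 0 := by
    push_cast
    linear_combination -key
  exact_mod_cast this

/-- The numerical data determine the order of the group. -/
theorem col_data_cases (h : ColData T d a s n σ lam) :
    ∃ x y, Pair x y ∧ 6 * lam = 1 + 25 / (x : ℚ) + 25 / (y : ℚ) + 1 / ((-1 - x - y : ℤ) : ℚ) := by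
  classical
  obtain ⟨i, j, k, hi, hj, hk, hij, hik, hjk, ei, ej, ek, h0⟩ := exists_three h
  have hsum : a i * s i + a j * s j + a k * s k = 4 := by
    rw [← h.asum, split_three _ hi hj hk hij hik hjk, Finset.sum_eq_zero, add_zero]
    intro x hx
    simp only [Finset.mem_sdiff, Finset.mem_insert, Finset.mem_singleton, not_or] at hx
    rw [h0 x hx.1 hx.2.1 hx.2.2.1 hx.2.2.2, zero_mul]
  have hsq : s i * s i + s j * s j + s k * s k ≤ 12 := by
    rw [← h.ss, split_three _ hi hj hk hij hik hjk]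
    exact le_add_of_nonneg_right (Finset.sum_nonneg fun x _ => mul_self_nonneg _)
  have bound : ∀ u v w : ℤ, u + v + w = 4 → u * u + v * v + w * w ≤ 12 → u ≠ 3 → 0 ≤ u ∧ u ≤ 2 := by
    intro u v w h1 h2 h3
    have h4 : v + w = 4 - u := by linarith
    have h5 : (4 - u) * (4 - u) ≤ 2 * (v * v + w * w) := by
      rw [← h4]; nlinarith only [mul_self_nonneg (v - w)]
    have l0 : 0 ≤ u := by
      by_contra hc
      push Not at hc
      nlinarith only [h5, h2, hc]
    have u3 : u ≤ 3 := by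
      by_contra hc
      push Not at hc
      nlinarith only [h5, h2, hc]
    omega
  have sq : ∀ {e : ℤ}, e = 1 ∨ e = -1 → e * e = 1 := fun he => by rcases he with rfl | rfl <;> norm_num
  have hz : (a i * s i) * (a i * s i) + (a j * s j) * (a j * s j) + (a k * s k) * (a k * s k) ≤ 12 := by
    refine le_trans (le_of_eq ?_) hsq
    linear_combination s i * s i * sq ei + s j * s j * sq ej + s k * s k * sq ek
  have li := bound _ (a j * s j) (a k * s k) hsum hz (not_three h hi ei)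
  have lj := bound _ (a i * s i) (a k * s k) (by linarith) (by linarith) (not_three h hj ej)
  have lk := bound _ (a i * s i) (a j * s j) (by linarith) (by linarith) (not_three h hk ek)
  have back : ∀ {e z m : ℤ}, (e = 1 ∨ e = -1) → e * z = m → z = m * e := fun {e z m} he hm => by
    rw [← hm]; linear_combination -z * sq he
  have hcases : (s i = 2 * a i ∧ s j = 2 * a j ∧ s k = 0) ∨ (s i = 2 * a i ∧ s k = 2 * a k ∧ s j = 0) ∨
      (s j = 2 * a j ∧ s k = 2 * a k ∧ s i = 0) ∨ (s i = 2 * a i ∧ s j = a j ∧ s k = a k) ∨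
      (s j = 2 * a j ∧ s i = a i ∧ s k = a k) ∨ (s k = 2 * a k ∧ s i = a i ∧ s j = a j) := by
    obtain ⟨u, hu⟩ : ∃ u, a i * s i = u := ⟨_, rfl⟩
    obtain ⟨v, hv⟩ : ∃ v, a j * s j = v := ⟨_, rfl⟩
    obtain ⟨w, hw⟩ : ∃ w, a k * s k = w := ⟨_, rfl⟩
    rw [hu, hv, hw] at hsum
    rw [hu] at li; rw [hv] at lj; rw [hw] at lk
    have bi := back ei hu
    have bj := back ej hv
    have bk := back ek hw
    rcases (show u = 0 ∨ u = 1 ∨ u = 2 by omega) with rfl | rfl | rfl <;>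
      rcases (show v = 0 ∨ v = 1 ∨ v = 2 by omega) with rfl | rfl | rfl <;>
      rcases (show w = 0 ∨ w = 1 ∨ w = 2 by omega) with rfl | rfl | rfl <;> omega
  rcases hcases with ⟨x, y, z⟩ | ⟨x, y, z⟩ | ⟨x, y, z⟩ | ⟨x, y, z⟩ | ⟨x, y, z⟩ | ⟨x, y, z⟩
  · exact case_two h hi hj hk hij hik hjk ei ej ek h0 x y z
  · exact case_two h hi hk hj hik hij hjk.symm ei ek ej
      (fun w hw a b c => h0 w hw a c b) x y z
  · exact case_two h hj hk hi hjk hij.symm hik.symm ej ek ei
      (fun w hw a b c => h0 w hw c a b) x y z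
  · exact (case_one h hi hj hk hij hik hjk ei ej ek h0 x y z).elim
  · exact (case_one h hj hi hk hij.symm hjk hik ej ei ek
      (fun w hw a b c => h0 w hw b a c) x y z).elim
  · exact (case_one h hk hi hj hik.symm hjk.symm hij ek ei ej
      (fun w hw a b c => h0 w hw b c a) x y z).elim

end Cfsg.Agent.PermGroups.JOne
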