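import Cfsg.Agent.PermGroups.JOne.Dict
import Cfsg.Agent.PermGroups.JOne.Combi
import Cfsg.Agent.Blocks.PrincipalGalois

/-!
The principal `2`-block of a group with an involution centralizer `2 × A₅` determines the order up
to two possibilities.
-/

set_option autoImplicit false
set_option linter.unusedSectionVars false
set_option linter.style.haveILetI false
set_option maxHeartbeats 1000000

namespace Cfsg.Agent.PermGroups.JOne

open Cfsg Cfsg.Agent
open scoped ComplexConjugate

universe u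

variable {G : Type u} [Group G] [Fintype G]

/-- Values along `t` times a cyclic group of odd order have integral Fourier coefficients. -/
theorem fourier_full (χ : IrrCharacter G) {t y : G} (hc : Commute t y) (ht : t * t = 1) {m : ℕ}
    (hy : orderOf y = m) (hm : Odd m) {η : ℂ} (hη : η ^ m = 1) :
    ∃ Z : ℤ, ∑ k ∈ Finset.range m, η ^ k * (χ : G → ℂ) (t * y ^ k) = (m : ℂ) * (Z : ℂ) := by
  classical
  obtain ⟨n, ρ, -, hρ⟩ := χ.2
  obtain ⟨z, hz, hcz, -, -⟩ := Chars.exists_eigenvalues ρ (t * y)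
  obtain ⟨j, hj⟩ := hm
  have ht2 : ∀ e : ℕ, Odd e → t ^ e = t := by
    rintro e ⟨i, rfl⟩
    rw [pow_succ, pow_mul, pow_two, ht, one_pow, one_mul]
  have hym : y ^ m = 1 := by rw [← hy]; exact pow_orderOf_eq_one y
  have hw : (t * y) ^ (2 * m) = 1 := by
    rw [hc.mul_pow, pow_mul, pow_two, ht, one_pow, one_mul, mul_comm 2 m, pow_mul, hym, one_pow]
  have hz2 : ∀ i, z i ^ (2 * m) = 1 := by
    intro i
    obtain ⟨q, hq⟩ := orderOf_dvd_of_pow_eq_one hw
    rw [hq, pow_mul, hz i, one_pow]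
  have hval : ∀ k : ℕ, (χ : G → ℂ) (t * y ^ k) = ∑ i, z i ^ m * (z i ^ (m + 1)) ^ k := by
    intro k
    have e : t * y ^ k = (t * y) ^ (m + (m + 1) * k) := by
      rw [hc.mul_pow, ht2 _ ⟨j + (j + 1) * k, by rw [hj]; ring⟩, pow_add y m, hym,
        one_mul, pow_mul, pow_succ, hym, one_mul]
    rw [e, ← hρ, hcz]
    exact Finset.sum_congr rfl fun i _ => by rw [pow_add, pow_mul]
  refine ⟨∑ i, if η * z i ^ (m + 1) = 1 then (if z i ^ m = 1 then 1 else -1) else 0, ?_⟩
  simp only [hval, Finset.mul_sum]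
  rw [Finset.sum_comm, Int.cast_sum, Finset.mul_sum]
  refine Finset.sum_congr rfl fun i _ => ?_
  have hs : z i ^ m = ((if z i ^ m = 1 then 1 else -1 : ℤ) : ℂ) := by
    split_ifs with h
    · simpa using h
    · have h1 : z i ^ m * z i ^ m = 1 := by rw [← pow_add, ← two_mul]; exact hz2 i
      rcases mul_self_eq_one_iff.1 h1 with e | e
      · exact absurd e h
      · simpa using e
  have e : ∀ k : ℕ, η ^ k * (z i ^ m * (z i ^ (m + 1)) ^ k) = z i ^ m * (η * z i ^ (m + 1)) ^ k := by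
    intro k
    rw [mul_pow η]; ring
  rw [Finset.sum_congr rfl fun k _ => e k, ← Finset.mul_sum]
  by_cases h : η * z i ^ (m + 1) = 1
  · rw [if_pos h, h]
    simp only [one_pow, Finset.sum_const, Finset.card_range, nsmul_eq_mul, mul_one]
    rw [← hs]; ring
  · rw [if_neg h, geom_sum_eq h, mul_pow η, ← pow_mul (z i), hη,
      show (m + 1) * m = (2 * m) * (j + 1) by rw [hj]; ring, pow_mul (z i), hz2, one_pow]
    simp

open scoped Classical in
/-- The number of elements conjugating one element to another. -/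
theorem card_conjugators (x y : G) :
    (Finset.univ.filter fun b : G => b * x * b⁻¹ = y).card =
      if IsConj x y then Nat.card (Subgroup.centralizer ({x} : Set G)) else 0 := by
  classical
  split_ifs with h
  · obtain ⟨b₀, hb₀⟩ := isConj_iff.1 h
    rw [Nat.card_congr (Equiv.subtypeEquivRight (q := fun g : G => g * x = x * g) fun g =>
      Subgroup.mem_centralizer_singleton_iff), Nat.card_eq_fintype_card, Fintype.card_subtype]
    refine Finset.card_equiv (Equiv.mulLeft b₀⁻¹) fun b => ?_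
    simp only [Finset.mem_filter, Finset.mem_univ, true_and, Equiv.coe_mulLeft]
    rw [← hb₀, mul_inv_eq_iff_eq_mul]
    constructor
    · intro hb
      calc b₀⁻¹ * b * x = b₀⁻¹ * (b * x) := mul_assoc _ _ _
        _ = b₀⁻¹ * (b₀ * x * b₀⁻¹ * b) := by rw [hb]
        _ = x * (b₀⁻¹ * b) := by group
    · intro hb
      calc b * x = b₀ * (b₀⁻¹ * b * x) := by group
        _ = b₀ * (x * (b₀⁻¹ * b)) := by rw [hb]
        _ = b₀ * x * b₀⁻¹ * b := by group
  · rw [Finset.card_eq_zero, Finset.filter_eq_empty_iff]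
    exact fun b _ hb => h (isConj_iff.2 ⟨b, hb⟩)

open scoped Classical in
/-- A sum over the conjugates of an involution. -/
theorem sum_conj_involution {t : G} (hto : orderOf t = 2)
    (hone : ∀ s t : G, orderOf s = 2 → orderOf t = 2 → IsConj s t) (f : G → ℂ) :
    ∑ b : G, f (b * t * b⁻¹) = (Nat.card (Subgroup.centralizer ({t} : Set G)) : ℂ) *
      ∑ x ∈ Finset.univ.filter (fun x : G => orderOf x = 2), f x := by
  classical
  rw [← Finset.sum_fiberwise_of_maps_to (t := Finset.univ.filter (fun x : G => orderOf x = 2))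
    (g := fun b => b * t * b⁻¹) (fun b _ => Finset.mem_filter.2 ⟨Finset.mem_univ _, by
      have : orderOf (b * t * b⁻¹) = orderOf t := by
        rw [← MulAut.conj_apply]; exact MulEquiv.orderOf_eq (MulAut.conj b) t
      rw [this, hto]⟩), Finset.mul_sum]
  refine Finset.sum_congr rfl fun x hx => ?_
  rw [Finset.sum_congr rfl (g := fun _ => f x) (fun b hb => by rw [(Finset.mem_filter.1 hb).2]),
    Finset.sum_const, nsmul_eq_mul, card_conjugators,
    if_pos (hone t x hto (Finset.mem_filter.1 hx).2)]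

open scoped Classical in
/-- The class algebra constant of an involution with itself. -/
theorem pairing_count {t : G} (hto : orderOf t = 2)
    (hone : ∀ s t : G, orderOf s = 2 → orderOf t = 2 → IsConj s t) (g : G) :
    (Nat.card G : ℂ) *
        (∑ χ : IrrCharacter G, (χ : G → ℂ) t * (χ : G → ℂ) t / (χ : G → ℂ) 1 * (χ : G → ℂ) g) =
      (Nat.card (Subgroup.centralizer ({t} : Set G)) : ℂ) ^ 2 *
        ((Finset.univ.filter fun x : G => orderOf x = 2 ∧ orderOf (x * g⁻¹) = 2).card : ℂ) := by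
  classical
  have e : (Nat.card G : ℂ) * (∑ χ : IrrCharacter G,
      (χ : G → ℂ) t * (χ : G → ℂ) t / (χ : G → ℂ) 1 * (χ : G → ℂ) g) =
      ∑ a : G, ∑ χ : IrrCharacter G, (χ : G → ℂ) (t * (a * t * a⁻¹)) * conj ((χ : G → ℂ) g⁻¹) := by
    rw [Finset.mul_sum, Finset.sum_comm]
    refine Finset.sum_congr rfl fun χ _ => ?_
    rw [← Finset.sum_mul, Blocks.sum_apply_mul_conj,
      Chars.char_inv_eq_conj (Chars.irr_isCharacter χ) g, Complex.conj_conj]
    ring
  rw [e]
  have e2 : ∀ a : G, ∑ χ : IrrCharacter G, (χ : G → ℂ) (t * (a * t * a⁻¹)) * conj ((χ : G → ℂ) g⁻¹) =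
      ∑ b : G, if b * t * b⁻¹ * ((b * a) * t * (b * a)⁻¹) = g⁻¹ then (1 : ℂ) else 0 := by
    intro a
    rw [Chars.column_orth, Finset.sum_boole,
      Finset.filter_congr (q := fun b : G => b * (t * (a * t * a⁻¹)) * b⁻¹ = g⁻¹) (fun b _ => by
        rw [show b * t * b⁻¹ * ((b * a) * t * (b * a)⁻¹) = b * (t * (a * t * a⁻¹)) * b⁻¹ by group]),
      card_conjugators]
    split_ifs <;> simp
  simp only [e2]
  rw [Finset.sum_comm]
  have e3 : ∀ b : G, (∑ a : G, if b * t * b⁻¹ * ((b * a) * t * (b * a)⁻¹) = g⁻¹ then (1 : ℂ) else 0) =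
      (Nat.card (Subgroup.centralizer ({t} : Set G)) : ℂ) *
        ∑ y ∈ Finset.univ.filter (fun x : G => orderOf x = 2), if b * t * b⁻¹ * y = g⁻¹ then (1 : ℂ) else 0 := by
    intro b
    rw [← sum_conj_involution hto hone (fun y => if b * t * b⁻¹ * y = g⁻¹ then (1 : ℂ) else 0)]
    exact Fintype.sum_equiv (Equiv.mulLeft b) _ _ fun a => rfl
  simp only [e3]
  rw [← Finset.mul_sum, sum_conj_involution hto hone (fun x =>
    ∑ y ∈ Finset.univ.filter (fun x : G => orderOf x = 2), if x * y = g⁻¹ then (1 : ℂ) else 0),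
    ← mul_assoc, ← pow_two]
  congr 1
  rw [Finset.sum_congr rfl (g := fun x => if orderOf (x * g⁻¹) = 2 then (1 : ℂ) else 0) fun x hx => ?_,
    Finset.sum_boole, Finset.filter_filter]
  have hx2 := (Finset.mem_filter.1 hx).2
  have hxi : x⁻¹ = x := inv_eq_of_mul_eq_one_right (by rw [← pow_two, ← hx2]; exact pow_orderOf_eq_one x)
  have hiff : ∀ y, x * y = g⁻¹ ↔ x * g⁻¹ = y := fun y => by
    constructor
    · intro h; rw [← h, ← mul_assoc]; nth_rw 1 [← hxi]; rw [inv_mul_cancel, one_mul]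
    · intro h; rw [← h, ← mul_assoc]; nth_rw 1 [← hxi]; rw [inv_mul_cancel, one_mul]
  simp only [hiff, Finset.sum_ite_eq, Finset.mem_filter, Finset.mem_univ, true_and]

variable {t : G} (e : Subgroup.centralizer ({t} : Set G) ≃* Multiplicative (ZMod 2) × A₅)

/-- The value at the translate by the involution of an element of the simple factor. -/
noncomputable def col (χ : IrrCharacter G) (s : A₅) : ℂ := (χ : G → ℂ) (t * (iota e s : G))

theorem coe_tau (hto : orderOf t = 2) : ((tau e : Subgroup.centralizer ({t} : Set G)) : G) = t := by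
  set z : Subgroup.centralizer ({t} : Set G) := ⟨t, Subgroup.mem_centralizer_singleton_iff.2 rfl⟩ with hz
  have h : z = tau e := central_unique e
    (fun h => Subtype.ext (Subgroup.mem_centralizer_singleton_iff.1 h.2).symm)
    (fun h => by
      have h1 : t = 1 := congrArg Subtype.val h
      rw [h1, orderOf_one] at hto
      norm_num at hto)
  rw [← h]

theorem commute_iota (s : A₅) : Commute t (iota e s : G) := Blocks.commute_of_mem_centralizer _

theorem col_conj (χ : IrrCharacter G) (g s : A₅) : col e χ (g * s * g⁻¹) = col e χ s := by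
  unfold col
  conv_rhs => rw [← Chars.isClassFunction_irr χ (t * (iota e s : G)) (iota e g : G)]
  congr 1
  rw [map_mul, map_mul, map_inv, Subgroup.coe_mul, Subgroup.coe_mul, Subgroup.coe_inv]
  simp only [← mul_assoc]
  rw [← (commute_iota e g).eq]

theorem col_real (hto : orderOf t = 2) (χ : IrrCharacter G) (s : A₅) : conj (col e χ s) = col e χ s := by
  obtain ⟨g, hg⟩ := real_all s
  conv_rhs => rw [← col_conj e χ g s, hg]
  unfold col
  rw [← Chars.char_inv_eq_conj (Chars.irr_isCharacter χ), map_inv, Subgroup.coe_inv, mul_inv_rev,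
    inv_eq_of_mul_eq_one_right (show t * t = 1 by rw [← pow_two, ← hto]; exact pow_orderOf_eq_one t),
    (commute_iota e s).inv_right.eq]

theorem not_two_dvd_iff (s : A₅) : ¬ 2 ∣ orderOf s ↔ (s * s ≠ 1 ∨ s = 1) := by
  constructor
  · intro h
    by_contra hc
    push Not at hc
    exact h (dvd_of_eq (orderOf_eq_prime (by rw [pow_two]; exact hc.1) hc.2).symm)
  · intro h h2
    rcases (regular_iff s).1 h with h3 | h5
    · have := h2.trans (orderOf_dvd_of_pow_eq_one (show s ^ 3 = 1 by simpa [pow_succ, mul_assoc] using h3))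
      norm_num at this
    · have := h2.trans (orderOf_dvd_of_pow_eq_one (show s ^ 5 = 1 by simpa [pow_succ, mul_assoc] using h5))
      norm_num at this

theorem orderOf_two_iff {K : Type*} [Monoid K] (x : K) : orderOf x = 2 ↔ x * x = 1 ∧ x ≠ 1 := by
  rw [← pow_two]
  refine ⟨fun h => ⟨by rw [← h]; exact pow_orderOf_eq_one x, fun e => by simp [e] at h⟩,
    fun h => orderOf_eq_prime h.1 h.2⟩

open scoped Classical in
/-- The involution pairs lie in the centralizer. -/
theorem pairs_eq (hto : orderOf t = 2) {s : A₅} (hs : ¬ 2 ∣ orderOf s) :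
    (Finset.univ.filter fun x : G => orderOf x = 2 ∧ orderOf (x * (t * (iota e s : G))⁻¹) = 2).card =
      pairInt s := by
  classical
  haveI : Fact (Nat.Prime 2) := ⟨Nat.prime_two⟩
  have htt : t * t = 1 := ((orderOf_two_iff t).1 hto).1
  have hti : t⁻¹ = t := inv_eq_of_mul_eq_one_right htt
  have hz : ∃ k : ℕ, orderOf t = 2 ^ k := ⟨1, by rw [hto, pow_one]⟩
  letI : Fintype (Subgroup.centralizer ({t} : Set G)) := Fintype.ofFinite _
  have hh : (t * (iota e s : G))⁻¹ = t * (iota e s⁻¹ : G) := by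
    rw [mul_inv_rev, hti, map_inv, Subgroup.coe_inv, (commute_iota e s).inv_right.eq]
  have hin : ∀ x : G, orderOf x = 2 → orderOf (x * (t * (iota e s : G))⁻¹) = 2 →
      x ∈ Subgroup.centralizer ({t} : Set G) := by
    intro x hx hxh
    set h := (t * (iota e s : G))⁻¹ with hdef
    have hx2 := ((orderOf_two_iff x).1 hx).1
    have hxi : x⁻¹ = x := inv_eq_of_mul_eq_one_right hx2
    have hconj : x * h * x⁻¹ = h⁻¹ := by
      rw [hxi]
      refine eq_inv_of_mul_eq_one_left ?_
      rw [mul_assoc (x * h) x h]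
      exact ((orderOf_two_iff (x * h)).1 hxh).1
    have h1 := congrArg (Blocks.ppart 2) hconj
    rw [Blocks.ppart_conj, inv_inv, hh,
      Blocks.ppart_mul (commute_iota e s⁻¹) hz (by rwa [Subgroup.orderOf_coe, orderOf_iota, orderOf_inv]),
      Blocks.ppart_mul (commute_iota e s) hz (by rwa [Subgroup.orderOf_coe, orderOf_iota])] at h1
    exact Subgroup.mem_centralizer_singleton_iff.2 (mul_inv_eq_iff_eq_mul.1 h1)
  have step : (Finset.univ.filter fun x : G => orderOf x = 2 ∧ orderOf (x * (t * (iota e s : G))⁻¹) = 2).card =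
      (Finset.univ.filter fun c : Subgroup.centralizer ({t} : Set G) =>
        orderOf c = 2 ∧ orderOf (c * (tau e * iota e s⁻¹)) = 2).card := by
    symm
    refine Finset.card_bij (fun c _ => (c : G)) (fun c hc => ?_) (fun a _ b _ h => Subtype.ext h) ?_
    · obtain ⟨h1, h2⟩ := (Finset.mem_filter.1 hc).2
      refine Finset.mem_filter.2 ⟨Finset.mem_univ _, by rwa [Subgroup.orderOf_coe], ?_⟩
      rw [← Subgroup.orderOf_coe, Subgroup.coe_mul, Subgroup.coe_mul, coe_tau e hto] at h2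
      rwa [hh]
    · intro x hx
      obtain ⟨h1, h2⟩ := (Finset.mem_filter.1 hx).2
      refine ⟨⟨x, hin x h1 h2⟩, Finset.mem_filter.2 ⟨Finset.mem_univ _, ?_, ?_⟩, rfl⟩
      · rwa [← Subgroup.orderOf_coe]
      · rw [← Subgroup.orderOf_coe, Subgroup.coe_mul, Subgroup.coe_mul, coe_tau e hto, ← hh]
        exact h2
  rw [step, Finset.card_filter, sum_split e, ← Finset.card_filter, ← Finset.card_filter, pairInt, two_mul]
  have hs' := (not_two_dvd_iff s).1 hs
  have tt := tau_mul_self e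
  have tsq : ∀ g : A₅, (tau e * iota e g) * (tau e * iota e g) = iota e (g * g) := fun g => by
    rw [mul_assoc, ← mul_assoc (iota e g), ← (tau_comm e (iota e g)).eq, mul_assoc (tau e) (iota e g),
      ← mul_assoc, tt, one_mul, map_mul]
  have inj : ∀ g : A₅, iota e g = 1 ↔ g = 1 :=
    fun g => map_eq_one_iff _ (iota_injective e)
  have tne : ∀ g : A₅, tau e * iota e g ≠ 1 := fun g h => tau_mul_iota_ne e g 1 (by rw [h, map_one])
  congr 1 <;> refine congrArg Finset.card (Finset.filter_congr fun g _ => ?_)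
  · rw [orderOf_two_iff, orderOf_two_iff,
      show iota e g * (tau e * iota e s⁻¹) = tau e * iota e (g * s⁻¹) by
        rw [← mul_assoc, ← (tau_comm e (iota e g)).eq, mul_assoc, map_mul],
      ← map_mul, tsq]
    simp only [Ne, inj]
    constructor
    · rintro ⟨⟨a, b⟩, c, -⟩; exact ⟨a, b, c⟩
    · rintro ⟨a, b, c⟩; exact ⟨⟨a, b⟩, c, tne _⟩
  · rw [orderOf_two_iff, orderOf_two_iff,
      show tau e * iota e g * (tau e * iota e s⁻¹) = iota e (g * s⁻¹) by
        rw [mul_assoc, ← mul_assoc (iota e g), ← (tau_comm e (iota e g)).eq, mul_assoc (tau e) (iota e g),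
          ← mul_assoc, tt, one_mul, map_mul],
      ← map_mul, tsq]
    simp only [Ne, inj]
    constructor
    · rintro ⟨⟨a, -⟩, c, d⟩
      refine ⟨a, fun g1 => ?_, c⟩
      rw [g1, one_mul] at c d
      rcases hs' with hs' | hs'
      · exact hs' (inv_eq_one.1 (by rw [mul_inv_rev]; exact c))
      · exact d (by rw [hs', inv_one])
    · rintro ⟨a, b, c⟩
      refine ⟨⟨a, tne g⟩, c, fun d => ?_⟩
      have gs : g = s := mul_inv_eq_one.1 d
      rcases hs' with hs' | hs'
      · exact hs' (gs ▸ a)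
      · exact b (gs.trans hs')

include e in
/-- The order of a simple group with an involution centralizer `2 × A₅` and one class of
involutions. -/
theorem card_cases [IsSimpleGroup G] (hna : ¬ ∀ a b : G, a * b = b * a) (S : Sylow 2 G)
    (hS : IsElementaryAbelian 2 (S : Subgroup G)) (hS8 : Nat.card ↥(S : Subgroup G) = 8)
    (hto : orderOf t = 2) (hone : ∀ s t : G, orderOf s = 2 → orderOf t = 2 → IsConj s t) :
    Nat.card G = 175560 ∨ Nat.card G = 189000 := by
  classical
  haveI : Fact (Nat.Prime 2) := ⟨Nat.prime_two⟩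
  obtain ⟨M, hMmax, h2M⟩ := DegreeGraph.exists_isMaximal_mem 2
  haveI := hMmax
  have htt : t * t = 1 := ((orderOf_two_iff t).1 hto).1
  have hz : ∃ k : ℕ, orderOf t = 2 ^ k := ⟨1, by rw [hto, pow_one]⟩
  letI : Fintype (Subgroup.centralizer ({t} : Set G)) := Fintype.ofFinite _
  have hCidx : ¬ 2 ∣ (Subgroup.centralizer ({t} : Set G)).index := by
    intro h
    have h1 := Subgroup.card_mul_index (Subgroup.centralizer ({t} : Set G))
    have h2 := (S : Subgroup G).card_mul_index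
    rw [card_H e] at h1
    rw [hS8] at h2
    have h3 := S.not_dvd_index
    omega
  set B := Finset.univ.filter (· ∈ principalBlock M G) with hB
  have hreg : ∀ s : A₅, (s * s ≠ 1 ∨ s = 1) → ¬ 2 ∣ orderOf (iota e s) := fun s hs => by
    rw [orderOf_iota]; exact (not_two_dvd_iff s).2 hs
  have hr1 : ((1 : A₅) * 1 ≠ 1 ∨ (1 : A₅) = 1) := .inr rfl
  have hr3 : (g₃ * g₃ ≠ 1 ∨ g₃ = 1) := by decide
  have hr5 : (g₅ * g₅ ≠ 1 ∨ g₅ = 1) := by decide
  have hr25 : (g₅ * g₅ * (g₅ * g₅) ≠ 1 ∨ g₅ * g₅ = 1) := by decide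
  -- inner products
  have hgram : ∀ x y : A₅, (x * x ≠ 1 ∨ x = 1) → (y * y ≠ 1 ∨ y = 1) →
      ∑ χ ∈ B, col e χ y * col e χ x = (kerInt x y : ℂ) := by
    intro x y hx hy
    rw [← blockKer_iota e h2M x y, ← Eight.column_inner h2M hz (hreg x hx) (hreg y hy)]
    exact Finset.sum_congr rfl fun χ _ => by
      show col e χ y * col e χ x = conj (col e χ y) * col e χ x
      rw [col_real e hto]
  -- degree relations
  have hd : ∀ χ : IrrCharacter G, (χ : G → ℂ) 1 = (charDegree (χ : G → ℂ) : ℂ) := fun χ =>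
    (Blocks.charDegree_eq χ.2).1
  have hdeg : ∀ s : A₅, (s * s ≠ 1 ∨ s = 1) → ∑ χ ∈ B, (χ : G → ℂ) 1 * col e χ s = 0 := by
    intro s hs
    refine Eq.trans (Finset.sum_congr rfl fun χ _ => ?_)
      (Blocks.block_orth_weak h2M Blocks.isPBlock_principal (x := (1 : G)) (y := t * (iota e s : G))
        (by rw [orderOf_one]; norm_num) ?_)
    · show _ = (χ : G → ℂ) 1 * conj (col e χ s)
      rw [col_real e hto]
    · have h := two_dvd_tau_mul e s
      rwa [← Subgroup.orderOf_coe, Subgroup.coe_mul, coe_tau e hto] at h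
  -- pairing relations
  have hg0 : (Nat.card G : ℂ) ≠ 0 := Nat.cast_ne_zero.2 Nat.card_pos.ne'
  set lam : ℂ := 14400 / (Nat.card G : ℂ) with hlam
  have hpair : ∀ x : A₅, (x * x ≠ 1 ∨ x = 1) →
      ∑ χ ∈ B, (χ : G → ℂ) t * (χ : G → ℂ) t / (χ : G → ℂ) 1 * col e χ x =
        lam / 120 * ((∑ s ∈ (Finset.univ.filter fun s : A₅ => s * s ≠ 1 ∨ s = 1),
          (pairInt s : ℤ) * kerInt x s : ℤ) : ℂ) := by
    intro x hx
    refine (Eight.weighted_column h2M hz (hreg x hx) _).trans ?_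
    rw [card_H e, sum_split e, Finset.sum_eq_zero (s := (Finset.univ : Finset A₅))
      (f := fun s => _ * Eight.blockKer M (iota e x) (tau e * iota e s)) (fun s _ => by
        rw [Eight.blockKer_eq_zero h2M (hreg x hx) (two_dvd_tau_mul e s), mul_zero]), add_zero,
      Finset.sum_filter, Int.cast_sum, Finset.mul_sum, Finset.mul_sum]
    refine Finset.sum_congr rfl fun s _ => ?_
    split_ifs with hs
    · have hθ := pairing_count hto hone (t * (iota e s : G))
      rw [pairs_eq e hto ((not_two_dvd_iff s).2 hs), card_H e] at hθ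
      rw [blockKer_iota e h2M]
      push_cast at hθ ⊢
      rw [hlam]
      generalize (∑ χ : IrrCharacter G,
        (χ : G → ℂ) t * (χ : G → ℂ) t / (χ : G → ℂ) 1 * (χ : G → ℂ) (t * (iota e s : G))) = Θ at hθ ⊢
      field_simp
      linear_combination (kerInt x s : ℂ) * hθ
    · rw [Eight.blockKer_eq_zero h2M (hreg x hx)
        (by rw [orderOf_iota]; by_contra h; exact hs ((not_two_dvd_iff s).1 h))]
      simp
  -- the integral columns
  choose v hv using fun χ : IrrCharacter G =>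
    Chars2.int_value_involution χ (t := t) (by rw [pow_two]; exact htt)
  have hc1 : ∀ χ : IrrCharacter G, col e χ 1 = (v χ : ℂ) := fun χ => by
    simp only [col, map_one, Subgroup.coe_one, mul_one, hv]
  have o3 : orderOf ((iota e g₃ : Subgroup.centralizer ({t} : Set G)) : G) = 3 := by
    rw [Subgroup.orderOf_coe, orderOf_iota]
    exact orderOf_eq_prime (by rw [pow_succ, pow_two]; exact g3_cube) g3_ne
  have o5 : orderOf ((iota e g₅ : Subgroup.centralizer ({t} : Set G)) : G) = 5 := by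
    rw [Subgroup.orderOf_coe, orderOf_iota]
    haveI : Fact (Nat.Prime 5) := ⟨by norm_num⟩
    exact orderOf_eq_prime (by simpa [pow_succ, mul_assoc] using g5_five) g5_ne
  have hpowcol : ∀ (χ : IrrCharacter G) (s : A₅) (k : ℕ),
      (χ : G → ℂ) (t * (iota e s : G) ^ k) = col e χ (s ^ k) := fun χ s k => by
    rw [col, map_pow, SubmonoidClass.coe_pow]
  have hg32 : ∀ χ : IrrCharacter G, col e χ (g₃ ^ 2) = col e χ g₃ := fun χ => by
    obtain ⟨g, hg⟩ := g3_sq
    rw [pow_two, ← hg, col_conj]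
  obtain ⟨ω, hω⟩ : ∃ ω : ℂ, IsPrimitiveRoot ω 3 := ⟨_, Complex.isPrimitiveRoot_exp 3 (by norm_num)⟩
  have hω3 : ω ^ 3 = 1 := hω.pow_eq_one
  have hωsum : 1 + ω + ω ^ 2 = 0 := by
    have := hω.geom_sum_eq_zero (by norm_num)
    simpa [Finset.sum_range_succ] using this
  choose W hW using fun χ : IrrCharacter G =>
    fourier_full χ (commute_iota e g₃) htt o3 (by decide) hω3
  set sc : IrrCharacter G → ℤ := fun χ => -W χ with hsc
  set ac : IrrCharacter G → ℤ := fun χ => v χ - 3 * W χ with hac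
  have hvas : ∀ χ, v χ = ac χ - 3 * sc χ := fun χ => by simp only [hsc, hac]; ring
  have hc3 : ∀ χ : IrrCharacter G, col e χ g₃ = (ac χ : ℂ) := fun χ => by
    have h := hW χ
    simp only [Finset.sum_range_succ, Finset.sum_range_zero, hpowcol, pow_zero, one_mul, zero_add,
      pow_one, hg32, hc1] at h
    simp only [hac]
    push_cast at h ⊢
    linear_combination -h + (col e χ g₃) * hωsum
  obtain ⟨ζ, hζ⟩ : ∃ ζ : ℂ, IsPrimitiveRoot ζ 5 := ⟨_, Complex.isPrimitiveRoot_exp 5 (by norm_num)⟩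
  have hζ5 : ζ ^ 5 = 1 := hζ.pow_eq_one
  have hζsum : 1 + ζ + ζ ^ 2 + ζ ^ 3 + ζ ^ 4 = 0 := by
    have := hζ.geom_sum_eq_zero (by norm_num)
    simpa [Finset.sum_range_succ] using this
  set δ : ℂ := ζ + ζ ^ 4 - ζ ^ 2 - ζ ^ 3 with hδ
  have hδ2 : δ * δ = 5 := by
    rw [hδ]
    linear_combination (-(1 : ℂ)) * hζsum + (ζ ^ 3 - 2 * ζ ^ 2 - ζ + 4) * hζ5
  have hδ0 : δ ≠ 0 := fun h => by rw [h] at hδ2; norm_num at hδ2
  set u₁ : IrrCharacter G → ℂ := fun χ => col e χ g₅ with hu1
  set u₂ : IrrCharacter G → ℂ := fun χ => col e χ (g₅ * g₅) with hu2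
  have hg54 : ∀ χ : IrrCharacter G, col e χ (g₅ ^ 4) = u₁ χ := fun χ => by
    obtain ⟨g, hg⟩ := five_conj.1
    rw [show g₅ ^ 4 = g₅ * g₅ * (g₅ * g₅) by simp [pow_succ, mul_assoc], ← hg, col_conj]
  have hg53 : ∀ χ : IrrCharacter G, col e χ (g₅ ^ 3) = u₂ χ := fun χ => by
    obtain ⟨g, hg⟩ := five_conj.2
    rw [show g₅ ^ 3 = g₅ * g₅ * g₅ by simp [pow_succ, mul_assoc], ← hg, col_conj]
  have hg52 : ∀ χ : IrrCharacter G, col e χ (g₅ ^ 2) = u₂ χ := fun χ => by rw [pow_two]
  choose Z₀ hZ₀ using fun χ : IrrCharacter G =>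
    fourier_full χ (commute_iota e g₅) htt o5 (by decide) (one_pow 5 : (1 : ℂ) ^ 5 = 1)
  choose Z₁ hZ₁ using fun χ : IrrCharacter G =>
    fourier_full χ (commute_iota e g₅) htt o5 (by decide) hζ5
  choose Z₂ hZ₂ using fun χ : IrrCharacter G =>
    fourier_full χ (commute_iota e g₅) htt o5 (by decide)
      (show (ζ ^ 2) ^ 5 = 1 by rw [← pow_mul, show 2 * 5 = 5 * 2 by rfl, pow_mul, hζ5, one_pow])
  simp only [Finset.sum_range_succ, Finset.sum_range_zero, hpowcol, pow_zero, one_mul, zero_add,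
    pow_one, one_pow, hg52, hg53, hg54, hc1] at hZ₀ hZ₁ hZ₂
  have G11 : ∑ χ ∈ B, ((v χ : ℂ) * v χ) = 88 := by
    have := hgram 1 1 hr1 hr1
    simpa [hc1, kerInt_values.1] using this
  obtain ⟨K11, K33, K31, K13, K55, K66, K56, K65, K51, K15, K61, K16, K53, K35, K63, K36⟩ := kerInt_values
  have G33 : ∑ χ ∈ B, ((ac χ : ℂ) * ac χ) = 4 := by
    have := hgram g₃ g₃ hr3 hr3
    simpa [hc3, K33] using this
  have G13 : ∑ χ ∈ B, ((v χ : ℂ) * ac χ) = -8 := by
    have := hgram g₃ 1 hr3 hr1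
    simpa [hc1, hc3, K31] using this
  have G55 : ∑ χ ∈ B, u₁ χ * u₁ χ = 8 := by simpa [K55] using hgram g₅ g₅ hr5 hr5
  have G66 : ∑ χ ∈ B, u₂ χ * u₂ χ = 8 := by simpa [K66] using hgram _ _ hr25 hr25
  have G56 : ∑ χ ∈ B, u₁ χ * u₂ χ = -2 := by simpa [K65] using hgram _ _ hr25 hr5
  have G15 : ∑ χ ∈ B, (v χ : ℂ) * u₁ χ = 8 := by
    have := hgram g₅ 1 hr5 hr1
    simpa [hc1, K51] using this
  have G16 : ∑ χ ∈ B, (v χ : ℂ) * u₂ χ = 8 := by
    have := hgram _ 1 hr25 hr1
    simpa [hc1, K61] using this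
  have G35 : ∑ χ ∈ B, (ac χ : ℂ) * u₁ χ = 2 := by
    have := hgram g₅ g₃ hr5 hr3
    simpa [hc3, K53] using this
  have G36 : ∑ χ ∈ B, (ac χ : ℂ) * u₂ χ = 2 := by
    have := hgram _ g₃ hr25 hr3
    simpa [hc3, K63] using this
  have hZ0eq : ∀ χ ∈ B, 3 * Z₀ χ = v χ + 2 * ac χ := by
    have h0 : ∑ χ ∈ B, (3 * Z₀ χ - v χ - 2 * ac χ) * (3 * Z₀ χ - v χ - 2 * ac χ) = 0 := by
      refine Int.cast_injective (α := ℂ) ?_
      rw [Int.cast_zero, Int.cast_sum, ← mul_right_inj' (show (25 : ℂ) ≠ 0 by norm_num), mul_zero,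
        Finset.mul_sum]
      rw [Finset.sum_congr rfl (g := fun χ => 36 * (u₁ χ * u₁ χ) + 72 * (u₁ χ * u₂ χ) + 36 * (u₂ χ * u₂ χ) +
        4 * ((v χ : ℂ) * v χ) + 100 * ((ac χ : ℂ) * ac χ) + 40 * ((v χ : ℂ) * ac χ) +
        -24 * ((v χ : ℂ) * u₁ χ) + -24 * ((v χ : ℂ) * u₂ χ) +
        -120 * ((ac χ : ℂ) * u₁ χ) + -120 * ((ac χ : ℂ) * u₂ χ)) fun χ _ => ?_]
      · simp only [Finset.sum_add_distrib, ← Finset.mul_sum, G55, G56, G66, G11, G33, G13, G15, G16,
          G35, G36]
        norm_num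
      · have h := hZ₀ χ
        push_cast at h ⊢
        linear_combination (-3 * (5 * (3 * (Z₀ χ : ℂ) - v χ - 2 * ac χ) +
          (6 * u₁ χ + 6 * u₂ χ - 2 * v χ - 10 * ac χ))) * h
    intro χ hχ
    have := mul_self_eq_zero.1
      ((Finset.sum_eq_zero_iff_of_nonneg fun χ _ => mul_self_nonneg _).1 h0 χ hχ)
    linarith
  have hsum5 : ∀ χ ∈ B, u₁ χ + u₂ χ = 2 * (ac χ : ℂ) - sc χ := by
    intro χ hχ
    have h1 := hZ₀ χ
    have h2 : (3 : ℂ) * Z₀ χ = v χ + 2 * ac χ := by exact_mod_cast hZ0eq χ hχ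
    have h3 : (v χ : ℂ) = ac χ - 3 * sc χ := by exact_mod_cast hvas χ
    push_cast at h1
    linear_combination (1 / 2 : ℂ) * h1 + (5 / 6 : ℂ) * h2 + (1 / 3 : ℂ) * h3
  set n : IrrCharacter G → ℤ := fun χ => Z₁ χ - Z₂ χ with hn
  have hζ6 : ζ ^ 6 = ζ := by rw [show (6 : ℕ) = 5 + 1 by rfl, pow_add, hζ5, one_mul, pow_one]
  have hζ8 : ζ ^ 8 = ζ ^ 3 := by rw [show (8 : ℕ) = 5 + 3 by rfl, pow_add, hζ5, one_mul]
  have hdiff : ∀ χ : IrrCharacter G, u₁ χ - u₂ χ = (n χ : ℂ) * δ := by
    intro χ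
    have h1 := hZ₁ χ
    have h2 := hZ₂ χ
    simp only [← pow_mul] at h2
    norm_num at h1 h2
    rw [hζ6, hζ8] at h2
    have h3 : δ * (u₁ χ - u₂ χ) = 5 * ((n χ : ℤ) : ℂ) := by
      rw [hδ]; simp only [hn]; push_cast
      linear_combination h1 - h2
    refine mul_left_cancel₀ hδ0 ?_
    linear_combination h3 - (n χ : ℂ) * hδ2
  have hpar : ∀ χ ∈ B, (2 : ℤ) ∣ n χ - sc χ := by
    intro χ hχ
    have h1 := hZ₁ χ
    have h2 := hZ₂ χ
    simp only [← pow_mul] at h2
    norm_num at h1 h2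
    rw [hζ6, hζ8] at h2
    have h3 : (v χ : ℂ) = ac χ - 3 * sc χ := by exact_mod_cast hvas χ
    have h4 : ((Z₁ χ + Z₂ χ : ℤ) : ℂ) = ((-sc χ : ℤ) : ℂ) := by
      push_cast
      linear_combination (-1 / 5 : ℂ) * h1 + (-1 / 5 : ℂ) * h2 + (1 / 5 : ℂ) * (u₁ χ + u₂ χ) * hζsum +
        (-1 / 5 : ℂ) * hsum5 χ hχ + (2 / 5 : ℂ) * h3
    have := Int.cast_injective h4
    simp only [hn]
    omega
  -- the principal character
  set one := Blocks.oneChar G
  have h1B : one ∈ B := Finset.mem_filter.2 ⟨Finset.mem_univ _, Blocks.one_mem_principal⟩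
  have hone_col : ∀ s, col e one s = 1 := fun s => by simp [col, one, Blocks.coe_oneChar]
  have hone_a : ac one = 1 := Int.cast_injective (α := ℂ) (by rw [← hc3, hone_col]; simp)
  have hone_v : v one = 1 := Int.cast_injective (α := ℂ) (by rw [← hc1, hone_col]; simp)
  have hone_s : sc one = 0 := by have := hvas one; omega
  have hone_n : n one = 0 := by
    have h := hdiff one
    simp only [hu1, hu2, hone_col, sub_self] at h
    exact_mod_cast (mul_eq_zero.1 h.symm).resolve_right hδ0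
  have hone_d : charDegree (one : G → ℂ) = 1 := by simp [charDegree, one, Blocks.coe_oneChar]
  have hsplit : ∀ {R : Type} [AddCommMonoid R] (f : IrrCharacter G → R),
      ∑ χ ∈ B, f χ = f one + ∑ χ ∈ B.erase one, f χ := fun {R} _ f =>
    (Finset.add_sum_erase _ _ h1B).symm
  have hscC : ∀ χ : IrrCharacter G, (sc χ : ℂ) = ((ac χ : ℂ) - v χ) / 3 := fun χ => by
    rw [hvas χ]; push_cast; ring
  -- Galois conjugation
  obtain ⟨σ, hσ⟩ := OddChar.exists_aut_pow (N := 5) (by norm_num) (k := 2) (by norm_num)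
  have hσδ : σ δ = -δ := by
    have hs := hσ ζ hζ5
    rw [hδ]
    simp only [map_sub, map_add, map_pow, hs, ← pow_mul]
    norm_num
    rw [hζ6, hζ8]
    ring
  let gal : IrrCharacter G → IrrCharacter G := fun χ => ⟨_, OddChar.isIrrCharacter_map σ χ.2⟩
  have galv : ∀ χ s, col e (gal χ) s = σ (col e χ s) := fun χ s => rfl
  have gal_a : ∀ χ, ac (gal χ) = ac χ := fun χ => Int.cast_injective (α := ℂ) (by
    rw [← hc3, galv, hc3, map_intCast])
  have gal_v : ∀ χ, v (gal χ) = v χ := fun χ => Int.cast_injective (α := ℂ) (by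
    rw [← hc1, galv, hc1, map_intCast])
  have gal_inj : Function.Injective gal := fun χ χ' h => Subtype.ext (funext fun x =>
    σ.injective (congrFun (congrArg Subtype.val h) x))
  have gal_d : ∀ χ : IrrCharacter G, charDegree ((gal χ : IrrCharacter G) : G → ℂ) = charDegree (χ : G → ℂ) := by
    intro χ
    refine Nat.cast_injective (R := ℂ) ?_
    rw [← hd]
    show σ ((χ : G → ℂ) 1) = _
    rw [hd, map_natCast]
  have gal_n : ∀ χ, n (gal χ) = -n χ := fun χ => by
    have h := hdiff (gal χ)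
    simp only [hu1, hu2, galv, ← map_sub] at h
    rw [show σ (col e χ g₅ - col e χ (g₅ * g₅)) = σ ((n χ : ℂ) * δ) from congrArg σ (hdiff χ),
      map_mul, map_intCast, hσδ] at h
    refine Int.cast_injective (α := ℂ) (mul_right_cancel₀ hδ0 ?_)
    rw [← h]; push_cast; ring
  -- assemble
  set lamQ : ℚ := 14400 / (Nat.card G : ℚ) with hlamQ
  have P1 := hpair 1 hr1
  have P3 := hpair g₃ hr3
  rw [pairing_values.1] at P1
  rw [pairing_values.2] at P3
  simp only [hc1, hc3, hd, hv] at P1 P3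
  suffices hcd : ColData (B.erase one) (fun χ : IrrCharacter G => (charDegree (χ : G → ℂ) : ℤ))
      ac sc n gal lamQ by
    obtain ⟨x, y, hxy, heq⟩ := col_data_cases hcd
    -- the arithmetic
    have hgpos : (0 : ℚ) < Nat.card G := by exact_mod_cast Nat.card_pos
    simp only [Pair, List.mem_cons, List.not_mem_nil, or_false, Prod.mk.injEq] at hxy
    have h7 : (Nat.card G : ℚ) * (1 + 25 / (x : ℚ) + 25 / (y : ℚ) + 1 / ((-1 - x - y : ℤ) : ℚ)) = 86400 := by
      rw [← heq, hlamQ]; field_simp; norm_num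
    obtain ⟨g, hg⟩ : ∃ g, Nat.card G = g := ⟨_, rfl⟩
    rw [hg] at h7 ⊢
    have key : ∀ a b : ℕ, (a : ℚ) * (g : ℚ) = b → a * g = b := fun a b h => by
      exact_mod_cast h
    rcases hxy with ⟨rfl, rfl⟩ | ⟨rfl, rfl⟩ | ⟨rfl, rfl⟩ | ⟨rfl, rfl⟩ | ⟨rfl, rfl⟩ | ⟨rfl, rfl⟩ <;>
      norm_num at h7
    · have := key 1 175560 (by push_cast; linarith); omega
    · have := key 1 189000 (by push_cast; linarith); omega
    · have := key 23 4051320 (by push_cast; linarith); omega
    · have := key 17 2989000 (by push_cast; linarith); omega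
    · have := key 247 43659000 (by push_cast; linarith); omega
    · have := key 11 1958040 (by push_cast; linarith); omega
  refine
    { deg := ?_, val := ?_, cong := ?_, nonneg := ?_, par := ?_, aa := ?_, ss := ?_, asum := ?_,
      nn := ?_, ns := ?_, da := ?_, ds := ?_, dn := ?_, pa := ?_, ps := ?_, sig_mem := ?_,
      sig_inj := ?_, sig_d := ?_, sig_a := ?_, sig_s := ?_, sig_n := ?_ }
  · intro χ hχ
    have h0 := (Blocks.charDegree_eq χ.2).2
    have h1 : charDegree (χ : G → ℂ) ≠ 1 := fun h => (Finset.mem_erase.1 hχ).1 (Subtype.ext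
      (Chars.SimpleDeg.eq_one_of_degree_one hna (χ := χ) (by rw [hd, h, Nat.cast_one])))
    omega
  · intro χ hχ h0
    rw [← hvas χ] at h0
    have h := (Finset.mem_filter.1 (Finset.mem_of_mem_erase hχ)).2 t
    rw [centralChar, centralChar, hv χ, h0, Int.cast_zero, mul_zero, zero_div, sub_zero, mul_one,
      div_one, Blocks.memI_natCast_iff h2M] at h
    exact hCidx h
  any_goals
    intro χ hχ
    letI : Fintype (S : Subgroup G) := Fintype.ofFinite _
    obtain ⟨k, hk⟩ := Chars.exists_classInner_eq_nat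
      (Chars.isCharacter_restrict (Chars.irr_isCharacter χ) (S : Subgroup G))
      (Chars.isCharacter_of_isIrr (Blocks.oneChar (S : Subgroup G)).2)
    have hsum : ∑ w : (S : Subgroup G), (χ : G → ℂ) w =
        ((charDegree (χ : G → ℂ) : ℤ) : ℂ) + 7 * (v χ : ℂ) := by
      rw [← Finset.add_sum_erase _ _ (Finset.mem_univ (1 : (S : Subgroup G))), OneMemClass.coe_one,
        hd, Finset.sum_congr (rfl : Finset.univ.erase (1 : (S : Subgroup G)) = _)
          (g := fun _ => (v χ : ℂ)) (fun w hw => ?_),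
        Finset.sum_const, Finset.card_erase_of_mem (Finset.mem_univ _), Finset.card_univ,
        ← Nat.card_eq_fintype_card, hS8]
      · simp [nsmul_eq_mul]
      · rw [← hv χ]
        refine Blocks.isClassFunction_eq (Chars.isClassFunction_irr χ) (hone t _ hto ?_)
        exact orderOf_eq_prime (hS.2 _ w.2) fun h => (Finset.mem_erase.1 hw).1 (Subtype.ext h)
    rw [Chars.classInner_def, hS8] at hk
    simp only [Blocks.coe_oneChar, map_one, mul_one] at hk
    rw [hsum, inv_mul_eq_iff_eq_mul₀ (by norm_num)] at hk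
    have h8 : (charDegree (χ : G → ℂ) : ℤ) + 7 * v χ = 8 * (k : ℤ) := by
      refine Int.cast_injective (α := ℂ) ?_
      push_cast
      simpa using hk
    rw [← hvas χ]
    omega
  · exact fun χ hχ => hpar χ (Finset.mem_of_mem_erase hχ)
  · have h : ∑ χ ∈ B, ac χ * ac χ = 4 := Int.cast_injective (α := ℂ) (by
      push_cast; exact G33)
    rw [hsplit, hone_a] at h; linarith
  · have h : ∑ χ ∈ B, sc χ * sc χ = 12 := Int.cast_injective (α := ℂ) (by
      push_cast
      rw [Finset.sum_congr rfl (g := fun χ => (1 / 9 : ℂ) * ((v χ : ℂ) * v χ) +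
        (-2 / 9 : ℂ) * ((v χ : ℂ) * ac χ) + (1 / 9 : ℂ) * ((ac χ : ℂ) * ac χ)) fun χ _ => by
          rw [hscC]; ring]
      simp only [Finset.sum_add_distrib, ← Finset.mul_sum, G11, G13, G33]
      norm_num)
    rw [hsplit, hone_s] at h; linarith
  · have h : ∑ χ ∈ B, ac χ * sc χ = 4 := Int.cast_injective (α := ℂ) (by
      push_cast
      rw [Finset.sum_congr rfl (g := fun χ => (-1 / 3 : ℂ) * ((v χ : ℂ) * ac χ) +
        (1 / 3 : ℂ) * ((ac χ : ℂ) * ac χ)) fun χ _ => by rw [hscC]; ring]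
      simp only [Finset.sum_add_distrib, ← Finset.mul_sum, G13, G33]
      norm_num)
    rw [hsplit, hone_s] at h; linarith
  · have h : ∑ χ ∈ B, n χ * n χ = 4 := Int.cast_injective (α := ℂ) (by
      push_cast
      rw [Finset.sum_congr rfl (g := fun χ => (1 / 5 : ℂ) * (u₁ χ * u₁ χ) + (-2 / 5 : ℂ) * (u₁ χ * u₂ χ) +
        (1 / 5 : ℂ) * (u₂ χ * u₂ χ)) fun χ _ => by
          linear_combination (-(1 / 5 : ℂ)) * (u₁ χ - u₂ χ + (n χ : ℂ) * δ) * hdiff χ -
            (1 / 5 : ℂ) * (n χ : ℂ) * (n χ : ℂ) * hδ2]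
      simp only [Finset.sum_add_distrib, ← Finset.mul_sum, G55, G56, G66]
      norm_num)
    rw [hsplit, hone_n] at h; linarith
  · have h : ∑ χ ∈ B, n χ * sc χ = 0 := Int.cast_injective (α := ℂ) (by
      push_cast
      rw [← mul_right_inj' hδ0, mul_zero, Finset.mul_sum,
        Finset.sum_congr rfl (g := fun χ => (1 / 3 : ℂ) * ((ac χ : ℂ) * u₁ χ) +
          (-1 / 3 : ℂ) * ((ac χ : ℂ) * u₂ χ) + (-1 / 3 : ℂ) * ((v χ : ℂ) * u₁ χ) +
          (1 / 3 : ℂ) * ((v χ : ℂ) * u₂ χ)) fun χ _ => by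
            rw [hscC]; linear_combination (-(((ac χ : ℂ) - v χ) / 3)) * hdiff χ]
      simp only [Finset.sum_add_distrib, ← Finset.mul_sum, G15, G16, G35, G36]
      norm_num)
    rw [hsplit, hone_n] at h; linarith
  · have h : ∑ χ ∈ B, (charDegree (χ : G → ℂ) : ℤ) * ac χ = 0 := Int.cast_injective (α := ℂ) (by
      push_cast
      rw [← hdeg g₃ hr3]
      exact Finset.sum_congr rfl fun χ _ => by rw [hd, hc3])
    rw [hsplit, hone_a, hone_d] at h; push_cast at h; linarith
  · have h : ∑ χ ∈ B, (charDegree (χ : G → ℂ) : ℤ) * sc χ = 0 := Int.cast_injective (α := ℂ) (by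
      push_cast
      rw [Finset.sum_congr rfl (g := fun χ : IrrCharacter G => (1 / 3 : ℂ) * ((χ : G → ℂ) 1 * col e χ g₃) +
        (-1 / 3 : ℂ) * ((χ : G → ℂ) 1 * col e χ 1)) fun χ _ => by rw [hscC, hd, hc1, hc3]; ring]
      simp only [Finset.sum_add_distrib, ← Finset.mul_sum, hdeg _ hr3, hdeg _ hr1]
      norm_num)
    rw [hsplit, hone_s] at h; linarith
  · have h : ∑ χ ∈ B, (charDegree (χ : G → ℂ) : ℤ) * n χ = 0 := Int.cast_injective (α := ℂ) (by
      push_cast
      rw [← mul_right_inj' hδ0, mul_zero, Finset.mul_sum,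
        Finset.sum_congr rfl (g := fun χ : IrrCharacter G => (χ : G → ℂ) 1 * col e χ g₅ +
          (-1 : ℂ) * ((χ : G → ℂ) 1 * col e χ (g₅ * g₅))) fun χ _ => by
            rw [hd]; linear_combination (-(charDegree (χ : G → ℂ) : ℂ)) * hdiff χ]
      simp only [Finset.sum_add_distrib, ← Finset.mul_sum, hdeg _ hr5, hdeg _ hr25]
      norm_num)
    rw [hsplit, hone_n] at h; linarith
  · have h : (∑ χ ∈ B, (((ac χ - 3 * sc χ) ^ 2 * ac χ : ℤ) : ℚ) / ((charDegree (χ : G → ℂ) : ℤ) : ℚ)) =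
        6 * lamQ := Rat.cast_injective (α := ℂ) (by
      push_cast
      rw [Finset.sum_congr rfl (g := fun χ : IrrCharacter G =>
        (v χ : ℂ) * v χ / (charDegree (χ : G → ℂ) : ℂ) * ac χ) fun χ _ => by
          rw [hscC]; ring, P3, hlamQ, hlam]
      push_cast; ring)
    rw [hsplit, hone_a, hone_s, hone_d] at h
    push_cast at h ⊢
    linarith
  · have h : (∑ χ ∈ B, (((ac χ - 3 * sc χ) ^ 2 * sc χ : ℤ) : ℚ) / ((charDegree (χ : G → ℂ) : ℤ) : ℚ)) =
        -8 * lamQ := Rat.cast_injective (α := ℂ) (by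
      push_cast
      rw [Finset.sum_congr rfl (g := fun χ : IrrCharacter G =>
        (1 / 3 : ℂ) * ((v χ : ℂ) * v χ / (charDegree (χ : G → ℂ) : ℂ) * ac χ) +
        (-1 / 3 : ℂ) * ((v χ : ℂ) * v χ / (charDegree (χ : G → ℂ) : ℂ) * v χ)) fun χ _ => by
          rw [hscC]; ring]
      simp only [Finset.sum_add_distrib, ← Finset.mul_sum, P1, P3, hlamQ, hlam]
      push_cast; ring)
    rw [hsplit, hone_s] at h
    push_cast at h ⊢
    simpa using h
  · intro χ hχ
    obtain ⟨h1, h2⟩ := Finset.mem_erase.1 hχ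
    refine Finset.mem_erase.2 ⟨fun h => h1 ?_, Finset.mem_filter.2 ⟨Finset.mem_univ _,
      Blocks.principal_map h2M σ (Finset.mem_filter.1 h2).2⟩⟩
    refine gal_inj (h.trans (Subtype.ext (funext fun x => ?_)))
    show (1 : ℂ) = σ 1
    rw [map_one]
  · exact fun i _ j _ h => gal_inj h
  · exact fun χ _ => by rw [gal_d]
  · exact fun χ _ => gal_a χ
  · intro χ _
    have := hvas χ; have := hvas (gal χ); have := gal_a χ; have := gal_v χ
    omega
  · exact fun χ _ => gal_n χ

end Cfsg.Agent.PermGroups.JOne
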