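import Cfsg.Agent.PermGroups.EightBlock
import Cfsg.Agent.PermGroups.JOne.Alt5

/-!
The group `2 × A₅` and the kernel of its principal `2`-block.
-/

set_option autoImplicit false
set_option linter.unusedSectionVars false
set_option linter.style.haveILetI false

namespace Cfsg.Agent.PermGroups.JOne

open Cfsg Cfsg.Agent
open scoped ComplexConjugate

universe u

variable {H : Type u} [Group H] (e : H ≃* Multiplicative (ZMod 2) × A₅)

/-- The projection to the simple factor. -/
def proj : H →* A₅ := (MonoidHom.snd _ _).comp e.toMonoidHom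

/-- The inclusion of the simple factor. -/
def iota : A₅ →* H := e.symm.toMonoidHom.comp (MonoidHom.inr _ _)

/-- The central involution. -/
def tau : H := e.symm (Multiplicative.ofAdd 1, 1)

theorem zmod_two_cases : ∀ i : Multiplicative (ZMod 2), i = 1 ∨ i = Multiplicative.ofAdd 1 := by decide

theorem proj_iota (s : A₅) : proj e (iota e s) = s := by simp [proj, iota]

theorem proj_tau : proj e (tau e) = 1 := by simp [proj, tau]

theorem proj_surjective : Function.Surjective (proj e) := fun s => ⟨iota e s, proj_iota e s⟩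

theorem iota_injective : Function.Injective (iota e) := fun a b h => by
  rw [← proj_iota e a, h, proj_iota]

theorem decomp (h : H) : h = iota e (proj e h) ∨ h = tau e * iota e (proj e h) := by
  rcases zmod_two_cases (e h).1 with hi | hi
  · left
    apply e.injective
    simp [iota, proj, Prod.ext_iff, hi]
  · right
    apply e.injective
    simp [iota, proj, tau, Prod.ext_iff, hi]

theorem tau_comm (h : H) : Commute (tau e) h := by
  apply e.injective
  simp [tau, Prod.ext_iff, mul_comm]

theorem tau_mul_self : tau e * tau e = 1 := by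
  apply e.injective
  simp only [tau, map_mul, MulEquiv.apply_symm_apply, map_one, Prod.mk_mul_mk, mul_one]
  rfl

theorem tau_ne_iota (s : A₅) : tau e ≠ iota e s := fun h => by
  have := congrArg (fun x => (e x).1) h
  simp [tau, iota] at this

theorem tau_mul_iota_ne (s s' : A₅) : tau e * iota e s ≠ iota e s' := fun h => by
  have := congrArg (fun x => (e x).1) h
  simp [tau, iota] at this

theorem central_unique {z : H} (hz : ∀ h, z * h = h * z) (h1 : z ≠ 1) : z = tau e := by
  have hp : proj e z = 1 := center_trivial _ fun g => by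
    rw [← proj_iota e g, ← map_mul, ← map_mul, hz]
  rcases decomp e z with h | h <;> rw [hp, map_one] at h
  · exact absurd h h1
  · rw [h, mul_one]

theorem orderOf_iota (s : A₅) : orderOf (iota e s) = orderOf s :=
  orderOf_injective (iota e) (iota_injective e) s

theorem two_dvd_tau_mul (s : A₅) : 2 ∣ orderOf (tau e * iota e s) := by
  by_contra h
  obtain ⟨k, hk⟩ := Nat.odd_iff.2 (Nat.two_dvd_ne_zero.1 h)
  have h1 := pow_orderOf_eq_one (tau e * iota e s)
  rw [(tau_comm e _).mul_pow, hk, pow_succ (tau e), pow_mul, pow_two, tau_mul_self, one_pow, one_mul,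
    ← map_pow] at h1
  exact tau_mul_iota_ne e (s ^ (2 * k + 1)) 1 (by rw [h1, map_one])

theorem sum_split [Fintype H] {K : Type*} [AddCommMonoid K] (f : H → K) :
    ∑ h, f h = ∑ s : A₅, f (iota e s) + ∑ s : A₅, f (tau e * iota e s) := by
  classical
  rw [← Equiv.sum_comp e.symm.toEquiv f, Fintype.sum_prod_type,
    show (Finset.univ : Finset (Multiplicative (ZMod 2))) = {1, Multiplicative.ofAdd 1} by decide,
    Finset.sum_pair (by decide)]
  congr 1
  refine Finset.sum_congr rfl fun s _ => congrArg f ?_
  apply e.injective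
  simp [iota, tau]

theorem card_H (e : H ≃* Multiplicative (ZMod 2) × A₅) : Nat.card H = 120 := by
  rw [Nat.card_congr e.toEquiv, Nat.card_prod, card_A5, Nat.card_eq_fintype_card]
  rfl

theorem centralizer_eq (h : H) :
    Subgroup.centralizer ({h} : Set H) =
      (Subgroup.centralizer ({proj e h} : Set A₅)).comap (proj e) := by
  ext g
  rw [Subgroup.mem_comap, Subgroup.mem_centralizer_singleton_iff,
    Subgroup.mem_centralizer_singleton_iff, ← map_mul, ← map_mul]
  refine ⟨congrArg (proj e), fun hp => e.injective (Prod.ext ?_ hp)⟩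
  rw [map_mul, map_mul, Prod.fst_mul, Prod.fst_mul, mul_comm]

theorem index_centralizer (h : H) :
    (Subgroup.centralizer ({h} : Set H)).index = (Subgroup.centralizer ({proj e h} : Set A₅)).index := by
  rw [centralizer_eq e, Subgroup.index_comap_of_surjective _ (proj_surjective e)]

theorem card_centralizer [Finite H] (h : H) :
    Nat.card (Subgroup.centralizer ({h} : Set H)) =
      2 * Nat.card (Subgroup.centralizer ({proj e h} : Set A₅)) := by
  have h1 := Subgroup.card_mul_index (Subgroup.centralizer ({h} : Set H))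
  have h2 := Subgroup.card_mul_index (Subgroup.centralizer ({proj e h} : Set A₅))
  rw [index_centralizer e, card_H e] at h1
  rw [card_A5] at h2
  have hpos : 0 < (Subgroup.centralizer ({proj e h} : Set A₅)).index := by
    rcases Nat.eq_zero_or_pos (Subgroup.centralizer ({proj e h} : Set A₅)).index with z | z
    · rw [z, mul_zero] at h2; omega
    · exact z
  refine Nat.eq_of_mul_eq_mul_right hpos ?_
  rw [h1, mul_assoc, h2]
  norm_num

theorem isConj_iota_iff (x s : A₅) : IsConj (iota e x) (iota e s) ↔ ∃ g, g * x * g⁻¹ = s := by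
  rw [isConj_iff]
  constructor
  · rintro ⟨c, hc⟩
    refine ⟨proj e c, ?_⟩
    have := congrArg (proj e) hc
    simpa [map_mul, proj_iota] using this
  · rintro ⟨g, hg⟩
    exact ⟨iota e g, by rw [← map_inv, ← map_mul, ← map_mul, hg]⟩

variable [Fintype H]

/-- The values of an irreducible character at the central involution. -/
theorem value_tau (ψ : IrrCharacter H) :
    ((ψ : H → ℂ) (tau e) = (ψ : H → ℂ) 1 ∨ (ψ : H → ℂ) (tau e) = -(ψ : H → ℂ) 1) ∧
      ∀ h, (ψ : H → ℂ) (tau e * h) = (ψ : H → ℂ) (tau e) / (ψ : H → ℂ) 1 * (ψ : H → ℂ) h := by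
  have h0 := Chars.irr_apply_one_ne_zero ψ.2
  have key : ∀ h, (ψ : H → ℂ) (tau e * h) = (ψ : H → ℂ) (tau e) / (ψ : H → ℂ) 1 * (ψ : H → ℂ) h := by
    intro h
    have hh := Blocks.sum_apply_mul_conj ψ h (tau e)
    rw [Finset.sum_congr rfl (g := fun _ => (ψ : H → ℂ) (tau e * h)) fun a _ => by
      rw [← (tau_comm e a).eq, mul_inv_cancel_right, (tau_comm e h).eq],
      Finset.sum_const, Finset.card_univ, nsmul_eq_mul, ← Nat.card_eq_fintype_card] at hh
    refine mul_left_cancel₀ (Nat.cast_ne_zero.2 (Nat.card_pos (α := H)).ne' : (Nat.card H : ℂ) ≠ 0) ?_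
    rw [hh]; ring
  refine ⟨?_, key⟩
  have h1 := key (tau e)
  rw [tau_mul_self] at h1
  field_simp at h1
  exact sq_eq_sq_iff_eq_or_eq_neg.1 (by linear_combination -h1)

/-- The restriction to the simple factor is irreducible. -/
theorem isIrr_restrict (ψ : IrrCharacter H) : IsIrrCharacter A₅ (fun s => (ψ : H → ℂ) (iota e s)) := by
  classical
  refine Chars.isIrrCharacter_of_norm_one (Chars.isCharacter_comp (Chars.irr_isCharacter ψ) (iota e)) ?_
  have h := Chars.classInner_self_irr ψ.2
  obtain ⟨hv, hk⟩ := value_tau e ψ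
  have h0 := Chars.irr_apply_one_ne_zero ψ.2
  rw [Chars.classInner_def, sum_split e, card_H e] at h
  rw [Finset.sum_congr rfl (g := fun s => (ψ : H → ℂ) (iota e s) * conj ((ψ : H → ℂ) (iota e s)))
    (s₁ := (Finset.univ : Finset A₅)) (f := fun s =>
      (ψ : H → ℂ) (tau e * iota e s) * conj ((ψ : H → ℂ) (tau e * iota e s))) fun s _ => by
      rw [hk]
      rcases hv with hv | hv <;> rw [hv]
      · rw [div_self h0, one_mul]
      · rw [neg_div, div_self h0, neg_one_mul, map_neg, neg_mul_neg]] at h
  rw [Chars.classInner_def, card_A5]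
  push_cast at h ⊢
  linear_combination h

/-- The restriction to the simple factor. -/
noncomputable def restr (ψ : IrrCharacter H) : IrrCharacter A₅ := ⟨_, isIrr_restrict e ψ⟩

variable {M : Ideal AlgInt} [M.IsMaximal]

theorem principal_iff (h2M : ((2 : ℕ) : AlgInt) ∈ M) (ψ : IrrCharacter H) :
    ψ ∈ principalBlock M H ↔ restr e ψ ≠ chi4Irr := by
  classical
  haveI : Fact (Nat.Prime 2) := ⟨Nat.prime_two⟩
  obtain ⟨hv, hk⟩ := value_tau e ψ
  have hi : ∀ h, centralChar (fun _ : H => (1 : ℂ)) h =
      centralChar (fun _ : A₅ => (1 : ℂ)) (proj e h) := fun h => by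
    simp only [centralChar, index_centralizer e]
  have hw : ∀ s, centralChar (ψ : H → ℂ) (iota e s) = centralChar (restr e ψ : A₅ → ℂ) s := fun s => by
    simp only [centralChar, index_centralizer e, proj_iota, restr, map_one]
  constructor
  · intro h heq
    have h3 := h (iota e g₃)
    rw [hw, hi, proj_iota, heq] at h3
    have hidx : (Subgroup.centralizer ({g₃} : Set A₅)).index = 20 := by
      have h2 := Subgroup.card_mul_index (Subgroup.centralizer ({g₃} : Set A₅))
      rw [card_A5] at h2
      have h4 : Nat.card (Subgroup.centralizer ({g₃} : Set A₅)) = 3 := by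
        rw [Nat.card_congr (Equiv.subtypeEquivRight (q := fun g : A₅ => g * g₃ = g₃ * g) fun g =>
          Subgroup.mem_centralizer_singleton_iff), Nat.card_eq_fintype_card]
        decide +kernel
      rw [h4] at h2; omega
    have c3 : chi4Int g₃ = 1 := by decide
    simp only [centralChar, hidx, chi4Irr, chi4, c3, chi4Int_one] at h3
    have : MemLocalIdeal M ((15 : ℤ) : ℂ) := by convert h3 using 1; norm_num
    rw [Blocks.memI_intCast_iff h2M] at this
    norm_num at this
  · intro hne h
    have hp := principal_of_ne h2M hne (proj e h)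
    rw [hi]
    rcases decomp e h with hh | hh
    · rw [hh, hw]
      rwa [proj_iota]
    · have e1 : centralChar (ψ : H → ℂ) h =
          (ψ : H → ℂ) (tau e) / (ψ : H → ℂ) 1 * centralChar (restr e ψ : A₅ → ℂ) (proj e h) := by
        simp only [centralChar, index_centralizer e]
        rw [show (ψ : H → ℂ) h = (ψ : H → ℂ) (tau e * iota e (proj e h)) by rw [← hh], hk]
        simp only [restr, map_one]
        ring
      rw [e1]
      have h0 := Chars.irr_apply_one_ne_zero ψ.2
      rcases hv with hv | hv <;> rw [hv]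
      · rw [div_self h0, one_mul]; exact hp
      · rw [neg_div, div_self h0, neg_one_mul]
        have e2 : centralChar (fun _ : A₅ => (1 : ℂ)) (proj e h) - -centralChar (restr e ψ : A₅ → ℂ) (proj e h) =
            ((2 * (Subgroup.centralizer ({proj e h} : Set A₅)).index : ℕ) : ℂ) -
              (centralChar (fun _ : A₅ => (1 : ℂ)) (proj e h) - centralChar (restr e ψ : A₅ → ℂ) (proj e h)) := by
          simp only [centralChar]; push_cast; ring
        rw [e2]
        exact Blocks.memI_sub ((Blocks.memI_natCast_iff h2M _).2 (dvd_mul_right _ _)) hp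

/-- Exactly two characters lie over the character of degree four. -/
theorem card_fibre : (Finset.univ.filter fun ψ : IrrCharacter H => restr e ψ = chi4Irr).card = 2 := by
  classical
  set fib : IrrCharacter A₅ → Finset (IrrCharacter H) :=
    fun φ => Finset.univ.filter fun ψ => restr e ψ = φ with hfib
  have hle : ∀ φ, (fib φ).card ≤ 2 := by
    intro φ
    refine (Finset.card_le_card_of_injOn (s := fib φ) (fun ψ => (ψ : H → ℂ) (tau e) / (ψ : H → ℂ) 1)
      (t := ({1, -1} : Finset ℂ)) (fun ψ _ => ?_) (fun ψ hψ ψ' hψ' h => ?_)).trans Finset.card_le_two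
    · have h0 := Chars.irr_apply_one_ne_zero ψ.2
      rcases (value_tau e ψ).1 with hv | hv <;> simp [hv, neg_div, div_self h0]
    · simp only [hfib, Finset.coe_filter, Finset.mem_univ, true_and, Set.mem_setOf_eq] at hψ hψ'
      have hs : ∀ s, (ψ : H → ℂ) (iota e s) = (ψ' : H → ℂ) (iota e s) :=
        congrFun (congrArg Subtype.val (hψ.trans hψ'.symm))
      refine Subtype.ext (funext fun x => ?_)
      rcases decomp e x with hx | hx <;> rw [hx]
      · exact hs _
      · rw [(value_tau e ψ).2, (value_tau e ψ').2, hs]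
        simp only at h
        rw [h]
  have hd : ∀ φ : IrrCharacter A₅, (φ : A₅ → ℂ) 1 = (charDegree (φ : A₅ → ℂ) : ℂ) := fun φ =>
    (Blocks.charDegree_eq φ.2).1
  have hsum : ∑ φ : IrrCharacter A₅, (fib φ).card * charDegree (φ : A₅ → ℂ) ^ 2 = 120 := by
    have h := Chars.sum_sq_apply_one (G := H)
    rw [card_H e, ← Finset.sum_fiberwise Finset.univ (restr e)] at h
    have : ∀ φ, ∑ ψ ∈ Finset.univ.filter (fun ψ => restr e ψ = φ), (ψ : H → ℂ) 1 ^ 2 =
        (((fib φ).card * charDegree (φ : A₅ → ℂ) ^ 2 : ℕ) : ℂ) := by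
      intro φ
      rw [Finset.sum_congr rfl (g := fun _ => ((charDegree (φ : A₅ → ℂ) : ℂ)) ^ 2) fun ψ hψ => ?_,
        Finset.sum_const, nsmul_eq_mul]
      · push_cast; rfl
      · rw [← hd, ← (Finset.mem_filter.1 hψ).2]
        simp [restr]
    rw [Finset.sum_congr rfl fun φ _ => this φ, ← Nat.cast_sum] at h
    exact_mod_cast h
  have hsq : ∑ φ : IrrCharacter A₅, charDegree (φ : A₅ → ℂ) ^ 2 = 60 := by
    have h := Chars.sum_sq_apply_one (G := A₅)
    simp only [hd, card_A5] at h
    exact_mod_cast h
  have h2 : ∑ φ : IrrCharacter A₅, (fib φ).card * charDegree (φ : A₅ → ℂ) ^ 2 =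
      ∑ φ : IrrCharacter A₅, 2 * charDegree (φ : A₅ → ℂ) ^ 2 := by
    rw [hsum, ← Finset.mul_sum, hsq]
    norm_num
  have h3 := (Finset.sum_eq_sum_iff_of_le fun φ _ => Nat.mul_le_mul_right _ (hle φ)).1 h2 chi4Irr
    (Finset.mem_univ _)
  have h4 : 0 < charDegree (chi4Irr : A₅ → ℂ) := (Blocks.charDegree_eq chi4Irr.2).2
  exact Nat.eq_of_mul_eq_mul_right (pow_pos h4 2) h3

/-- The kernel of the principal block at elements of odd order. -/
theorem blockKer_iota (h2M : ((2 : ℕ) : AlgInt) ∈ M) (x s : A₅) :
    Eight.blockKer M (iota e x) (iota e s) = (kerInt x s : ℂ) := by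
  classical
  have hall := Chars.column_orth (iota e x) (iota e s)
  rw [← Finset.sum_filter_add_sum_filter_not Finset.univ (fun ψ => restr e ψ = chi4Irr),
    Finset.sum_congr rfl (g := fun _ => chi4 x * conj (chi4 s)) (fun ψ hψ => by
      have h := (Finset.mem_filter.1 hψ).2
      show (restr e ψ : A₅ → ℂ) x * conj ((restr e ψ : A₅ → ℂ) s) = _
      rw [h]; rfl),
    Finset.sum_const, card_fibre, nsmul_eq_mul] at hall
  have hblk : Eight.blockKer M (iota e x) (iota e s) =
      ∑ ψ ∈ Finset.univ.filter (fun ψ : IrrCharacter H => ¬ restr e ψ = chi4Irr),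
        (ψ : H → ℂ) (iota e x) * conj ((ψ : H → ℂ) (iota e s)) := by
    unfold Eight.blockKer
    exact Finset.sum_congr (Finset.filter_congr fun ψ _ => principal_iff e h2M ψ) fun _ _ => rfl
  rw [hblk, eq_sub_of_add_eq' hall]
  have hcol : (if IsConj (iota e x) (iota e s) then
      (Nat.card (Subgroup.centralizer ({iota e x} : Set H)) : ℂ) else 0) = 2 * (colInt x s : ℂ) := by
    rw [card_centralizer e, proj_iota,
      Nat.card_congr (Equiv.subtypeEquivRight (q := fun g : A₅ => g * x = x * g) fun g =>
        Subgroup.mem_centralizer_singleton_iff), Nat.card_eq_fintype_card, Fintype.card_subtype,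
      colInt]
    by_cases hc : IsConj (iota e x) (iota e s)
    · rw [if_pos hc, if_pos ((isConj_iota_iff e x s).1 hc)]; simp
    · rw [if_neg hc, if_neg fun h => hc ((isConj_iota_iff e x s).2 h)]; simp
  simp only [kerInt, chi4, map_intCast]
  push_cast
  by_cases hc : IsConj (iota e x) (iota e s)
  · rw [if_pos hc] at hcol ⊢; rw [hcol]; ring
  · rw [if_neg hc] at hcol ⊢; linear_combination hcol

end Cfsg.Agent.PermGroups.JOne
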