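import Cfsg.Agent.PermGroups.JOne.Small

/-!
The exclusion of the order 189000 by the Sylow `3`-structure.
-/

set_option autoImplicit false
set_option linter.unusedSectionVars false
set_option linter.style.haveILetI false
set_option maxHeartbeats 1000000
set_option maxRecDepth 2000

namespace Cfsg.Agent.PermGroups.JOne

open Cfsg Cfsg.Agent

universe u

variable {G : Type u} [Group G] [Finite G]

/-- Orbit and stabilizer for conjugation by a subgroup. -/
theorem card_conj_orbit (N : Subgroup G) (y : G) :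
    Nat.card {x : G // ∃ n ∈ N, n * y * n⁻¹ = x} *
      Nat.card ((Subgroup.centralizer ({y} : Set G)).subgroupOf N) = Nat.card N := by
  classical
  set K := (Subgroup.centralizer ({y} : Set G)).subgroupOf N with hK
  have hiff : ∀ a b : N, (a⁻¹ * b ∈ K ↔ (a : G) * y * (a : G)⁻¹ = (b : G) * y * (b : G)⁻¹) := by
    intro a b
    rw [hK, Subgroup.mem_subgroupOf, Subgroup.mem_centralizer_singleton_iff, Subgroup.coe_mul,
      Subgroup.coe_inv]
    constructor
    · intro h
      calc (a : G) * y * (a : G)⁻¹ = (a : G) * (y * ((a : G)⁻¹ * b)) * ((b : G)⁻¹) := by group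
        _ = (a : G) * ((a : G)⁻¹ * b * y) * (b : G)⁻¹ := by rw [h]
        _ = (b : G) * y * (b : G)⁻¹ := by group
    · intro h
      calc (a : G)⁻¹ * b * y = (a : G)⁻¹ * ((b : G) * y * (b : G)⁻¹) * b := by group
        _ = (a : G)⁻¹ * ((a : G) * y * (a : G)⁻¹) * b := by rw [h]
        _ = y * ((a : G)⁻¹ * b) := by group
  let f : N ⧸ K → {x : G // ∃ n ∈ N, n * y * n⁻¹ = x} :=
    Quotient.lift (fun a : N => ⟨(a : G) * y * (a : G)⁻¹, a, a.2, rfl⟩) fun a b h =>
      Subtype.ext ((hiff a b).1 (QuotientGroup.leftRel_apply.1 h))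
  have hbij : Function.Bijective f := by
    refine ⟨fun p q => ?_, fun x => ?_⟩
    · induction p using Quotient.inductionOn with
      | h a =>
        induction q using Quotient.inductionOn with
        | h b => exact fun h => Quotient.sound (QuotientGroup.leftRel_apply.2 ((hiff a b).2 (congrArg Subtype.val h)))
    · obtain ⟨x, n, hn, rfl⟩ := x
      exact ⟨QuotientGroup.mk (⟨n, hn⟩ : N), rfl⟩
  rw [← Nat.card_congr (Equiv.ofBijective f hbij)]
  exact (Subgroup.card_eq_card_quotient_mul_card_subgroup K).symm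

/-- An element mapping a finite subgroup into itself normalises it. -/
theorem mem_normalizer_of_maps {Q : Subgroup G} {g : G} (h : ∀ x ∈ Q, g * x * g⁻¹ ∈ Q) :
    g ∈ Subgroup.normalizer (Q : Set G) := by
  rw [Subgroup.mem_normalizer_iff]
  intro x
  refine ⟨h x, fun hx => ?_⟩
  haveI : Fintype Q := Fintype.ofFinite _
  obtain ⟨z, hz⟩ := (Finite.injective_iff_surjective (f := fun q : Q => (⟨g * q * g⁻¹, h q q.2⟩ : Q))).1
    (fun a b hab => Subtype.ext (mul_left_cancel (mul_right_cancel (congrArg Subtype.val hab)))) ⟨_, hx⟩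
  rw [← mul_left_cancel (mul_right_cancel (congrArg Subtype.val hz))]
  exact z.2

/-- An element killed by two coprime exponents. -/
theorem eq_one_of_pows {z : G} {m n : ℕ} (h : m.Coprime n) (h1 : z ^ m = 1) (h2 : z ^ n = 1) : z = 1 :=
  orderOf_eq_one_iff.1 (Nat.eq_one_of_dvd_coprimes h (orderOf_dvd_of_pow_eq_one h1)
    (orderOf_dvd_of_pow_eq_one h2))

/-- The subgroup generated by two commuting elements of order three. -/
def pairSub (y f : G) (h : Commute y f) (hy : y ^ 3 = 1) (hf : f ^ 3 = 1) : Subgroup G where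
  carrier := {x | ∃ i j : Fin 3, x = y ^ (i : ℕ) * f ^ (j : ℕ)}
  one_mem' := ⟨0, 0, by simp⟩
  mul_mem' := by
    rintro _ _ ⟨i, j, rfl⟩ ⟨k, l, rfl⟩
    refine ⟨i + k, j + l, ?_⟩
    rw [Fin.val_add, Fin.val_add, ← pow_eq_pow_mod _ hy, ← pow_eq_pow_mod _ hf, pow_add, pow_add]
    rw [mul_assoc (y ^ (i : ℕ)), ← mul_assoc (f ^ (j : ℕ)), ← (h.pow_pow k j).eq]
    group
  inv_mem' := by
    rintro _ ⟨i, j, rfl⟩
    refine ⟨-i, -j, ?_⟩
    rw [Fin.val_neg', Fin.val_neg', ← pow_eq_pow_mod _ hy, ← pow_eq_pow_mod _ hf]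
    refine inv_eq_of_mul_eq_one_right ?_
    rw [mul_assoc, ← mul_assoc (f ^ (j : ℕ)), ← (h.pow_pow (3 - (i : ℕ)) j).eq, mul_assoc, ← pow_add,
      Nat.add_sub_cancel' (by omega : (j : ℕ) ≤ 3), hf, mul_one, ← pow_add,
      Nat.add_sub_cancel' (by omega : (i : ℕ) ≤ 3), hy]

theorem card_pairSub {y f : G} (h : Commute y f) (hy : y ^ 3 = 1) (hf : f ^ 3 = 1) (hy1 : orderOf y = 3)
    (hne : f ∉ Subgroup.zpowers y) : Nat.card (pairSub y f h hy hf) = 9 := by
  classical
  have hinj : Function.Injective (fun p : Fin 3 × Fin 3 =>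
      (⟨y ^ (p.1 : ℕ) * f ^ (p.2 : ℕ), p.1, p.2, rfl⟩ : pairSub y f h hy hf)) := by
    rintro ⟨i, j⟩ ⟨k, l⟩ he
    have he' : y ^ (i : ℕ) * f ^ (j : ℕ) = y ^ (k : ℕ) * f ^ (l : ℕ) := congrArg Subtype.val he
    have hfz : f ^ ((j : ℤ) - l) ∈ Subgroup.zpowers y := by
      refine ⟨(k : ℤ) - i, ?_⟩
      show y ^ ((k : ℤ) - i) = _
      have e1 : y ^ (k : ℕ) = y ^ (i : ℕ) * f ^ (j : ℕ) * (f ^ (l : ℕ))⁻¹ := by rw [he']; group
      rw [zpow_sub, zpow_natCast, zpow_natCast, e1, zpow_sub, zpow_natCast, zpow_natCast]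
      rw [show y ^ (i : ℕ) * f ^ (j : ℕ) * (f ^ (l : ℕ))⁻¹ * (y ^ (i : ℕ))⁻¹ =
        y ^ (i : ℕ) * (f ^ (j : ℕ) * (f ^ (l : ℕ))⁻¹ * (y ^ (i : ℕ))⁻¹) by group,
        ← ((h.pow_pow i j).inv_left.mul_right (h.pow_pow i l).inv_left.inv_right).eq]
      group
    have hjl : j = l := by
      by_contra hne'
      apply hne
      have hd : ((j : ℤ) - l) % 3 = 1 ∨ ((j : ℤ) - l) % 3 = 2 := by omega
      have hz : ∀ m : ℤ, f ^ m = f ^ (m % 3) := fun m => by
        conv_lhs => rw [← Int.emod_add_mul_ediv m 3, zpow_add, zpow_mul]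
        rw [show f ^ (3 : ℤ) = 1 from (zpow_natCast f 3).trans hf, one_zpow, mul_one]
      rw [hz] at hfz
      rcases hd with e | e <;> rw [e] at hfz
      · simpa using hfz
      · have h4 := mul_mem hfz hfz
        rw [← zpow_add, hz] at h4
        simpa using h4
    subst hjl
    refine Prod.ext (Fin.ext ?_) rfl
    have he2 := mul_right_cancel he'
    have := (pow_inj_mod.1 he2)
    rw [hy1] at this
    simpa [Nat.mod_eq_of_lt] using this
  have hsurj : Function.Surjective (fun p : Fin 3 × Fin 3 =>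
      (⟨y ^ (p.1 : ℕ) * f ^ (p.2 : ℕ), p.1, p.2, rfl⟩ : pairSub y f h hy hf)) := by
    rintro ⟨x, i, j, rfl⟩
    exact ⟨(i, j), rfl⟩
  rw [← Nat.card_congr (Equiv.ofBijective _ ⟨hinj, hsurj⟩)]
  simp

variable {t : G} (e : Subgroup.centralizer ({t} : Set G) ≃* Multiplicative (ZMod 2) × A₅)

include e in
/-- There is no such group of order 189000. -/
theorem false_of_card (hto : orderOf t = 2) (hone : ∀ s t : G, orderOf s = 2 → orderOf t = 2 → IsConj s t)
    (hab : ∀ K : Subgroup G, IsPGroup 2 K → ∀ a ∈ K, ∀ b ∈ K, a * b = b * a)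
    (hcard : Nat.card G = 189000) : False := by
  classical
  haveI : Fact (Nat.Prime 3) := ⟨Nat.prime_three⟩
  obtain ⟨O, R, hR, hRO, hyR, hOiff, hR3, hcomm, hOfix, hCy⟩ := three_structure e hto hone hab
  set y : G := (iota e g₃ : G) with hydef
  have htt : t * t = 1 := by rw [← pow_two, ← hto]; exact pow_orderOf_eq_one t
  have hti : t⁻¹ = t := inv_eq_of_mul_eq_one_right htt
  have hy3 : orderOf y = 3 := by
    rw [hydef, Subgroup.orderOf_coe, orderOf_iota]
    exact orderOf_eq_prime (by rw [pow_succ, pow_two]; exact g3_cube) g3_ne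
  have hypow : y ^ 3 = 1 := hy3 ▸ pow_orderOf_eq_one y
  have hy1 : y ≠ 1 := fun h => by rw [h, orderOf_one] at hy3; norm_num at hy3
  have hRy : ∀ a ∈ R, a * y = y * a := fun a ha => ((hOiff a).1 (hRO ha)).1
  have hyc : ∀ z ∈ Subgroup.zpowers y, ∀ a, a * y = y * a → a * z = z * a := by
    intro z hz a ha
    obtain ⟨k, rfl⟩ := Subgroup.mem_zpowers_iff.1 hz
    exact (Commute.zpow_right (show Commute a y from ha) k).eq
  have hyt : t * y * t = y := by
    rw [← Subgroup.mem_centralizer_singleton_iff.1 (iota e g₃).2, mul_assoc, htt, mul_one]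
  -- the inverting involution
  obtain ⟨g0, hg0, hg01, hg0y⟩ :=
    (by decide +kernel : ∃ g : A₅, g * g = 1 ∧ g ≠ 1 ∧ g * g₃ * g = g₃⁻¹)
  set s : G := (iota e g0 : G) with hs
  have hss : s * s = 1 := by rw [hs, ← Subgroup.coe_mul, ← map_mul, hg0, map_one, Subgroup.coe_one]
  have hso : orderOf s = 2 := by rw [hs, Subgroup.orderOf_coe, orderOf_iota]; exact (orderOf_eq_prime (by rw [pow_two]; exact hg0) hg01)
  have hst : t * s = s * t := (Subgroup.mem_centralizer_singleton_iff.1 (iota e g0).2).symm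
  have hsy : s * y * s = y⁻¹ := by
    rw [hs, hydef, ← Subgroup.coe_mul, ← Subgroup.coe_mul, ← Subgroup.coe_inv, ← map_mul, ← map_mul,
      ← map_inv, hg0y]
  obtain ⟨s', hs'⟩ : ∃ x, x = t * s := ⟨_, rfl⟩
  have hs's' : s' * s' = 1 := by
    rw [hs']; calc t * s * (t * s) = t * (s * t) * s := by group
      _ = t * t * (s * s) := by rw [← hst]; group
      _ = 1 := by rw [htt, hss, one_mul]
  have hs'o : orderOf s' = 2 := orderOf_eq_prime (by rw [pow_two]; exact hs's') (fun h => by
    have h2 : t = s := (mul_eq_one_iff_eq_inv.1 (hs' ▸ h)).trans (inv_eq_of_mul_eq_one_right hss)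
    exact tau_ne_iota e g0 (Subtype.ext (by rw [coe_tau' e hto]; exact h2)))
  have hs't : t * s' = s' * t := by
    rw [hs']; nth_rw 2 [hst]; rw [mul_assoc s t t, htt, mul_one, ← mul_assoc, htt, one_mul]
  have hs'y : s' * y * s' = y⁻¹ := by
    rw [hs', show t * s * y * (t * s) = t * (s * y) * (t * s) by group]
    rw [hst]
    rw [show t * (s * y) * (s * t) = t * (s * y * s) * t by group, hsy,
      show t * y⁻¹ * t = (t⁻¹ * y * t⁻¹)⁻¹ by group, hti, hyt]
  have hst' : t * s' = s := by rw [hs', ← mul_assoc, htt, one_mul]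
  -- involutions normalise
  have hnorm : ∀ u : G, u * u = 1 → (u * y * u = y ∨ u * y * u = y⁻¹) → ∀ a ∈ R, u * a * u ∈ R := by
    intro u hu huy a ha
    have hui : u⁻¹ = u := inv_eq_of_mul_eq_one_right hu
    have e2 : u * a * u * (u * y * u) = u * y * u * (u * a * u) := by
      rw [show u * a * u * (u * y * u) = u * a * (u * u) * y * u by group, hu,
        show u * y * u * (u * a * u) = u * y * (u * u) * a * u by group, hu, mul_one, mul_one,
        mul_assoc u a y, hRy a ha, ← mul_assoc]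
    refine hR3 _ ?_ ?_
    · rcases huy with h | h <;> rw [h] at e2
      · exact e2
      · simpa using (show Commute (u * a * u) y⁻¹ from e2).inv_right.eq
    · obtain ⟨k, hk⟩ := hR ⟨a, ha⟩
      obtain ⟨j, -, hj⟩ := (Nat.dvd_prime_pow Nat.prime_three).1
        (orderOf_dvd_of_pow_eq_one (congrArg Subtype.val hk : a ^ 3 ^ k = 1))
      exact ⟨j, by rw [show u * a * u = u * a * u⁻¹ by rw [hui], orderOf_conj', hj]⟩
  have hRodd : ∀ a ∈ R, Odd (orderOf a) := fun a ha => ((hOiff a).1 (hRO ha)).2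
  have hRcomm : ∀ a ∈ R, ∀ b ∈ R, a * b * a⁻¹ * b⁻¹ ∈ Subgroup.zpowers y :=
    fun a ha b hb => hcomm a (hRO ha) b (hRO hb)
  have sq_mem : ∀ r ∈ R, r * r ∈ Subgroup.zpowers y → r ∈ Subgroup.zpowers y := by
    intro r hr h
    obtain ⟨m, hm⟩ := hRodd r hr
    have : r = (r * r) ^ (m + 1) := by
      rw [← pow_two, ← pow_mul, show 2 * (m + 1) = orderOf r + 1 by omega, pow_succ, pow_orderOf_eq_one,
        one_mul]
    rw [this]; exact pow_mem h _
  -- the axes
  have axis : ∀ u : G, orderOf u = 2 → t * u = u * t → u * y * u = y⁻¹ → ∀ a ∈ R,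
      a ∉ Subgroup.zpowers y → a⁻¹ * (u * a * u) ∈ Subgroup.zpowers y →
      ∃ f ∈ R, f ∉ Subgroup.zpowers y ∧ f * u = u * f ∧ orderOf f = 3 ∧ t * f * t = f⁻¹ := by
    intro u huo hut huy a ha hay hmem
    have huu : u * u = 1 := by rw [← pow_two, ← huo]; exact pow_orderOf_eq_one u
    obtain ⟨r, hr, f, hf, rfl, hru, hfu⟩ := split_inverted R hRodd huu (hnorm u huu (.inr huy)) ha
    have hrr : r * r ∈ Subgroup.zpowers y := by
      have h1 : u * (r * f) * u = r⁻¹ * f := by
        rw [show u * (r * f) * u = u * r * (u * u) * f * u by rw [huu]; group,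
          show u * r * (u * u) * f * u = (u * r * u) * (u * f * u) by group, hru, hfu]
      rw [h1] at hmem
      have h2 := hyc _ hmem f (hRy f hf)
      have h3 : (r * r)⁻¹ = (r * f)⁻¹ * (r⁻¹ * f) := by
        calc (r * r)⁻¹ = (f * ((r * f)⁻¹ * (r⁻¹ * f))) * f⁻¹ := by group
          _ = _ := by rw [h2]; group
      rw [← inv_inv (r * r), h3]; exact inv_mem hmem
    have hfy : f ∉ Subgroup.zpowers y := fun h => hay (mul_mem (sq_mem r hr hrr) h)
    have hfu' : f * u = u * f := by
      calc f * u = u * f * u * u := by rw [hfu]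
        _ = u * f := by rw [mul_assoc, huu, mul_one]
    have hf3 : orderOf f = 3 := by
      have hle := card_le_three e hto hone huo (Subgroup.zpowers f) (hR.to_le (Subgroup.zpowers_le.2 hf))
        (fun b hb => by
          obtain ⟨k, rfl⟩ := Subgroup.mem_zpowers_iff.1 hb
          exact (Commute.zpow_left (show Commute f u from hfu') k).eq)
      rw [Nat.card_zpowers] at hle
      obtain ⟨m, hm⟩ := hRodd f hf
      have : orderOf f ≠ 1 := fun h => hfy (by rw [orderOf_eq_one_iff.1 h]; exact one_mem _)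
      omega
    refine ⟨f, hf, hfy, hfu', hf3, ?_⟩
    obtain ⟨r', hr', f', hf', rfl, hrt, hft⟩ := split_inverted R hRodd htt (hnorm t htt (.inl hyt)) hf
    have hz := hOfix f' (hRO hf') hft
    have h4 : t * (r' * f') * t = (r' * f')⁻¹ * (f' * f') := by
      rw [show t * (r' * f') * t = t * r' * (t * t) * f' * t by rw [htt]; group,
        show t * r' * (t * t) * f' * t = (t * r' * t) * (t * f' * t) by group, hrt, hft, mul_inv_rev,
        show f'⁻¹ * r'⁻¹ * (f' * f') = f'⁻¹ * (r'⁻¹ * f') * f' by group,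
        hyc f' hz _ (hRy _ (R.inv_mem hr')),
        show f'⁻¹ * (f' * r'⁻¹) * f' = r'⁻¹ * f' by group, hyc f' hz _ (hRy _ (R.inv_mem hr'))]
    have h5 : f' * f' = (r' * f') * (t * (r' * f') * t) := by rw [h4]; group
    have hfixz : u * (f' * f') * u = f' * f' := by
      have hc1 : Commute u (r' * f') := hfu'.symm
      have hc2 : Commute u t := hut.symm
      rw [h5, ((hc1.mul_right ((hc2.mul_right hc1).mul_right hc2))).eq, mul_assoc, huu, mul_one]
    have hinv : u * (f' * f') * u = (f' * f')⁻¹ := by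
      obtain ⟨k, hk⟩ := Subgroup.mem_zpowers_iff.1 (mul_mem hz hz)
      rw [← hk, ← inv_zpow, ← huy]
      have hui : u⁻¹ = u := inv_eq_of_mul_eq_one_right huu
      rw [show u * y * u = u * y * u⁻¹ by rw [hui], conj_zpow, hui]
    have h6 : (f' * f') * (f' * f') = 1 := by
      nth_rw 1 [hfixz.symm.trans hinv]
      exact inv_mul_cancel _
    have h7 : f' * f' = 1 := by
      refine eq_one_of_pows (m := 2) (n := 3) (by norm_num) (by rw [pow_two]; exact h6) ?_
      exact orderOf_dvd_iff_pow_eq_one.1 (hy3 ▸ orderOf_dvd_of_mem_zpowers (mul_mem hz hz))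
    rw [h4, h7, mul_one]
  -- one of the two involutions has an axis
  have dich : ∀ u v : G, orderOf u = 2 → t * u = u * t → u * y * u = y⁻¹ → v = t * u →
      (¬ ∃ f ∈ R, f ∉ Subgroup.zpowers y ∧ f * u = u * f ∧ orderOf f = 3 ∧ t * f * t = f⁻¹) →
      ∀ a ∈ R, a⁻¹ * (v * a * v) ∈ Subgroup.zpowers y := by
    intro u v huo hut huy hv hno a ha
    have huu : u * u = 1 := by rw [← pow_two, ← huo]; exact pow_orderOf_eq_one u
    obtain ⟨r, hr, f, hf, rfl, hrt, hft⟩ := split_inverted R hRodd htt (hnorm t htt (.inl hyt)) ha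
    have hfz := hOfix f (hRO hf) hft
    set r' := u * r * u with hr'
    have hr'R : r' ∈ R := hnorm u huu (.inr huy) r hr
    have hm : r * r' ∈ Subgroup.zpowers y := by
      by_contra hm
      refine hno (axis u huo hut huy _ (mul_mem hr hr'R) hm ?_)
      rw [show u * (r * r') * u = r' * (u * r' * u) by
        rw [hr', show u * r * u * (u * (u * r * u) * u) = u * r * (u * u) * (u * r * u) * u by group, huu]
        group, show u * r' * u = r by
        rw [hr', show u * (u * r * u) * u = (u * u) * r * (u * u) by group, huu]; group,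
        mul_inv_rev]
      have h := hRcomm _ (R.inv_mem hr'R) _ (R.inv_mem hr)
      simpa [mul_assoc] using h
    have hvv : v * r * v = (r * r')⁻¹ * r := by
      have e1 : t * r' * t = r'⁻¹ := by
        rw [hr', show t * (u * r * u) * t = (t * u) * r * (u * t) by group, hut]
        nth_rw 2 [← hut]
        rw [show u * t * r * (t * u) = u * (t * r * t) * u by group, hrt, mul_inv_rev, mul_inv_rev,
          inv_eq_of_mul_eq_one_right huu]
        group
      rw [hv]; nth_rw 2 [hut]
      rw [show t * u * r * (u * t) = t * (u * r * u) * t by group, ← hr', e1]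
      group
    have hvy : v * y * v = y⁻¹ := by
      rw [hv]; nth_rw 2 [hut]
      rw [show t * u * y * (u * t) = t * (u * y * u) * t by group, huy,
        show t * y⁻¹ * t = (t⁻¹ * y * t⁻¹)⁻¹ by group, hti, hyt]
    have hvinv : v * v = 1 := by
      rw [hv]; nth_rw 2 [hut]
      rw [show t * u * (u * t) = t * (u * u) * t by group, huu, mul_one, htt]
    have hfinv : v * f * v = f⁻¹ := by
      obtain ⟨k, rfl⟩ := Subgroup.mem_zpowers_iff.1 hfz
      have hvi : v⁻¹ = v := inv_eq_of_mul_eq_one_right hvinv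
      rw [← inv_zpow, ← hvy, show v * y * v = v * y * v⁻¹ by rw [hvi], conj_zpow, hvi]
    rw [show v * (r * f) * v = v * r * (v * v) * f * v by rw [hvinv]; group,
      show v * r * (v * v) * f * v = (v * r * v) * (v * f * v) by group, hvv, hfinv, mul_inv_rev]
    have hc := hyc _ (inv_mem hm) r⁻¹ (hRy _ (R.inv_mem hr))
    rw [show f⁻¹ * r⁻¹ * ((r * r')⁻¹ * r * f⁻¹) = f⁻¹ * (r⁻¹ * (r * r')⁻¹) * r * f⁻¹ by group, hc]
    rw [show f⁻¹ * ((r * r')⁻¹ * r⁻¹) * r * f⁻¹ = f⁻¹ * (r * r')⁻¹ * f⁻¹ by group]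
    exact mul_mem (mul_mem (inv_mem hfz) (inv_mem hm)) (inv_mem hfz)
  -- the orders
  obtain ⟨P, hP⟩ := hR.exists_le_sylow
  have hPc : Nat.card P = 27 := by
    rw [P.card_eq_multiplicity, hcard, Nat.factorization_def _ Nat.prime_three,
      show (189000 : ℕ) = 3 ^ 3 * 7000 by norm_num, padicValNat.mul (by norm_num) (by norm_num),
      padicValNat.prime_pow, padicValNat.eq_zero_of_not_dvd (by norm_num)]
    norm_num
  have hPle : ∀ z : G, (∃ x, x * y * x⁻¹ = z) → (∀ p ∈ (P : Subgroup G), p * z = z * p) →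
      27 ≤ Nat.card R := by
    rintro z ⟨x, rfl⟩ hp
    rw [← hPc, ← Subgroup.card_map_of_injective (f := (MulAut.conj x⁻¹).toMonoidHom)
      (MulAut.conj x⁻¹).injective]
    refine Subgroup.card_le_of_le ?_
    rintro _ ⟨p, hpP, rfl⟩
    refine hR3 _ ?_ ?_
    · show x⁻¹ * p * x⁻¹⁻¹ * y = y * (x⁻¹ * p * x⁻¹⁻¹)
      rw [inv_inv]
      calc x⁻¹ * p * x * y = x⁻¹ * (p * (x * y * x⁻¹)) * x := by group
        _ = x⁻¹ * (x * y * x⁻¹ * p) * x := by rw [hp p hpP]
        _ = y * (x⁻¹ * p * x) := by group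
    · obtain ⟨k, hk⟩ := P.isPGroup' ⟨p, hpP⟩
      obtain ⟨j, -, hj⟩ := (Nat.dvd_prime_pow Nat.prime_three).1
        (orderOf_dvd_of_pow_eq_one (congrArg Subtype.val hk : p ^ 3 ^ k = 1))
      exact ⟨j, by show orderOf (x⁻¹ * p * x⁻¹⁻¹) = _; rw [orderOf_conj', hj]⟩
  have hPy : ∀ z ∈ Subgroup.zpowers y, z ≠ 1 → (∀ p ∈ (P : Subgroup G), p * z = z * p) → 27 ≤ Nat.card R := by
    intro z hz hz1 hp
    refine hPle y ⟨1, by group⟩ fun p hpP => ?_
    rcases mem_zpowers_three hy3 hz with h | h | h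
    · exact absurd h hz1
    · exact h ▸ hp p hpP
    · have h2 := hp p hpP
      rw [h] at h2
      have : y = (y * y) * (y * y) := by
        rw [show (y * y) * (y * y) = y ^ 3 * y by simp [pow_succ, mul_assoc], hypow, one_mul]
      rw [this]
      exact ((show Commute p (y * y) from h2).mul_right h2).eq
  obtain ⟨⟨z, hzP⟩, hzc, hz1⟩ : ∃ z : ↥(P : Subgroup G), z ∈ Subgroup.center ↥(P : Subgroup G) ∧ z ≠ 1 := by
    haveI : Nontrivial ↥(P : Subgroup G) := Finite.one_lt_card_iff_nontrivial.1 (by rw [hPc]; norm_num)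
    haveI := P.isPGroup'.center_nontrivial
    obtain ⟨w, hw⟩ := exists_ne (1 : Subgroup.center ↥(P : Subgroup G))
    exact ⟨w.1, w.2, fun h => hw (Subtype.ext h)⟩
  have hzc' : ∀ p ∈ (P : Subgroup G), p * z = z * p := fun p hp =>
    congrArg Subtype.val (Subgroup.mem_center_iff.1 hzc ⟨p, hp⟩)
  have hz1' : z ≠ 1 := fun h => hz1 (Subtype.ext h)
  have hzR : z ∈ R := by
    obtain ⟨k, hk⟩ := P.isPGroup' ⟨z, hzP⟩
    obtain ⟨j, -, hj⟩ := (Nat.dvd_prime_pow Nat.prime_three).1
      (orderOf_dvd_of_pow_eq_one (congrArg Subtype.val hk : z ^ 3 ^ k = 1))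
    exact hR3 z (hzc' y (hP hyR)).symm ⟨j, hj⟩
  -- an axis
  have hexist : ∃ (u f : G), (orderOf u = 2 ∧ t * u = u * t ∧ u * y * u = y⁻¹) ∧
      (f ∈ R ∧ f ∉ Subgroup.zpowers y ∧ f * u = u * f ∧ orderOf f = 3 ∧ t * f * t = f⁻¹) := by
    by_cases hA : ∃ f ∈ R, f ∉ Subgroup.zpowers y ∧ f * s = s * f ∧ orderOf f = 3 ∧ t * f * t = f⁻¹
    · obtain ⟨f, hf⟩ := hA; exact ⟨s, f, ⟨hso, hst, hsy⟩, hf⟩
    by_cases hzy : z ∈ Subgroup.zpowers y
    · have h27 := hPy z hzy hz1' hzc'
      obtain ⟨a, haR, hay⟩ : ∃ a ∈ R, a ∉ Subgroup.zpowers y := by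
        by_contra hc
        push Not at hc
        have := Subgroup.card_le_of_le (show R ≤ Subgroup.zpowers y from hc)
        rw [Nat.card_zpowers, hy3] at this
        omega
      obtain ⟨f, hf⟩ := axis s' hs'o hs't hs'y a haR hay (dich s s' hso hst hsy hs' hA a haR)
      exact ⟨s', f, ⟨hs'o, hs't, hs'y⟩, hf⟩
    · obtain ⟨f, hf⟩ := axis s' hs'o hs't hs'y z hzR hzy (dich s s' hso hst hsy hs' hA z hzR)
      exact ⟨s', f, ⟨hs'o, hs't, hs'y⟩, hf⟩
  obtain ⟨u, f, ⟨huo, hut, huy⟩, hfR, hfy, hfu, hf3, hft⟩ := hexist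
  have huu : u * u = 1 := by rw [← pow_two, ← huo]; exact pow_orderOf_eq_one u
  have hfpow : f ^ 3 = 1 := hf3 ▸ pow_orderOf_eq_one f
  have hfyc : f * y = y * f := hRy f hfR
  obtain ⟨g, hg⟩ := isConj_iff.1 (conj_three e hto hone huo hf3 hfu)
  -- the Sylow subgroup of the conjugate
  set R' := R.map (MulAut.conj g).toMonoidHom with hR'
  have hR'mem : ∀ a, a * f = f * a → (∃ k : ℕ, orderOf a = 3 ^ k) → a ∈ R' := by
    intro a ha hk
    refine ⟨g⁻¹ * a * g, hR3 _ ?_ ?_, by show g * (g⁻¹ * a * g) * g⁻¹ = a; group⟩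
    · rw [← hg] at ha
      calc g⁻¹ * a * g * y = g⁻¹ * (a * (g * y * g⁻¹)) * g := by group
        _ = g⁻¹ * (g * y * g⁻¹ * a) * g := by rw [ha]
        _ = y * (g⁻¹ * a * g) := by group
    · obtain ⟨k, hk⟩ := hk
      exact ⟨k, by
        rw [show g⁻¹ * a * g = g⁻¹ * a * g⁻¹⁻¹ by group, orderOf_conj', hk]⟩
  have hR'c : Nat.card R' = Nat.card R := Subgroup.card_map_of_injective (MulAut.conj g).injective
  have three_el : ∀ a ∈ R, ∃ k : ℕ, orderOf a = 3 ^ k := by
    intro a ha
    obtain ⟨k, hk⟩ := hR ⟨a, ha⟩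
    obtain ⟨j, -, hj⟩ := (Nat.dvd_prime_pow Nat.prime_three).1
      (orderOf_dvd_of_pow_eq_one (congrArg Subtype.val hk : a ^ 3 ^ k = 1))
    exact ⟨j, hj⟩
  set Q := pairSub y f (show Commute y f from hfyc.symm) hypow hfpow with hQ
  have hQc : Nat.card Q = 9 := card_pairSub _ hypow hfpow hy3 hfy
  have hQR : Q ≤ R := by
    rintro _ ⟨i, j, rfl⟩
    exact mul_mem (pow_mem hyR _) (pow_mem hfR _)
  have hR9 : 9 ≤ Nat.card R := hQc ▸ Subgroup.card_le_of_le hQR
  have hyQ : y ∈ Q := ⟨1, 0, by simp⟩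
  have hfQ : f ∈ Q := ⟨0, 1, by simp⟩
  obtain ⟨n, hn⟩ := IsPGroup.iff_card.1 hR
  have hn23 : n = 2 ∨ n = 3 := by
    have h1 : 3 ^ n ∣ 3 ^ 3 := by rw [← hn, show (3 : ℕ) ^ 3 = 27 by norm_num, ← hPc]; exact Subgroup.card_dvd_of_le hP
    have h2 := (Nat.pow_dvd_pow_iff_le_right (by norm_num)).1 h1
    rw [hn] at hR9
    have h3 : 2 ≤ n := by
      by_contra h
      interval_cases n <;> omega
    omega
  rcases hn23 with rfl | rfl <;> norm_num at hn
  · -- order nine
    have hRQ : Q = R := Subgroup.eq_of_le_of_card_ge hQR (by rw [hn, hQc])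
    have hzy : z ∉ Subgroup.zpowers y := fun h => by have := hPy z h hz1' hzc'; omega
    obtain ⟨i, j, hij⟩ := (hRQ ▸ hzR : z ∈ Q)
    have hj0 : j ≠ 0 := fun h => hzy (by rw [hij, h]; simp)
    have hi0 : i ≠ 0 := by
      intro h
      have hzf : z = f ^ (j : ℕ) := by rw [hij, h]; simp
      have hP27 : ∀ p ∈ (P : Subgroup G), p * f = f * p := by
        intro p hp
        have h2 := hzc' p hp
        rw [hzf] at h2
        have : f = (f ^ (j : ℕ)) ^ (j : ℕ) := by
          rw [← pow_mul, pow_eq_pow_mod _ hfpow,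
            (by decide : ∀ q : Fin 3, q ≠ 0 → (q : ℕ) * q % 3 = 1) j hj0, pow_one]
        rw [this]; exact ((show Commute p (f ^ (j : ℕ)) from h2).pow_right _).eq
      have := hPle f ⟨g, hg⟩ hP27
      omega
    obtain ⟨v, hvP, hvy⟩ : ∃ v ∈ (P : Subgroup G), v * y ≠ y * v := by
      by_contra hc
      push Not at hc
      have := hPle y ⟨1, by group⟩ hc
      omega
    have hidx : (R.subgroupOf (P : Subgroup G)).index = 3 := by
      have h := (R.subgroupOf (P : Subgroup G)).card_mul_index
      rw [Nat.card_congr (Subgroup.subgroupOfEquivOfLe hP).toEquiv, hn, hPc] at h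
      omega
    haveI : (R.subgroupOf (P : Subgroup G)).Normal :=
      Subgroup.normal_of_index_eq_minFac_card (by rw [hidx, hPc]; norm_num)
    have hPR : ∀ a ∈ R, v * a * v⁻¹ ∈ R := fun a ha => by
      have := Subgroup.Normal.conj_mem this (⟨a, hP ha⟩ : ↥(P : Subgroup G)) ha ⟨v, hvP⟩
      exact this
    have hv3 : v ^ 3 ∈ R := by
      have := (R.subgroupOf (P : Subgroup G)).pow_index_mem ⟨v, hvP⟩
      rw [hidx] at this
      exact this
    have hz3 : z ^ 3 = 1 := by
      rw [hij, ((show Commute y f from hfyc.symm).pow_pow i j).mul_pow, ← pow_mul, ← pow_mul,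
        mul_comm (i : ℕ), mul_comm (j : ℕ), pow_mul, pow_mul, hypow, hfpow, one_pow, one_pow, one_mul]
    -- coordinates with respect to y and z
    have hQz : ∀ a ∈ R, ∃ k m : Fin 3, a = y ^ (k : ℕ) * z ^ (m : ℕ) := by
      have hzy' : Commute y z := (hRy z hzR).symm
      intro a ha
      have hle : pairSub y z hzy' hypow hz3 ≤ R := by
        rintro _ ⟨k, m, rfl⟩
        exact mul_mem (pow_mem hyR _) (pow_mem hzR _)
      have heq := Subgroup.eq_of_le_of_card_ge hle (by rw [card_pairSub _ hypow hz3 hy3 hzy, hn])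
      rw [← heq] at ha
      exact ha
    obtain ⟨k, m, hkm⟩ := hQz _ (hPR y hyR)
    have hvz : v * z * v⁻¹ = z := by rw [hzc' v hvP, mul_inv_cancel_right]
    have step : ∀ a b : ℕ, v * (y ^ a * z ^ b) * v⁻¹ = (y ^ (k : ℕ) * z ^ (m : ℕ)) ^ a * z ^ b := by
      intro a b
      rw [show v * (y ^ a * z ^ b) * v⁻¹ = (v * y ^ a * v⁻¹) * (v * z ^ b * v⁻¹) by group, ← conj_pow,
        ← conj_pow, hvz, hkm]
    have hk1 : k = 1 := by
      fin_cases k
      · exfalso
        have h1 : v * y * v⁻¹ = v * z ^ (m : ℕ) * v⁻¹ := by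
          rw [hkm, ← conj_pow, hvz]; simp
        have h2 : y = z ^ (m : ℕ) := mul_left_cancel (mul_right_cancel h1)
        exact hvy (by rw [h2]; exact ((show Commute v z from hzc' v hvP).pow_right _).eq)
      · rfl
      · exfalso
        have hyz : Commute y z := (hRy z hzR).symm
        have h2 : v * (v * y * v⁻¹) * v⁻¹ = y := by
          rw [hkm, step]
          simp only []
          rw [show ((y ^ 2 * z ^ (m : ℕ)) ^ 2 : G) = y ^ 4 * z ^ (2 * (m : ℕ)) by
            rw [((hyz.pow_pow 2 m)).mul_pow, ← pow_mul, ← pow_mul, mul_comm (m : ℕ)],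
            mul_assoc, ← pow_add, show 2 * (m : ℕ) + (m : ℕ) = (m : ℕ) * 3 by ring,
            show (4 : ℕ) = 3 + 1 by rfl, pow_add, hypow, one_mul, pow_one]
          have hz3' : (z ^ (m : ℕ)) ^ 3 = 1 := by rw [pow_right_comm, hz3, one_pow]
          rw [pow_mul z, hz3', mul_one]
        have hv2 : (v ^ 2) * y = y * v ^ 2 := by
          calc v ^ 2 * y = v * (v * y * v⁻¹) * v⁻¹ * v ^ 2 := by rw [pow_two]; group
            _ = y * v ^ 2 := by rw [h2]
        have h3 := hRy _ hv3
        apply hvy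
        have : v = v ^ 3 * (v ^ 2)⁻¹ := by group
        rw [this]
        exact ((show Commute (v ^ 3) y from h3).mul_left (show Commute (v ^ 2) y from hv2).inv_left).eq
    subst hk1
    have hm0 : m ≠ 0 := by
      intro h
      apply hvy
      rw [h] at hkm
      simp only [Fin.val_zero, pow_zero, mul_one, Fin.val_one, pow_one] at hkm
      exact mul_inv_eq_iff_eq_mul.1 hkm
    -- both translates of y are conjugate to y
    have htr : ∀ b : Fin 3, b ≠ 0 → ∃ x, x * y * x⁻¹ = y * z ^ (b : ℕ) := by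
      intro b hb
      by_cases h : b = m
      · exact ⟨v, by rw [hkm, h]; simp⟩
      · refine ⟨v * v, ?_⟩
        have h2 := step 1 (m : ℕ)
        simp only [Fin.val_one, pow_one] at h2 hkm
        rw [show v * v * y * (v * v)⁻¹ = v * (v * y * v⁻¹) * v⁻¹ by group, hkm, h2, mul_assoc, ← pow_add]
        rw [pow_eq_pow_mod _ hz3, (by decide : ∀ c d : Fin 3, c ≠ 0 → d ≠ 0 → c ≠ d →
          ((d : ℕ) + d) % 3 = (c : ℕ)) b m hb hm0 h]
    -- the power of z with unit y-coordinate
    obtain ⟨b, e₁, hb, hz1e⟩ : ∃ (b : Fin 3) (e₁ : ℕ), b ≠ 0 ∧ z ^ (b : ℕ) = y * f ^ e₁ := by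
      refine ⟨i, (j : ℕ) * i, hi0, ?_⟩
      rw [hij, ((show Commute y f from hfyc.symm).pow_pow i j).mul_pow, ← pow_mul, ← pow_mul,
        pow_eq_pow_mod ((i : ℕ) * i) hypow,
        (by decide : ∀ q : Fin 3, q ≠ 0 → (q : ℕ) * q % 3 = 1) i hi0, pow_one]
    obtain ⟨x, hx⟩ := htr b hb
    set w := t * z ^ (b : ℕ) * t with hw
    have hwe : w = y * (f ^ e₁)⁻¹ := by
      rw [hw, hz1e, show t * (y * f ^ e₁) * t = t * y * (t * t) * f ^ e₁ * t by rw [htt]; group,
        show t * y * (t * t) * f ^ e₁ * t = (t * y * t) * (t * f ^ e₁ * t⁻¹) by rw [hti]; group,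
        hyt, ← conj_pow, hti, hft, inv_pow]
    have hxw : x * y * x⁻¹ = w⁻¹ := by
      rw [hx, hz1e, hwe, mul_inv_rev, inv_inv]
      have hc : Commute (f ^ e₁) y := ((show Commute f y from hfyc).pow_left _)
      rw [hc.inv_right.eq, ← mul_assoc]
      congr 1
      exact (inv_eq_of_mul_eq_one_right (by simpa [pow_succ, mul_assoc] using hypow)).symm
    have h27 : 27 ≤ Nat.card R := by
      refine hPle (z ^ (b : ℕ))⁻¹ ⟨t * x, ?_⟩ fun p hp =>
        (((show Commute p z from hzc' p hp).pow_right _).inv_right).eq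
      rw [show t * x * y * (t * x)⁻¹ = t * (x * y * x⁻¹) * t⁻¹ by group, hxw, hw, mul_inv_rev, mul_inv_rev,
        hti]
      rw [show t * (t * ((z ^ (b : ℕ))⁻¹ * t)) * t = (t * t) * (z ^ (b : ℕ))⁻¹ * (t * t) by group, htt]
      group
    omega
  · -- order twenty-seven
    have hRP : R = P := Subgroup.eq_of_le_of_card_ge hP (by rw [hn, hPc])
    have other : ∀ u v : G, orderOf u = 2 → t * u = u * t → u * y * u = y⁻¹ → v = t * u → orderOf v = 2 →
        ∃ f ∈ R, f ∉ Subgroup.zpowers y ∧ f * u = u * f ∧ orderOf f = 3 ∧ t * f * t = f⁻¹ := by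
      intro u v huo hut huy hv hvo
      by_contra hno
      have hall := dich u v huo hut huy hv hno
      have hvv : v * v = 1 := by rw [← pow_two, ← hvo]; exact pow_orderOf_eq_one v
      have huu : u * u = 1 := by rw [← pow_two, ← huo]; exact pow_orderOf_eq_one u
      have hvy : v * y * v = y⁻¹ := by
        rw [hv]; nth_rw 2 [hut]
        rw [show t * u * y * (u * t) = t * (u * y * u) * t by group, huy,
          show t * y⁻¹ * t = (t⁻¹ * y * t⁻¹)⁻¹ by group, hti, hyt]
      set K := R ⊓ Subgroup.centralizer ({v} : Set G) with hK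
      have hK3 := card_le_three e hto hone hvo K (hR.to_le inf_le_left)
        (fun a ha => Subgroup.mem_centralizer_singleton_iff.1 ha.2)
      have hsurj : Function.Surjective (fun p : Subgroup.zpowers y × K =>
          (⟨(p.1 : G) * p.2, mul_mem (Subgroup.zpowers_le.2 hyR p.1.2) p.2.2.1⟩ : R)) := by
        rintro ⟨a, ha⟩
        obtain ⟨r, hr, f, hf, rfl, hrv, hfv⟩ := split_inverted R hRodd hvv (hnorm v hvv (.inr hvy)) ha
        have hr2 : r * r ∈ Subgroup.zpowers y := by
          have h1 := hall _ ha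
          have e1 : v * (r * f) * v = r⁻¹ * f := by
            rw [show v * (r * f) * v = v * r * (v * v) * f * v by rw [hvv]; group,
              show v * r * (v * v) * f * v = (v * r * v) * (v * f * v) by group, hrv, hfv]
          rw [e1] at h1
          have h2 := hyc _ h1 f (hRy f hf)
          have h3 : (r * r)⁻¹ = (r * f)⁻¹ * (r⁻¹ * f) := by
            calc (r * r)⁻¹ = (f * ((r * f)⁻¹ * (r⁻¹ * f))) * f⁻¹ := by group
              _ = _ := by rw [h2]; group
          rw [← inv_inv (r * r), h3]; exact inv_mem h1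
        have hfK : f ∈ K := ⟨hf, Subgroup.mem_centralizer_singleton_iff.2 (by
          calc f * v = v * f * v * v := by rw [hfv]
            _ = v * f := by rw [mul_assoc, hvv, mul_one])⟩
        exact ⟨(⟨r, sq_mem r hr hr2⟩, ⟨f, hfK⟩), rfl⟩
      have := Nat.card_le_card_of_surjective _ hsurj
      rw [Nat.card_prod, Nat.card_zpowers, hy3, hn] at this
      omega
    obtain ⟨f1, hf1R, -, hf1s, hf13, -⟩ := other s s' hso hst hsy hs' hs'o
    obtain ⟨f2, hf2R, -, hf2s, hf23, -⟩ := other s' s hs'o hs't hs'y hst'.symm hso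
    -- no prime above three
    have noq : ∀ w ∈ O, ∀ q : ℕ, q.Prime → 5 ≤ q → orderOf w = q → False := by
      intro w hw q hq hq5 hwq
      have hwq' : w ^ q = 1 := hwq ▸ pow_orderOf_eq_one w
      have kill : ∀ c ∈ Subgroup.zpowers y, c ^ q = 1 → c = 1 := fun c hc h =>
        eq_one_of_pows ((Nat.coprime_primes hq Nat.prime_three).2 (by omega)) h
          (orderOf_dvd_iff_pow_eq_one.1 (hy3 ▸ orderOf_dvd_of_mem_zpowers hc))
      have hwy : w * y = y * w := ((hOiff w).1 hw).1
      have comm_w : ∀ a ∈ O, w * a = a * w := by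
        intro a ha
        have hc := hcomm w hw a ha
        set c := w * a * w⁻¹ * a⁻¹ with hcdef
        have hwa : w * a * w⁻¹ = c * a := by rw [hcdef]; group
        have hcw : Commute w c := hyc c hc w hwy
        have key : ∀ k : ℕ, w ^ k * a * (w ^ k)⁻¹ = c ^ k * a := by
          intro k
          induction k with
          | zero => simp
          | succ k ih =>
            rw [show w ^ (k + 1) * a * (w ^ (k + 1))⁻¹ = w * (w ^ k * a * (w ^ k)⁻¹) * w⁻¹ by
              rw [pow_succ']; group, ih, ← mul_assoc, (hcw.pow_right k).eq,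
              show c ^ k * w * a * w⁻¹ = c ^ k * (w * a * w⁻¹) by group, hwa, ← mul_assoc, ← pow_succ]
        have h1 := key q
        rw [hwq', one_mul, inv_one, mul_one] at h1
        have hc1 : c ^ q = 1 := mul_right_cancel (b := a) (by rw [← h1, one_mul])
        rw [kill c hc hc1, one_mul] at hwa
        exact mul_inv_eq_iff_eq_mul.1 hwa
      have hOn : ∀ v : G, v * v = 1 → (v * y * v = y ∨ v * y * v = y⁻¹) → ∀ a ∈ O, v * a * v ∈ O := by
        intro v hv hvy a ha
        obtain ⟨h1, h2⟩ := (hOiff a).1 ha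
        have e2 : v * a * v * (v * y * v) = v * y * v * (v * a * v) := by
          rw [show v * a * v * (v * y * v) = v * a * (v * v) * y * v by group, hv,
            show v * y * v * (v * a * v) = v * y * (v * v) * a * v by group, hv, mul_one, mul_one,
            mul_assoc v a y, h1, ← mul_assoc]
        refine (hOiff _).2 ⟨?_, ?_⟩
        · rcases hvy with h | h <;> rw [h] at e2
          · exact e2
          · simpa using (show Commute (v * a * v) y⁻¹ from e2).inv_right.eq
        · rw [show v * a * v = v * a * v⁻¹ by rw [inv_eq_of_mul_eq_one_right hv], orderOf_conj']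
          exact h2
      have htw : t * w * t = w⁻¹ := by
        obtain ⟨r, hr, f, hf, rfl, hrt, hft⟩ :=
          split_inverted O (fun a ha => ((hOiff a).1 ha).2) htt (hOn t htt (.inl hyt)) hw
        have hfz := hOfix f hf hft
        have hrf : Commute r f := hyc f hfz r ((hOiff r).1 hr).1
        have hrq : (r * f) ^ q = 1 := hwq'
        have h2 : t * (r * f) * t = r⁻¹ * f := by
          rw [show t * (r * f) * t = t * r * (t * t) * f * t by rw [htt]; group,
            show t * r * (t * t) * f * t = (t * r * t) * (t * f * t) by group, hrt, hft]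
        have h3 : (t * (r * f) * t) ^ q = 1 := by
          rw [show t * (r * f) * t = t * (r * f) * t⁻¹ by rw [hti], conj_pow, hrq]; group
        rw [h2, hrf.inv_left.mul_pow, inv_pow] at h3
        rw [hrf.mul_pow] at hrq
        have h4 : (f ^ q) * (f ^ q) = 1 := by
          calc f ^ q * f ^ q = (r ^ q)⁻¹ * (r ^ q * f ^ q) * f ^ q := by group
            _ = 1 := by rw [hrq, mul_one]; exact h3
        have h5 : f ^ q = 1 := by
          refine eq_one_of_pows (m := 2) (n := 3) (by norm_num) (by rw [pow_two]; exact h4) ?_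
          exact orderOf_dvd_iff_pow_eq_one.1 (hy3 ▸ orderOf_dvd_of_mem_zpowers (pow_mem hfz q))
        rw [h2, kill f hfz h5, mul_one, mul_one]
      have hsw : s * w * s = w⁻¹ := by
        have hw' := hOn s hss (.inr hsy) w hw
        set u0 := w * (s * w * s) with hu0
        have hcom := comm_w _ hw'
        have hu0q : u0 ^ q = 1 := by
          rw [hu0, (show Commute w (s * w * s) from hcom).mul_pow, hwq', one_mul,
            show s * w * s = s * w * s⁻¹ by rw [inv_eq_of_mul_eq_one_right hss], conj_pow, hwq']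
          group
        have hu0s : u0 * s = s * u0 := by
          rw [hu0]
          calc w * (s * w * s) * s = w * (s * w) * (s * s) := by group
            _ = s * (s * w * s * w) := by
              rw [hss, mul_one, show s * (s * w * s * w) = (s * s) * (w * s * w) by group, hss]; group
            _ = _ := by rw [← hcom]
        by_contra hne
        have hu0ne : u0 ≠ 1 := fun h => hne (eq_inv_of_mul_eq_one_right h)
        refine no_fifteen e hto hone hso hf13 (by
          haveI : Fact q.Prime := ⟨hq⟩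
          exact orderOf_eq_prime hu0q hu0ne) hq hq5 hf1s hu0s ?_
        exact ((show Commute f1 w from (comm_w f1 (hRO hf1R)).symm).mul_right (by
          have hf1c : s * f1 * s = f1 := by rw [← hf1s, mul_assoc, hss, mul_one]
          have := comm_w _ (hRO hf1R)
          show f1 * (s * w * s) = s * w * s * f1
          calc f1 * (s * w * s) = (s * f1 * s) * (s * w * s) := by rw [hf1c]
            _ = s * f1 * (s * s) * w * s := by group
            _ = s * (f1 * w) * s := by rw [hss]; group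
            _ = s * (w * f1) * s := by rw [this]
            _ = s * w * (s * s) * f1 * s := by rw [hss]; group
            _ = (s * w * s) * (s * f1 * s) := by group
            _ = s * w * s * f1 := by rw [hf1c]))
      refine no_fifteen e hto hone hs'o hf23 hwq hq hq5 hf2s ?_ (comm_w f2 (hRO hf2R)).symm
      have : s' * w * s' = w := by
        rw [hs']; nth_rw 2 [hst]
        rw [show t * s * w * (s * t) = t * (s * w * s) * t by group, hsw,
          show t * w⁻¹ * t = (t⁻¹ * w * t⁻¹)⁻¹ by group, hti, htw, inv_inv]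
      calc w * s' = s' * w * s' * s' := by rw [this]
        _ = s' * w := by rw [mul_assoc, hs's', mul_one]
    have hOR : O = R := by
      refine le_antisymm (fun a ha => hR3 a ((hOiff a).1 ha).1 ?_) hRO
      obtain ⟨ha1, ha2⟩ := (hOiff a).1 ha
      refine ⟨(orderOf a).primeFactorsList.length, Nat.eq_prime_pow_of_unique_prime_dvd (orderOf_pos a).ne' ?_⟩
      intro d hd hda
      by_contra hd3
      have hd2 : d ≠ 2 := fun h => Nat.not_even_iff_odd.2 ha2 (even_iff_two_dvd.2 (h ▸ hda))
      have hd5 : 5 ≤ d := by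
        have := hd.two_le
        rcases (show d = 4 ∨ 5 ≤ d by omega) with h | h
        · exact absurd (h ▸ hd) (by norm_num)
        · exact h
      exact noq _ (O.pow_mem ha (orderOf a / d)) d hd hd5
        (orderOf_pow_orderOf_div (orderOf_pos a).ne' hda)
    have hCy54 : Nat.card (Subgroup.centralizer ({y} : Set G)) = 54 := by rw [hCy, hOR, hn]
    by_cases hcen : ∀ a ∈ R, a * f = f * a
    · -- the axis is central
      have hRR' : R ≤ R' := fun a ha => hR'mem a (hcen a ha) (three_el a ha)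
      have hgN : g ∈ Subgroup.normalizer (R : Set G) := by
        refine mem_normalizer_of_maps fun a ha => ?_
        have := Subgroup.eq_of_le_of_card_ge hRR' (le_of_eq hR'c)
        rw [this]; exact ⟨a, ha, rfl⟩
      set N := Subgroup.normalizer (R : Set G) with hN
      have hCN : Subgroup.centralizer ({y} : Set G) ≤ N := by
        intro c hc
        rw [Subgroup.mem_centralizer_singleton_iff] at hc
        refine mem_normalizer_of_maps fun a ha => hR3 _ ?_ ?_
        · calc c * a * c⁻¹ * y = c * a * (c⁻¹ * y) := by group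
            _ = c * a * (y * c⁻¹) := by rw [(show Commute c y from hc).inv_left.eq]
            _ = c * (a * y) * c⁻¹ := by group
            _ = (c * y) * a * c⁻¹ := by rw [hRy a ha]; group
            _ = y * (c * a * c⁻¹) := by rw [hc]; group
        · obtain ⟨k, hk⟩ := three_el a ha
          exact ⟨k, by rw [orderOf_conj', hk]⟩
      have horb := card_conj_orbit N y
      rw [Nat.card_congr (Subgroup.subgroupOfEquivOfLe hCN).toEquiv, hCy54] at horb
      have h4 : 4 ≤ Nat.card {x : G // ∃ n ∈ N, n * y * n⁻¹ = x} := by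
        have hsN : s ∈ N := mem_normalizer_of_maps fun a ha => by
          rw [inv_eq_of_mul_eq_one_right hss]; exact hnorm s hss (.inr hsy) a ha
        have hgy : g * y * g⁻¹ = f := hg
        have hsi : s⁻¹ = s := inv_eq_of_mul_eq_one_right hss
        let m4 : Fin 4 → {x : G // ∃ n ∈ N, n * y * n⁻¹ = x} := ![⟨y, 1, one_mem _, by group⟩,
          ⟨y⁻¹, s, hsN, by rw [hsi, hsy]⟩, ⟨f, g, hgN, hgy⟩,
          ⟨f⁻¹, g * s, mul_mem hgN hsN, by
            rw [show g * s * y * (g * s)⁻¹ = g * (s * y * s⁻¹) * g⁻¹ by group, hsi, hsy, ← hgy]; group⟩]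
        have hinj : Function.Injective m4 := by
          have n1 : y ≠ y⁻¹ := fun h => hy1 (eq_one_of_pows (m := 2) (n := 3) (by norm_num)
            (by rw [pow_two]; nth_rw 1 [h]; exact inv_mul_cancel y) hypow)
          have hf1 : f ≠ 1 := fun h => hfy (h ▸ one_mem _)
          have n2 : f ≠ f⁻¹ := fun h => hf1 (eq_one_of_pows (m := 2) (n := 3) (by norm_num)
            (by rw [pow_two]; nth_rw 1 [h]; exact inv_mul_cancel f) hfpow)
          have n3 : y ≠ f := fun h => hfy (h ▸ Subgroup.mem_zpowers y)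
          have n4 : y⁻¹ ≠ f := fun h => hfy (h ▸ inv_mem (Subgroup.mem_zpowers y))
          have n5 : y ≠ f⁻¹ := fun h => hfy (by rw [← inv_inv f, ← h]; exact inv_mem (Subgroup.mem_zpowers y))
          have n6 : y⁻¹ ≠ f⁻¹ := fun h => n3 (inv_injective h)
          intro a b hab'
          have h := congrArg Subtype.val hab'
          fin_cases a <;> fin_cases b <;> simp [m4] at h ⊢ <;>
            first | exact n1 h | exact n1 h.symm | exact n2 h | exact n2 h.symm | exact n3 h | exact n3 h.symm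
                  | exact n4 h | exact n4 h.symm | exact n5 h | exact n5 h.symm | exact n6 h | exact n6 h.symm
        calc 4 = Nat.card (Fin 4) := by simp
          _ ≤ _ := Nat.card_le_card_of_injective m4 hinj
      -- no prime above three in the normalizer
      have hN216 : Nat.card N ∣ 216 := by
        have hdvd : Nat.card N ∣ 216 * 875 := by
          rw [show (216 : ℕ) * 875 = Nat.card G by rw [hcard]]; exact Subgroup.card_subgroup_dvd_card N
        refine Nat.Coprime.dvd_of_dvd_mul_right ?_ hdvd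
        have noN : ∀ q : ℕ, q = 5 ∨ q = 7 → ¬ q ∣ Nat.card N := by
          intro q hq hdiv
          have hqp : q.Prime := by rcases hq with rfl | rfl <;> norm_num
          haveI : Fact q.Prime := ⟨hqp⟩
          obtain ⟨⟨w, hwN⟩, hwo⟩ := exists_prime_orderOf_dvd_card' q hdiv
          rw [Subgroup.orderOf_mk] at hwo
          let act : MulAut ↥R := Subgroup.normalizerMonoidHom R ⟨w, hwN⟩
          have hact : ∀ a : R, ((act a : R) : G) = w * a * w⁻¹ := fun a => rfl
          have hpow : IsPGroup q (Subgroup.zpowers act) := by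
            refine IsPGroup.of_injective ((IsPGroup.of_card (n := 1) (G := Subgroup.zpowers (⟨w, hwN⟩ : N))
              (by rw [Nat.card_zpowers, Subgroup.orderOf_mk, hwo, pow_one])).map
              (Subgroup.normalizerMonoidHom R)) (MulEquiv.subgroupCongr
                ((MonoidHom.map_zpowers _ _).symm)).toMonoidHom (MulEquiv.injective _)
          haveI : Fintype R := Fintype.ofFinite _
          have hmod := hpow.card_modEq_card_fixedPoints R
          set F := R ⊓ Subgroup.centralizer ({w} : Set G) with hF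
          have hfix : Nat.card (MulAction.fixedPoints (Subgroup.zpowers act) R) = Nat.card F := by
            refine Nat.card_congr
              { toFun := fun a => ⟨((a : R) : G), (a : R).2, ?_⟩
                invFun := fun a => ⟨⟨a.1, a.2.1⟩, ?_⟩
                left_inv := fun a => rfl
                right_inv := fun a => rfl }
            · have h1 : act (a : R) = (a : R) := a.2 ⟨act, Subgroup.mem_zpowers act⟩
              have h2 := congrArg Subtype.val h1
              rw [hact] at h2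
              exact Subgroup.mem_centralizer_singleton_iff.2 (mul_inv_eq_iff_eq_mul.1 h2).symm
            · rintro ⟨h, hh⟩
              have h1 : act ⟨a.1, a.2.1⟩ = ⟨a.1, a.2.1⟩ := Subtype.ext (by
                rw [hact]
                show w * a.1 * w⁻¹ = a.1
                rw [← Subgroup.mem_centralizer_singleton_iff.1 a.2.2, mul_inv_cancel_right])
              obtain ⟨k, rfl⟩ := Subgroup.mem_zpowers_iff.1 hh
              show (act ^ k) _ = _
              exact (MulAction.stabilizer (MulAut ↥R) (⟨a.1, a.2.1⟩ : R)).zpow_mem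
                (MulAction.mem_stabilizer_iff.2 h1) k
          rw [hfix, hn] at hmod
          obtain ⟨j, hj3, hj⟩ := (Nat.dvd_prime_pow Nat.prime_three).1
            (show Nat.card F ∣ 3 ^ 3 by rw [show (3 : ℕ) ^ 3 = 27 by norm_num, ← hn]; exact Subgroup.card_dvd_of_le inf_le_left)
          rw [hj] at hmod
          have hj27 : j = 3 := by
            unfold Nat.ModEq at hmod
            rcases hq with rfl | rfl <;> interval_cases j <;> first | rfl | (norm_num at hmod)
          have hFR : F = R := Subgroup.eq_of_le_of_card_ge inf_le_left (by rw [hj, hj27, hn]; norm_num)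
          have hwy : w * y = y * w := by
            have h := (hFR ▸ hyR : y ∈ F).2
            exact (Subgroup.mem_centralizer_singleton_iff.1 h).symm
          refine noq w ((hOiff w).2 ⟨hwy, ?_⟩) q hqp (by omega) hwo
          rw [hwo]; rcases hq with rfl | rfl <;> decide
        have c5 : (Nat.card N).Coprime 5 :=
          ((Nat.Prime.coprime_iff_not_dvd (by norm_num)).2 (noN 5 (.inl rfl))).symm
        have c7 : (Nat.card N).Coprime 7 :=
          ((Nat.Prime.coprime_iff_not_dvd (by norm_num)).2 (noN 7 (.inr rfl))).symm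
        rw [show (875 : ℕ) = 5 ^ 3 * 7 by norm_num]
        exact (c5.pow_right 3).mul_right c7
      have hN216' : Nat.card N = 216 := by
        have := Nat.le_of_dvd (by norm_num) hN216
        have : 4 * 54 ≤ Nat.card N := horb ▸ Nat.mul_le_mul_right 54 h4
        omega
      have hmod := card_sylow_modEq_one 3 G
      rw [P.card_eq_index_normalizer] at hmod
      have hidx := (Subgroup.normalizer ((P : Subgroup G) : Set G)).card_mul_index
      have hNeq : Nat.card (Subgroup.normalizer ((P : Subgroup G) : Set G)) = 216 := by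
        rw [← hRP]; exact hN216'
      rw [hNeq, hcard] at hidx
      have h875 : (Subgroup.normalizer ((P : Subgroup G) : Set G)).index = 875 := by omega
      unfold Nat.ModEq at hmod
      rw [show Subgroup.normalizer ((P : Set G)) = Subgroup.normalizer ((P : Subgroup G) : Set G) from rfl,
        h875] at hmod
      norm_num at hmod
    · -- the axis is not central
      push Not at hcen
      obtain ⟨a0, ha0, ha0f⟩ := hcen
      have hRn : ∀ a ∈ R, ∀ x ∈ Subgroup.zpowers y, a * x * a⁻¹ = x := fun a ha x hx => by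
        rw [hyc x hx a (hRy a ha), mul_inv_cancel_right]
      obtain ⟨a, haR, haf⟩ : ∃ a ∈ R, a * f * a⁻¹ = f * y := by
        have hc := hRcomm a0 ha0 f hfR
        have e0 : ∀ c, a0 * f * a0⁻¹ * f⁻¹ = c → a0 * f * a0⁻¹ = c * f := fun c hc => by rw [← hc]; group
        rcases mem_zpowers_three hy3 hc with h | h | h
        · exact absurd (mul_inv_eq_iff_eq_mul.1 ((e0 _ h).trans (one_mul f))) ha0f
        · exact ⟨a0, ha0, by rw [e0 _ h, hfyc]⟩
        · refine ⟨a0 * a0, mul_mem ha0 ha0, ?_⟩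
          have h1 := e0 _ h
          rw [show a0 * a0 * f * (a0 * a0)⁻¹ = a0 * (a0 * f * a0⁻¹) * a0⁻¹ by group, h1,
            show a0 * (y * y * f) * a0⁻¹ = (a0 * (y * y) * a0⁻¹) * (a0 * f * a0⁻¹) by group,
            hRn a0 ha0 _ (mul_mem (Subgroup.mem_zpowers y) (Subgroup.mem_zpowers y)), h1,
            show y * y * (y * y * f) = y ^ 3 * (y * f) by simp [pow_succ, mul_assoc], hypow, one_mul, hfyc]
      have hfne : ∃ b ∈ R', b * y ≠ y * b := by
        by_contra hc
        push Not at hc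
        have h3e : ∀ b ∈ R', ∃ k : ℕ, orderOf b = 3 ^ k := by
          rintro _ ⟨b, hb, rfl⟩
          obtain ⟨k, hk⟩ := three_el b hb
          exact ⟨k, by show orderOf (g * b * g⁻¹) = _; rw [orderOf_conj', hk]⟩
        have hle : R' ≤ R := fun b hb => hR3 b (hc b hb) (h3e b hb)
        have heq := Subgroup.eq_of_le_of_card_ge hle (le_of_eq hR'c.symm)
        have : a0 ∈ R' := heq.symm ▸ ha0
        obtain ⟨b, hb, hba⟩ := this
        apply ha0f
        have hba' : g * b * g⁻¹ = a0 := hba
        rw [← hba', ← hg]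
        calc g * b * g⁻¹ * (g * y * g⁻¹) = g * (b * y) * g⁻¹ := by group
          _ = g * (y * b) * g⁻¹ := by rw [hRy b hb]
          _ = g * y * g⁻¹ * (g * b * g⁻¹) := by group
      have hy' : y ∈ R' := hR'mem y hfyc.symm ⟨1, by rw [hy3, pow_one]⟩
      obtain ⟨b, hbf, hby⟩ : ∃ b : G, b * f * b⁻¹ = f ∧ b * y * b⁻¹ = y * f := by
        obtain ⟨b0, hb0, hb0y⟩ := hfne
        have hfc : ∀ c ∈ R', c * f * c⁻¹ = f := by
          rintro _ ⟨c, hc, rfl⟩
          show g * c * g⁻¹ * f * (g * c * g⁻¹)⁻¹ = f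
          rw [← hg, show g * c * g⁻¹ * (g * y * g⁻¹) * (g * c * g⁻¹)⁻¹ = g * (c * y * c⁻¹) * g⁻¹ by group,
            hRn c hc y (Subgroup.mem_zpowers y)]
        have hcz : b0 * y * b0⁻¹ * y⁻¹ ∈ Subgroup.zpowers f := by
          obtain ⟨c, hc, hcb⟩ := hb0
          obtain ⟨d, hd, hdy⟩ := hy'
          obtain ⟨k, hk⟩ := Subgroup.mem_zpowers_iff.1 (hRcomm c hc d hd)
          refine ⟨k, ?_⟩
          show f ^ k = _
          have h1 : g * c * g⁻¹ = b0 := hcb
          have h2 : g * d * g⁻¹ = y := hdy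
          rw [← hg, conj_zpow, hk, ← h1]
          nth_rw 1 [← h2]
          rw [show g * c * g⁻¹ * (g * d * g⁻¹) * (g * c * g⁻¹)⁻¹ * y⁻¹ = g * (c * d * c⁻¹) * g⁻¹ * y⁻¹ by group]
          rw [← h2]
          group
        have e0 : ∀ c, b0 * y * b0⁻¹ * y⁻¹ = c → b0 * y * b0⁻¹ = c * y := fun c hc => by rw [← hc]; group
        rcases mem_zpowers_three hf3 hcz with h | h | h
        · exact absurd (mul_inv_eq_iff_eq_mul.1 ((e0 _ h).trans (one_mul y))) hb0y
        · exact ⟨b0, hfc b0 hb0, by rw [e0 _ h, hfyc]⟩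
        · refine ⟨b0 * b0, hfc _ (mul_mem hb0 hb0), ?_⟩
          have h1 := e0 _ h
          have hff : b0 * (f * f) * b0⁻¹ = f * f := by
            rw [show b0 * (f * f) * b0⁻¹ = (b0 * f * b0⁻¹) * (b0 * f * b0⁻¹) by group, hfc b0 hb0]
          rw [show b0 * b0 * y * (b0 * b0)⁻¹ = b0 * (b0 * y * b0⁻¹) * b0⁻¹ by group, h1,
            show b0 * (f * f * y) * b0⁻¹ = (b0 * (f * f) * b0⁻¹) * (b0 * y * b0⁻¹) by group, hff, h1,
            show f * f * (f * f * y) = f ^ 3 * (f * y) by simp [pow_succ, mul_assoc], hfpow, one_mul, hfyc]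
      set N := Subgroup.normalizer (Q : Set G) with hN
      have hmemN : ∀ c : G, c * y * c⁻¹ ∈ Q → c * f * c⁻¹ ∈ Q → c ∈ N := by
        intro c hcy hcf
        refine mem_normalizer_of_maps fun x hx => ?_
        obtain ⟨i, j, rfl⟩ := hx
        rw [show c * (y ^ (i : ℕ) * f ^ (j : ℕ)) * c⁻¹ = (c * y ^ (i : ℕ) * c⁻¹) * (c * f ^ (j : ℕ) * c⁻¹) by group,
          ← conj_pow, ← conj_pow]
        exact mul_mem (pow_mem hcy _) (pow_mem hcf _)
      have haN : a ∈ N := hmemN a (by rw [hRn a haR y (Subgroup.mem_zpowers y)]; exact hyQ)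
        (by rw [haf]; exact mul_mem hfQ hyQ)
      have hbN : b ∈ N := hmemN b (by rw [hby]; exact mul_mem hyQ hfQ) (by rw [hbf]; exact hfQ)
      have hui : u⁻¹ = u := inv_eq_of_mul_eq_one_right huu
      have huf : u * f * u⁻¹ = f := by rw [← hfu, mul_inv_cancel_right]
      have huN : u ∈ N := hmemN u (by rw [hui, huy]; exact inv_mem hyQ) (by rw [huf]; exact hfQ)
      have htN : t ∈ N := hmemN t (by rw [hti, hyt]; exact hyQ) (by rw [hti, hft]; exact inv_mem hfQ)
      set Orb := {x : G // ∃ n ∈ N, n * y * n⁻¹ = x}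
      have memOrb : ∀ n ∈ N, ∀ x, n * y * n⁻¹ = x → ∃ n ∈ N, n * y * n⁻¹ = x := fun n hn x h => ⟨n, hn, h⟩
      have horb := card_conj_orbit N y
      have hcomp : ∀ n ∈ N, ∀ x, (∃ m ∈ N, m * y * m⁻¹ = x) → ∃ m ∈ N, m * y * m⁻¹ = n * x * n⁻¹ := by
        rintro n hn x ⟨m, hm, rfl⟩
        exact ⟨n * m, mul_mem hn hm, by group⟩
      have cyf : Commute y f := hfyc.symm
      have o1 : ∀ j : ℕ, ∃ m ∈ N, m * y * m⁻¹ = y * f ^ j := by
        intro j
        induction j with
        | zero => exact ⟨1, one_mem _, by simp⟩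
        | succ j ih =>
          obtain ⟨m, hm, hme⟩ := hcomp b hbN _ ih
          refine ⟨m, hm, hme.trans ?_⟩
          rw [show b * (y * f ^ j) * b⁻¹ = (b * y * b⁻¹) * (b * f ^ j * b⁻¹) by group, ← conj_pow, hbf, hby,
            pow_succ', mul_assoc]
      have o2 : ∀ j : ℕ, ∃ m ∈ N, m * y * m⁻¹ = y⁻¹ * f ^ j := by
        intro j
        obtain ⟨m, hm, hme⟩ := hcomp u huN _ (o1 j)
        refine ⟨m, hm, hme.trans ?_⟩
        rw [show u * (y * f ^ j) * u⁻¹ = (u * y * u⁻¹) * (u * f ^ j * u⁻¹) by group, ← conj_pow, huf, hui, huy]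
      have oa : ∀ j : ℕ, a * (y * f ^ j) * a⁻¹ = y ^ (j + 1) * f ^ j := by
        intro j
        rw [show a * (y * f ^ j) * a⁻¹ = (a * y * a⁻¹) * (a * f ^ j * a⁻¹) by group, ← conj_pow, haf,
          hRn a haR y (Subgroup.mem_zpowers y), cyf.symm.mul_pow, ← (cyf.pow_pow j j).eq, ← mul_assoc, ← pow_succ']
      have o3 : ∀ j : ℕ, j = 1 ∨ j = 2 → ∃ m ∈ N, m * y * m⁻¹ = f ^ j := by
        rintro j (rfl | rfl)
        · obtain ⟨m, hm, hme⟩ := hcomp a haN _ (hcomp a haN _ (o1 1))
          refine ⟨m, hm, hme.trans ?_⟩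
          rw [oa 1, show a * (y ^ (1 + 1) * f ^ 1) * a⁻¹ = (a * y ^ (1 + 1) * a⁻¹) * (a * f * a⁻¹) by group,
            ← conj_pow, hRn a haR y (Subgroup.mem_zpowers y), haf, hfyc, ← mul_assoc, ← pow_succ, hypow,
            one_mul, pow_one]
        · obtain ⟨m, hm, hme⟩ := hcomp a haN _ (o1 2)
          refine ⟨m, hm, hme.trans ?_⟩
          rw [oa 2, hypow, one_mul]
      have hsub : ∀ x : G, (∃ n ∈ N, n * y * n⁻¹ = x) → x ∈ Q ∧ x ≠ 1 := by
        rintro x ⟨n, hn, rfl⟩
        exact ⟨(Subgroup.mem_normalizer_iff.1 hn y).1 hyQ, fun h => hy1 (conj_eq_one_iff.1 h)⟩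
      have horb8 : Nat.card Orb = 8 := by
        apply le_antisymm
        · haveI : Fintype Q := Fintype.ofFinite _
          have h : Nat.card Orb ≤ Nat.card {x : Q // x ≠ 1} :=
            Nat.card_le_card_of_injective (fun x => ⟨⟨x.1, (hsub x.1 x.2).1⟩,
              fun h => (hsub x.1 x.2).2 (congrArg Subtype.val h)⟩)
              (fun p q h => Subtype.ext (congrArg (fun z => ((z.1 : Q) : G)) h))
          rw [Nat.card_eq_fintype_card (α := {x : Q // x ≠ 1}), Fintype.card_subtype_compl,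
            Fintype.card_subtype_eq, ← Nat.card_eq_fintype_card, hQc] at h
          exact h
        · have hmem : ∀ p : {p : Fin 3 × Fin 3 // p ≠ (0, 0)},
              ∃ n ∈ N, n * y * n⁻¹ = y ^ (p.1.1 : ℕ) * f ^ (p.1.2 : ℕ) := by
            rintro ⟨⟨i, j⟩, hp⟩
            fin_cases i
            · obtain ⟨m, hm, hme⟩ := o3 (j : ℕ)
                ((by decide : ∀ q : Fin 3, ((0 : Fin 3), q) ≠ (0, 0) → (q : ℕ) = 1 ∨ (q : ℕ) = 2) j hp)
              exact ⟨m, hm, hme.trans (by simp)⟩
            · obtain ⟨m, hm, hme⟩ := o1 (j : ℕ)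
              exact ⟨m, hm, hme.trans (by simp)⟩
            · obtain ⟨m, hm, hme⟩ := o2 (j : ℕ)
              refine ⟨m, hm, hme.trans ?_⟩
              rw [show y⁻¹ = y ^ 2 from inv_eq_of_mul_eq_one_right (by rw [← pow_succ', hypow])]
          calc 8 = Nat.card {p : Fin 3 × Fin 3 // p ≠ (0, 0)} := by
                rw [Nat.card_eq_fintype_card]; rfl
            _ ≤ Nat.card Orb := by
                refine Nat.card_le_card_of_injective (fun p => ⟨_, hmem p⟩) fun p q h => Subtype.ext ?_
                have h' : y ^ (p.1.1 : ℕ) * f ^ (p.1.2 : ℕ) = y ^ (q.1.1 : ℕ) * f ^ (q.1.2 : ℕ) :=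
                  congrArg Subtype.val h
                have hinj : Function.Bijective (fun r : Fin 3 × Fin 3 =>
                    (⟨y ^ (r.1 : ℕ) * f ^ (r.2 : ℕ), r.1, r.2, rfl⟩ : Q)) := by
                  haveI : Fintype Q := Fintype.ofFinite _
                  refine (Fintype.bijective_iff_surjective_and_card _).2 ⟨?_, ?_⟩
                  · rintro ⟨x, i, j, rfl⟩; exact ⟨(i, j), rfl⟩
                  · rw [← Nat.card_eq_fintype_card (α := Q), hQc]; rfl
                exact hinj.1 (Subtype.ext h')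
      have h2 : 2 ∣ Nat.card ((Subgroup.centralizer ({y} : Set G)).subgroupOf N) := by
        have ht' : (⟨t, htN⟩ : N) ∈ (Subgroup.centralizer ({y} : Set G)).subgroupOf N := by
          rw [Subgroup.mem_subgroupOf, Subgroup.mem_centralizer_singleton_iff]
          calc t * y = t * y * t * t := by rw [mul_assoc (t * y), htt, mul_one]
            _ = y * t := by rw [hyt]
        have h := Subgroup.orderOf_dvd_natCard _ ht'
        rwa [Subgroup.orderOf_mk, hto] at h
      have hdvdN := Subgroup.card_subgroup_dvd_card N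
      rw [← horb, horb8, hcard] at hdvdN
      have h16 : 16 ∣ 189000 := (Nat.mul_dvd_mul_left 8 h2).trans hdvdN
      norm_num at h16

end Cfsg.Agent.PermGroups.JOne
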