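import Cfsg.Agent.PermGroups.JOne.Block
import Cfsg.Agent.PermGroups.JOne.SmallMain
import Cfsg.Agent.PermGroups.EightLocal
import Cfsg.Prelude.Def_SporadicB

/-!
The order of a simple group with a central involution centralizer `2 × A₅`.
-/

set_option autoImplicit false
set_option linter.style.haveILetI false

namespace Cfsg.Agent.PermGroups.JOne

open Cfsg Cfsg.Agent

universe u

/-- The elementary subgroup of order four fixing the last point. -/
def four : Subgroup A₅ where
  carrier := {s | s * s = 1 ∧ (s : Equiv.Perm (Fin 5)) 4 = 4}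
  one_mem' := ⟨by decide, by decide⟩
  mul_mem' := by
    intro a b ha hb
    exact (by decide +kernel : ∀ a : A₅, a * a = 1 ∧ (a : Equiv.Perm (Fin 5)) 4 = 4 →
      ∀ b : A₅, b * b = 1 ∧ (b : Equiv.Perm (Fin 5)) 4 = 4 →
        (a * b) * (a * b) = 1 ∧ ((a * b : A₅) : Equiv.Perm (Fin 5)) 4 = 4) a ha b hb
  inv_mem' := by
    intro a ha
    exact (inv_eq_of_mul_eq_one_right ha.1).symm ▸ ha

theorem mem_four (s : A₅) : s ∈ four ↔ s * s = 1 ∧ (s : Equiv.Perm (Fin 5)) 4 = 4 := Iff.rfl

theorem card_four : Nat.card four = 4 := by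
  rw [Nat.card_congr (Equiv.subtypeEquivRight mem_four), Nat.card_eq_fintype_card]
  decide +kernel

/-- The order of the group. -/
theorem card_eq {G : Type u} [Group G] [Finite G] [IsSimpleGroup G] {t : G}
    (ht : Cfsg.IsTwoCentralInvolution t)
    (e : Subgroup.centralizer ({t} : Set G) ≃* Multiplicative (ZMod 2) × A₅) :
    Nat.card G = 175560 := by
  classical
  haveI : Fact (Nat.Prime 2) := ⟨Nat.prime_two⟩
  obtain ⟨hto, P, -, hPt⟩ := ht
  set C := Subgroup.centralizer ({t} : Set G) with hC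
  have hna : ¬ ∀ a b : G, a * b = b * a := fun h => g3_ne (center_trivial g₃ fun g => by
    apply iota_injective e
    rw [map_mul, map_mul]
    exact Subtype.ext (h _ _))
  have htt : t * t = 1 := ((orderOf_two_iff t).1 hto).1
  have h2part : 2 ^ (Nat.card G).factorization 2 = 8 := by
    rw [← P.card_eq_multiplicity]
    obtain ⟨k, hk⟩ := IsPGroup.iff_card.1 P.isPGroup'
    have h1 : 2 ^ k ∣ 120 := by
      rw [← hk, ← card_H e]
      exact Subgroup.card_dvd_of_le fun x hx => Subgroup.mem_centralizer_singleton_iff.2 (hPt x hx)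
    have h2 : 2 ^ 3 ∣ 2 ^ k := by
      rw [← hk]
      exact P.pow_dvd_card_of_pow_dvd_card
        ((show (2 : ℕ) ^ 3 ∣ Nat.card C by rw [card_H e]; norm_num).trans C.card_subgroup_dvd_card)
    have hk3 := (Nat.pow_dvd_pow_iff_le_right (by norm_num)).1 h2
    have hk4 : k < 4 := by
      by_contra h
      have := (pow_dvd_pow 2 (not_lt.1 h)).trans h1
      norm_num at this
    rw [hk, show k = 3 by omega]
    norm_num
  set V := four.comap (proj e) with hV
  set T := V.map C.subtype with hT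
  have hV8 : Nat.card V = 8 := by
    rw [hV]
    have h1 := (four.comap (proj e)).card_mul_index
    rw [Subgroup.index_comap_of_surjective _ (proj_surjective e), card_H e] at h1
    have h2 := four.card_mul_index
    rw [card_four, card_A5] at h2
    have h3 : four.index = 15 := by omega
    rw [h3] at h1
    omega
  have hT8 : Nat.card T = 8 := by
    rw [hT, Subgroup.card_map_of_injective C.subtype_injective, hV8]
  let S : Sylow 2 G := Sylow.ofCard T (by rw [hT8, h2part])
  have hS8 : Nat.card ↥(S : Subgroup G) = 8 := hT8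
  have hsq : ∀ a ∈ T, a * a = 1 := by
    rintro _ ⟨c, hc, rfl⟩
    have h4 := ((mem_four _).1 hc).1
    rw [Subgroup.subtype_apply, ← Subgroup.coe_mul]
    rcases decomp e c with h | h <;> rw [h]
    · rw [← map_mul, h4, map_one, Subgroup.coe_one]
    · rw [mul_assoc, ← mul_assoc (iota e _), ← (tau_comm e _).eq, mul_assoc (tau e), ← map_mul, h4,
        map_one, mul_one, tau_mul_self, Subgroup.coe_one]
  have hS : IsElementaryAbelian 2 (S : Subgroup G) :=
    ⟨⟨⟨fun a b => Eight.mul_eq_of_sq (T := ↥(S : Subgroup G))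
      (fun x => Subtype.ext (hsq x.1 x.2)) a b⟩⟩, fun a ha => by rw [pow_two]; exact hsq a ha⟩
  set x : G := (iota e g₃ : G) with hx
  have htS : t ∈ (S : Subgroup G) := by
    refine ⟨tau e, ?_, coe_tau' e hto⟩
    show proj e (tau e) ∈ four
    rw [proj_tau]; exact one_mem _
  have hxN : x ∈ Subgroup.normalizer ((S : Subgroup G) : Set G) := by
    refine mem_normalizer_of_maps fun a ha => ?_
    obtain ⟨c, hc, rfl⟩ := ha
    refine ⟨iota e g₃ * c * (iota e g₃)⁻¹, ?_, rfl⟩
    show proj e _ ∈ four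
    rw [map_mul, map_mul, map_inv, proj_iota]
    exact (by decide +kernel : ∀ s : A₅, s * s = 1 ∧ (s : Equiv.Perm (Fin 5)) 4 = 4 →
      (g₃ * s * g₃⁻¹) * (g₃ * s * g₃⁻¹) = 1 ∧ ((g₃ * s * g₃⁻¹ : A₅) : Equiv.Perm (Fin 5)) 4 = 4) _
      ((mem_four _).1 hc)
  obtain ⟨hone, -⟩ : (∀ s t : G, orderOf s = 2 → orderOf t = 2 → IsConj s t) ∧ True := by
    rcases Eight.automizer_cases (fun h => hna h.is_comm.comm) S hS hS8 with h7 | h
    · exfalso
      set φ := (S : Subgroup G).normalizerMonoidHom with hφ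
      have hrel : Nat.card φ.range = 7 := by
        rw [← h7, ← Subgroup.index_ker, hφ, Subgroup.normalizerMonoidHom_ker]
        rfl
      have h3 : (⟨x, hxN⟩ : Subgroup.normalizer ((S : Subgroup G) : Set G)) ^ 3 = 1 := Subtype.ext (by
        show x ^ 3 = 1
        rw [hx, ← SubmonoidClass.coe_pow, ← map_pow,
          show g₃ ^ 3 = 1 by rw [pow_succ, pow_two]; exact g3_cube, map_one, Subgroup.coe_one])
      set w := φ.rangeRestrict ⟨x, hxN⟩ with hw
      have d3 : orderOf w ∣ 3 := orderOf_dvd_of_pow_eq_one (by rw [hw, ← map_pow, h3, map_one])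
      have d7 : orderOf w ∣ 7 := hrel ▸ orderOf_dvd_natCard w
      have hw1 : w = 1 := orderOf_eq_one_iff.1 (Nat.eq_one_of_dvd_coprimes (by norm_num) d3 d7)
      obtain ⟨v, hv, hgv⟩ : ∃ v : A₅, (v * v = 1 ∧ (v : Equiv.Perm (Fin 5)) 4 = 4) ∧
          g₃ * v * g₃⁻¹ ≠ v := by decide +kernel
      apply hgv
      apply iota_injective e
      apply Subtype.ext
      have hmem : (iota e v : G) ∈ (S : Subgroup G) := by
        refine ⟨iota e v, ?_, rfl⟩
        show proj e (iota e v) ∈ four
        rw [proj_iota]; exact (mem_four _).2 hv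
      have h := congrArg (fun α : φ.range => ((α : MulAut ↥(S : Subgroup G)) ⟨_, hmem⟩ : G)) hw1
      rw [map_mul, map_mul, map_inv, Subgroup.coe_mul, Subgroup.coe_mul, Subgroup.coe_inv]
      exact h
    · exact ⟨h.1, trivial⟩
  have hab : ∀ K : Subgroup G, IsPGroup 2 K → ∀ a ∈ K, ∀ b ∈ K, a * b = b * a := by
    intro K hK a ha b hb
    obtain ⟨Q, hQ⟩ := hK.exists_le_sylow
    obtain ⟨g, hg⟩ := MulAction.exists_smul_eq G Q S
    have hm : ∀ c ∈ K, g * c * g⁻¹ ∈ (S : Subgroup G) := fun c hc => by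
      rw [← hg, Sylow.coe_subgroup_smul]
      exact Subgroup.mem_map.2 ⟨c, hQ hc, rfl⟩
    have h := congrArg Subtype.val (hS.1.is_comm.comm ⟨_, hm a ha⟩ ⟨_, hm b hb⟩)
    have h' : g * a * g⁻¹ * (g * b * g⁻¹) = g * b * g⁻¹ * (g * a * g⁻¹) := h
    refine mul_left_cancel (a := g) (mul_right_cancel (b := g⁻¹) ?_)
    calc g * (a * b) * g⁻¹ = g * a * g⁻¹ * (g * b * g⁻¹) := by group
      _ = g * b * g⁻¹ * (g * a * g⁻¹) := h'
      _ = g * (b * a) * g⁻¹ := by group
  letI : Fintype G := Fintype.ofFinite G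
  exact (card_cases e hna S hS hS8 hto hone).resolve_right (false_of_card e hto hone hab)

end Cfsg.Agent.PermGroups.JOne
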