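import Mathlib.Tactic

/-!
The Diophantine system for the signed degrees in the principal `2`-block of a group with an
involution centralizer of type `2 × A₅`.
-/

set_option autoImplicit false

namespace Cfsg.Agent.PermGroups.JOne

/-- The integer form of the two pairing relations. -/
def Good (x y b c : ℤ) : Prop :=
  x % 8 = 3 ∧ y % 8 = 3 ∧ b % 8 = 5 ∧ c % 8 = 5 ∧ x + y + b + c = 0 ∧
    2 * (x * y) * (b * c) + 125 * (b * c) * (1 + (x + y)) = 27 * (x * y) * (1 + (x + y)) ∧
    x + y ≠ -2 ∧ (x < 0 ∨ 35 ≤ x) ∧ (y < 0 ∨ 35 ≤ y) ∧ (b < 0 ∨ 21 ≤ b) ∧ (c < 0 ∨ 21 ≤ c)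

instance (x y b c : ℤ) : Decidable (Good x y b c) := by unfold Good; infer_instance

/-- The six solutions of the system. -/
def Sol (x y b c : ℤ) : Prop :=
  ((x, y) ∈ ([(-133, -77), (-21, 35), (-637, -53), (-245, -61), (-45, 539), (-37, 147)] : List (ℤ × ℤ)) ∨
    (y, x) ∈ ([(-133, -77), (-21, 35), (-637, -53), (-245, -61), (-45, 539), (-37, 147)] : List (ℤ × ℤ))) ∧
  (b = -x ∧ c = -y ∨ b = -y ∧ c = -x)

theorem Sol.symmX {x y b c : ℤ} (h : Sol x y b c) : Sol y x b c :=
  ⟨h.1.symm, h.2.symm⟩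

theorem Sol.symmB {x y b c : ℤ} (h : Sol x y b c) : Sol x y c b :=
  ⟨h.1, h.2.symm.imp And.symm And.symm⟩

instance (x y b c : ℤ) : Decidable (Sol x y b c) := by unfold Sol; infer_instance

theorem Good.symmX {x y b c : ℤ} (h : Good x y b c) : Good y x b c := by
  obtain ⟨h1, h2, h3, h4, h5, h6, h7, h8, h9, h10, h11⟩ := h
  exact ⟨h2, h1, h3, h4, by omega, by rw [add_comm y x, mul_comm y x]; exact h6, by omega, h9, h8,
    h10, h11⟩

theorem Good.symmB {x y b c : ℤ} (h : Good x y b c) : Good x y c b := by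
  obtain ⟨h1, h2, h3, h4, h5, h6, h7, h8, h9, h10, h11⟩ := h
  exact ⟨h1, h2, h4, h3, by omega, by rw [mul_comm c b]; exact h6, h7, h8, h9, h11, h10⟩

/-- Binary square root. -/
def isqrt : ℕ → ℕ → ℕ → ℕ
  | 0, r, _ => r
  | k + 1, r, n => if (r + 2 ^ k) * (r + 2 ^ k) ≤ n then isqrt k (r + 2 ^ k) n else isqrt k r n

theorem isqrt_eq : ∀ (k r s : ℕ), r ≤ s → s < r + 2 ^ k → isqrt k r (s * s) = s := by
  intro k
  induction k with
  | zero => intro r s h1 h2; simp [isqrt] at *; omega
  | succ k ih =>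
    intro r s h1 h2
    rw [pow_succ] at h2
    simp only [isqrt]
    split_ifs with h
    · exact ih _ _ (Nat.mul_self_le_mul_self_iff.1 h) (by omega)
    · refine ih _ _ h1 ?_
      by_contra h'
      exact h (Nat.mul_self_le_mul_self (by omega))

/-- Roots of an integral quadratic, from a bound on the discriminant. -/
def roots (a₂ a₁ a₀ : ℤ) : List ℤ :=
  if a₂ = 0 then [-a₀ / a₁] else
    let s : ℤ := isqrt 40 0 (a₁ * a₁ - 4 * a₂ * a₀).toNat
    [(s - a₁) / (2 * a₂), (-s - a₁) / (2 * a₂)]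

theorem mem_roots {a₂ a₁ a₀ y : ℤ} (h : a₂ * y * y + a₁ * y + a₀ = 0) (h1 : a₂ = 0 → a₁ ≠ 0)
    (hsz : (a₁ * a₁ - 4 * a₂ * a₀).toNat < 2 ^ 80) : y ∈ roots a₂ a₁ a₀ := by
  unfold roots
  split_ifs with h2
  · subst h2
    simp only [List.mem_singleton]
    rw [show -a₀ = a₁ * y by linarith, Int.mul_ediv_cancel_left _ (h1 rfl)]
  · have hd : (a₁ * a₁ - 4 * a₂ * a₀) = ((2 * a₂ * y + a₁).natAbs : ℤ) * (2 * a₂ * y + a₁).natAbs := by
      rw [Int.natAbs_mul_self']
      linear_combination (-4 * a₂) * h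
    set s := (2 * a₂ * y + a₁).natAbs with hs
    have hn : (a₁ * a₁ - 4 * a₂ * a₀).toNat = s * s := by
      rw [hd, ← Int.natCast_mul, Int.toNat_natCast]
    rw [hn] at hsz ⊢
    have hs40 : s < 2 ^ 40 := Nat.mul_self_lt_mul_self_iff.1 (by rw [← pow_add]; exact hsz)
    rw [isqrt_eq 40 0 s (Nat.zero_le _) (by simpa using hs40)]
    simp only [List.mem_cons, List.not_mem_nil, or_false]
    rcases Int.natAbs_eq (2 * a₂ * y + a₁) with e | e <;> rw [← hs] at e
    · left; rw [show (s : ℤ) - a₁ = 2 * a₂ * y by linarith, Int.mul_ediv_cancel_left _ (by omega)]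
    · right; rw [show -(s : ℤ) - a₁ = 2 * a₂ * y by linarith, Int.mul_ediv_cancel_left _ (by omega)]

/-- `y`-candidates for given `x` and `b`. -/
def c₂ (x b : ℤ) : ℤ := -b * (2 * x + 125) - 27 * x
def c₁ (x b : ℤ) : ℤ :=
  -b * (x + b) * (2 * x + 125) - b * (125 * (1 + x)) - 27 * x * (1 + x)
def c₀ (x b : ℤ) : ℤ := -b * (x + b) * (125 * (1 + x))

/-- One pair `(x, b)`. -/
def checkXB (x b : ℤ) : Bool :=
  decide ((c₂ x b = 0 → c₁ x b ≠ 0) ∧ (c₁ x b * c₁ x b - 4 * c₂ x b * c₀ x b).toNat < 2 ^ 80) &&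
    (roots (c₂ x b) (c₁ x b) (c₀ x b)).all fun y => decide (Good x y b (-x - y - b) → Sol x y b (-x - y - b))

theorem checkXB_sound {x y b c : ℤ} (h : Good x y b c) (hc : checkXB x b = true) : Sol x y b c := by
  have he : c = -x - y - b := by have := h.2.2.2.2.1; omega
  subst he
  simp only [checkXB, Bool.and_eq_true, decide_eq_true_eq, List.all_eq_true] at hc
  refine hc.2 y (mem_roots ?_ hc.1.1 hc.1.2) h
  have := h.2.2.2.2.2.1
  unfold c₂ c₁ c₀
  linear_combination this

/-- One pair `(x, y)`. -/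
def checkXY (x y : ℤ) : Bool :=
  let S := x + y
  let D := (2 * x + 125) * y + 125 * (1 + x)
  let q := 27 * (1 + S) * (x * y) / D
  decide (D = 0 ∨ (S * S - 4 * q).toNat < 2 ^ 80) &&
    (decide (D = 0) || (roots 1 S q).all fun b => decide (Good x y b (-S - b) → Sol x y b (-S - b)))

theorem checkXY_sound {x y b c : ℤ} (h : Good x y b c) (hc : checkXY x y = true) : Sol x y b c := by
  have hg0 := h
  obtain ⟨h1, h2, h3, h4, h5, h6, h7, -, -, -, -⟩ := h
  have he : c = -(x + y) - b := by omega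
  subst he
  set D := (2 * x + 125) * y + 125 * (1 + x) with hD
  have hQD : b * (-(x + y) - b) * D = 27 * (1 + (x + y)) * (x * y) := by
    rw [hD]; linear_combination h6
  have hD0 : D ≠ 0 := by
    intro h0
    rw [h0, mul_zero] at hQD
    rcases mul_eq_zero.1 hQD.symm with e | e
    · omega
    · rcases mul_eq_zero.1 e with e | e <;> omega
  simp only [checkXY, Bool.and_eq_true, Bool.or_eq_true, decide_eq_true_eq, List.all_eq_true,
    ← hD] at hc
  obtain ⟨hsz, hall⟩ := hc
  have hq : 27 * (1 + (x + y)) * (x * y) / D = b * (-(x + y) - b) := by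
    rw [← hQD, Int.mul_ediv_cancel _ hD0]
  rw [hq] at hsz hall
  refine hall.resolve_left hD0 b (mem_roots (by ring) (by omega) ?_) hg0
  rw [mul_one]; exact hsz.resolve_left hD0

/-- One pair `(b, S)`. -/
def checkBS (b S : ℤ) : Bool :=
  let c := -S - b
  let E := 27 * (1 + S) - 2 * (b * c)
  let q := 125 * (1 + S) * (b * c) / E
  decide (E = 0 ∨ (S * S - 4 * q).toNat < 2 ^ 80) &&
    (decide (E = 0) || (roots 1 (-S) q).all fun x => decide (Good x (S - x) b c → Sol x (S - x) b c))

theorem checkBS_sound {x y b c : ℤ} (h : Good x y b c) (hc : checkBS b (x + y) = true) :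
    Sol x y b c := by
  have hg0 := h
  obtain ⟨h1, h2, h3, h4, h5, h6, h7, -, -, -, -⟩ := h
  have he : c = -(x + y) - b := by omega
  have hy : x + y - x = y := by omega
  set E := 27 * (1 + (x + y)) - 2 * (b * c) with hE
  have hPE : x * y * E = 125 * (1 + (x + y)) * (b * c) := by rw [hE]; linear_combination -h6
  have hE0 : E ≠ 0 := by
    intro h0
    rw [h0, mul_zero] at hPE
    rcases mul_eq_zero.1 hPE.symm with e | e
    · omega
    · rcases mul_eq_zero.1 e with e | e <;> omega
  simp only [checkBS, Bool.and_eq_true, Bool.or_eq_true, decide_eq_true_eq, List.all_eq_true,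
    ← he, ← hE] at hc
  obtain ⟨hsz, hall⟩ := hc
  have hq : 125 * (1 + (x + y)) * (b * c) / E = x * y := by rw [← hPE, Int.mul_ediv_cancel _ hE0]
  rw [hq] at hsz hall
  have := hall.resolve_left hE0 x (mem_roots (by ring) (by omega) (by
    rw [neg_mul_neg, mul_one]; exact hsz.resolve_left hE0))
  rw [hy] at this
  exact this hg0

/-- All integers in the congruence class of `r` modulo eight up to a bound. -/
def classUpTo (r : ℤ) (B : ℕ) : List ℤ :=
  (List.range (2 * (B / 8 + 1) + 1)).map fun i : ℕ => r + 8 * ((i : ℤ) - (B / 8 + 1 : ℕ))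

theorem mem_classUpTo {r z : ℤ} {B : ℕ} (hr : 0 ≤ r) (hr8 : r < 8) (hz : z % 8 = r)
    (hB : z.natAbs ≤ B) : z ∈ classUpTo r B := by
  refine List.mem_map.2 ⟨((z - r) / 8 + (B / 8 + 1 : ℕ)).toNat, List.mem_range.2 ?_, ?_⟩
  · omega
  · omega

/-- All cases with a small `x`. -/
def caseX : Bool :=
  (classUpTo 3 155).all fun x =>
    (classUpTo 5 (126 * x.natAbs / (2 * x + 125).natAbs)).all (fun b => checkXB x b) &&
      (classUpTo 3 (2 * (125 * (1 + x)).natAbs / (2 * x + 125).natAbs)).all (fun y => checkXY x y)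

/-- All cases with a small `b`. -/
def caseB : Bool :=
  (classUpTo 5 155).all fun b =>
    (classUpTo 3 (584 * b.natAbs / (2 * b + 27).natAbs + 146)).all (fun x => checkXB x b) &&
      (classUpTo 6 (2 * (27 + 2 * b * b).natAbs / (2 * b + 27).natAbs)).all (fun S => checkBS b S)

theorem caseX_true : caseX = true := by decide +kernel

theorem caseB_true : caseB = true := by decide +kernel

theorem sol_small_x {x y b c : ℤ} (h : Good x y b c) (hx : x.natAbs ≤ 155) : Sol x y b c := by
  have hg0 := h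
  obtain ⟨h1, h2, h3, h4, h5, h6, h7, -, -, -, -⟩ := h
  have hall := List.all_eq_true.1 caseX_true x (mem_classUpTo (by norm_num) (by norm_num) h1 hx)
  rw [Bool.and_eq_true, List.all_eq_true, List.all_eq_true] at hall
  set u := 2 * x + 125 with hu
  set w := 125 * (1 + x) with hw
  have hu0 : 0 < u.natAbs := by omega
  have key : ∀ {b c : ℤ}, Good x y b c → b.natAbs ≤ c.natAbs →
      ¬ u.natAbs * y.natAbs ≤ 2 * w.natAbs → Sol x y b c := by
    intro b c hg hbc hbig
    refine checkXB_sound hg (hall.1 b (mem_classUpTo (by norm_num) (by norm_num) hg.2.2.1 ?_))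
    rw [Nat.le_div_iff_mul_le hu0]
    obtain ⟨-, -, -, -, g5, g6, -, -, -, -, -⟩ := hg
    have hQD : b * c * (u * y + w) = 27 * (1 + (x + y)) * (x * y) := by
      rw [hu, hw]; linear_combination g6
    have e := congrArg Int.natAbs hQD
    simp only [Int.natAbs_mul] at e
    have hD : u.natAbs * y.natAbs ≤ 2 * (u * y + w).natAbs := by
      rw [← Int.natAbs_mul] at hbig ⊢; omega
    have hS : (x + y).natAbs ≤ 2 * c.natAbs := by omega
    have h76 : 6 * (1 + (x + y)).natAbs ≤ 7 * (x + y).natAbs := by omega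
    have hSpos : 0 < (x + y).natAbs := by omega
    have hypos : 0 < y.natAbs := by omega
    refine Nat.le_of_mul_le_mul_right (Nat.le_of_mul_le_mul_right ?_ hypos) hSpos
    calc b.natAbs * u.natAbs * (x + y).natAbs * y.natAbs
        = b.natAbs * (x + y).natAbs * (u.natAbs * y.natAbs) := by ring
      _ ≤ b.natAbs * (2 * c.natAbs) * (2 * (u * y + w).natAbs) :=
          Nat.mul_le_mul (Nat.mul_le_mul_left _ hS) hD
      _ = 4 * (b.natAbs * c.natAbs * (u * y + w).natAbs) := by ring
      _ = 4 * (27 * (1 + (x + y)).natAbs * (x.natAbs * y.natAbs)) := by rw [e]; norm_num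
      _ = 18 * (6 * (1 + (x + y)).natAbs) * (x.natAbs * y.natAbs) := by ring
      _ ≤ 18 * (7 * (x + y).natAbs) * (x.natAbs * y.natAbs) :=
          Nat.mul_le_mul_right _ (Nat.mul_le_mul_left _ h76)
      _ = 126 * x.natAbs * (x + y).natAbs * y.natAbs := by ring
  by_cases hsm : u.natAbs * y.natAbs ≤ 2 * w.natAbs
  · refine checkXY_sound hg0 (hall.2 y (mem_classUpTo (by norm_num) (by norm_num) h2 ?_))
    rw [Nat.le_div_iff_mul_le hu0, mul_comm]; exact hsm
  · rcases le_total b.natAbs c.natAbs with hbc | hbc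
    · exact key hg0 hbc hsm
    · exact (key hg0.symmB hbc hsm).symmB

theorem sol_small_b {x y b c : ℤ} (h : Good x y b c) (hb : b.natAbs ≤ 155) (hx : 155 < x.natAbs)
    (hxy : x.natAbs ≤ y.natAbs) : Sol x y b c := by
  have hg0 := h
  obtain ⟨h1, h2, h3, h4, h5, h6, h7, -, -, -, -⟩ := h
  have hall := List.all_eq_true.1 caseB_true b (mem_classUpTo (by norm_num) (by norm_num) h3 hb)
  rw [Bool.and_eq_true, List.all_eq_true, List.all_eq_true] at hall
  set S := x + y with hS
  set v := 2 * b + 27 with hv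
  set w := 27 + 2 * b * b with hw
  have hv0 : 0 < v.natAbs := by omega
  by_cases hsm : v.natAbs * S.natAbs ≤ 2 * w.natAbs
  · refine checkBS_sound hg0 (hall.2 S (mem_classUpTo (by norm_num) (by norm_num) (by omega) ?_))
    rw [Nat.le_div_iff_mul_le hv0, mul_comm]; exact hsm
  · refine checkXB_sound hg0 (hall.1 x (mem_classUpTo (by norm_num) (by norm_num) h1 ?_))
    have hPE : x * y * (v * S + w) = 125 * (1 + S) * (b * c) := by
      rw [hv, hw, hS, show c = -(x + y) - b by omega]
      rw [show c = -(x + y) - b by omega] at h6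
      linear_combination -h6
    have e := congrArg Int.natAbs hPE
    simp only [Int.natAbs_mul] at e
    norm_num at e
    have hE : v.natAbs * S.natAbs ≤ 2 * (v * S + w).natAbs := by
      rw [← Int.natAbs_mul] at hsm ⊢; omega
    have hSy : S.natAbs ≤ 2 * y.natAbs := by omega
    have h76 : 6 * (1 + S).natAbs ≤ 7 * S.natAbs := by omega
    have hc : c.natAbs ≤ S.natAbs + b.natAbs := by omega
    have hSpos : 0 < S.natAbs := by omega
    have e1 : 6 * (x.natAbs * v.natAbs * S.natAbs) ≤ 3500 * b.natAbs * (S.natAbs + b.natAbs) := by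
      refine Nat.le_of_mul_le_mul_right ?_ hSpos
      calc 6 * (x.natAbs * v.natAbs * S.natAbs) * S.natAbs
          = 6 * (x.natAbs * S.natAbs * (v.natAbs * S.natAbs)) := by ring
        _ ≤ 6 * (x.natAbs * (2 * y.natAbs) * (2 * (v * S + w).natAbs)) := by gcongr
        _ = 24 * (x.natAbs * y.natAbs * (v * S + w).natAbs) := by ring
        _ = 500 * (6 * (1 + S).natAbs) * (b.natAbs * c.natAbs) := by rw [e]; ring
        _ ≤ 500 * (7 * S.natAbs) * (b.natAbs * (S.natAbs + b.natAbs)) := by gcongr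
        _ = 3500 * b.natAbs * (S.natAbs + b.natAbs) * S.natAbs := by ring
    have hw' : 4 * (b.natAbs * b.natAbs) ≤ 2 * w.natAbs := by
      rw [hw, ← Int.natAbs_mul]; have := mul_self_nonneg b; rw [mul_assoc]; omega
    have e2 : 6 * (x.natAbs * v.natAbs) ≤ 3500 * b.natAbs + 875 * v.natAbs := by
      refine Nat.le_of_mul_le_mul_right ?_ hSpos
      nlinarith
    have e3 : (x.natAbs - 146) * v.natAbs ≤ 584 * b.natAbs := by
      rw [Nat.sub_mul]; omega
    have := (Nat.le_div_iff_mul_le hv0).2 e3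
    omega

theorem large {x y b c : ℤ} (h : Good x y b c) (hx : 156 ≤ x.natAbs) (hy : 156 ≤ y.natAbs)
    (hb : 156 ≤ b.natAbs) (hc : 156 ≤ c.natAbs) : False := by
  obtain ⟨-, -, -, -, h5, h6, h7, -, -, -, -⟩ := h
  have hkey : 2 * (x * y) * (b * c) = (1 + (x + y)) * (27 * (x * y) - 125 * (b * c)) := by
    linear_combination h6
  have e := congrArg Int.natAbs hkey
  have htri : (27 * (x * y) - 125 * (b * c)).natAbs ≤
      27 * (x.natAbs * y.natAbs) + 125 * (b.natAbs * c.natAbs) := by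
    rw [← Int.natAbs_mul, ← Int.natAbs_mul]; omega
  simp only [Int.natAbs_mul] at e
  norm_num at e
  have key : ∀ m n : ℕ, 156 ≤ m → 156 ≤ n → 156 * (m + n) ≤ 2 * (m * n) ∧ 24336 ≤ m * n :=
    fun m n hm hn => ⟨by
      have e1 : 156 * m ≤ n * m := Nat.mul_le_mul hn le_rfl
      have e2 : 156 * n ≤ m * n := Nat.mul_le_mul hm le_rfl
      rw [Nat.mul_comm n m] at e1
      omega, Nat.mul_le_mul hm hn⟩
  obtain ⟨hSP, hP⟩ := key _ _ hx hy
  obtain ⟨hSQ, hQ⟩ := key _ _ hb hc
  have hS1 : (x + y).natAbs ≤ x.natAbs + y.natAbs := Int.natAbs_add_le x y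
  have hS2 : (x + y).natAbs ≤ b.natAbs + c.natAbs := by omega
  have hT : (1 + (x + y)).natAbs ≤ (x + y).natAbs + 1 := by omega
  generalize x.natAbs * y.natAbs = P at *
  generalize b.natAbs * c.natAbs = Q at *
  generalize (27 * (x * y) - 125 * (b * c)).natAbs = Z at *
  generalize (1 + (x + y)).natAbs = T at *
  generalize hS : (x + y).natAbs = S at *
  have hSP' : 156 * S ≤ 2 * P := le_trans (Nat.mul_le_mul_left _ hS1) hSP
  have hSQ' : 156 * S ≤ 2 * Q := le_trans (Nat.mul_le_mul_left _ hS2) hSQ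
  have hPQ : 0 < P * Q := by positivity
  have h1 : 2 * 24336 ≤ 152 * T := by
    refine Nat.le_of_mul_le_mul_right ?_ hPQ
    calc 2 * 24336 * (P * Q) = 24336 * (2 * P * Q) := by ring
      _ = 24336 * (T * Z) := by rw [e]
      _ ≤ 24336 * (T * (27 * P + 125 * Q)) := by gcongr
      _ = 27 * (T * P) * 24336 + 125 * (T * Q) * 24336 := by ring
      _ ≤ 27 * (T * P) * Q + 125 * (T * Q) * P := by gcongr
      _ = 152 * T * (P * Q) := by ring
  have h2 : 312 * S ≤ 304 * T := by
    refine Nat.le_of_mul_le_mul_right ?_ hPQ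
    calc 312 * S * (P * Q) = 156 * S * (2 * P * Q) := by ring
      _ = 156 * S * (T * Z) := by rw [e]
      _ ≤ 156 * S * (T * (27 * P + 125 * Q)) := by gcongr
      _ = 27 * (T * P) * (156 * S) + 125 * (T * Q) * (156 * S) := by ring
      _ ≤ 27 * (T * P) * (2 * Q) + 125 * (T * Q) * (2 * P) := by gcongr
      _ = 304 * T * (P * Q) := by ring
  omega

/-- The solutions of the system. -/
theorem good_sol {x y b c : ℤ} (h : Good x y b c) : Sol x y b c := by
  by_cases hx : x.natAbs ≤ 155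
  · exact sol_small_x h hx
  by_cases hy : y.natAbs ≤ 155
  · exact (sol_small_x h.symmX hy).symmX
  rcases le_total x.natAbs y.natAbs with hxy | hxy
  · by_cases hb : b.natAbs ≤ 155
    · exact sol_small_b h hb (by omega) hxy
    by_cases hc : c.natAbs ≤ 155
    · exact (sol_small_b h.symmB hc (by omega) hxy).symmB
    exact (large h (by omega) (by omega) (by omega) (by omega)).elim
  · by_cases hb : b.natAbs ≤ 155
    · exact (sol_small_b h.symmX hb (by omega) hxy).symmX
    by_cases hc : c.natAbs ≤ 155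
    · exact (sol_small_b h.symmX.symmB hc (by omega) hxy).symmB.symmX
    exact (large h (by omega) (by omega) (by omega) (by omega)).elim

end Cfsg.Agent.PermGroups.JOne
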