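import Cfsg.Agent.PermGroups.JOne.Search

/-!
The second Diophantine system has no solution.
-/

set_option autoImplicit false

namespace Cfsg.Agent.PermGroups.JOne

/-- The degree system with two characters of even degree. -/
def GoodTwo (w b : ℤ) : Prop :=
  w % 8 = 6 ∧ b % 8 = 5 ∧ (w < 0 ∨ 14 ≤ w) ∧ (b < 0 ∨ 21 ≤ b) ∧
    4 * ((-1 - 2 * w) * w * (1 + w - b) * b) + 250 * (w * (1 + w - b) * b) +
      56 * ((-1 - 2 * w) * (1 + w - b) * b) + 216 * ((-1 - 2 * w) * w * b) +
      54 * ((-1 - 2 * w) * w * (1 + w - b)) = 0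

instance (w b : ℤ) : Decidable (GoodTwo w b) := by unfold GoodTwo; infer_instance

def d₂ (w : ℤ) : ℤ := 4 * (-1 - 2 * w) * w + 250 * w + 56 * (-1 - 2 * w)

def checkW (w : ℤ) : Bool :=
  let a₂ := -d₂ w
  let a₁ := (1 + w) * d₂ w + 162 * ((-1 - 2 * w) * w)
  let a₀ := 54 * ((-1 - 2 * w) * w * (1 + w))
  decide ((a₂ = 0 → a₁ ≠ 0) ∧ (a₁ * a₁ - 4 * a₂ * a₀).toNat < 2 ^ 80) &&
    (roots a₂ a₁ a₀).all fun b => decide (¬ GoodTwo w b)

theorem checkW_sound {w b : ℤ} (hc : checkW w = true) : ¬ GoodTwo w b := by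
  intro h
  simp only [checkW, Bool.and_eq_true, decide_eq_true_eq, List.all_eq_true] at hc
  refine hc.2 b (mem_roots ?_ hc.1.1 hc.1.2) h
  have := h.2.2.2.2
  unfold d₂
  linear_combination this

def caseW : Bool := (classUpTo 6 2000).all checkW

theorem caseW_true : caseW = true := by decide +kernel

theorem not_goodTwo (w b : ℤ) : ¬ GoodTwo w b := by
  intro h
  obtain ⟨h1, h2, h3, h4, h5⟩ := h
  by_cases hw : w.natAbs ≤ 2000
  · exact checkW_sound (List.all_eq_true.1 caseW_true w (mem_classUpTo (by norm_num) (by norm_num) h1 hw))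
      (show GoodTwo w b from ⟨h1, h2, h3, h4, h5⟩)
  -- a large `w` forces one of the two other degrees to be small
  set x := -1 - 2 * w with hx
  set r := 1 + w - b with hr
  have hq : (4 : ℚ) + 250 / x + 56 / w + 216 / r + 54 / b = 0 := by
    have e : ((4 * (x * w * r * b) + 250 * (w * r * b) + 56 * (x * r * b) + 216 * (x * w * b) +
        54 * (x * w * r) : ℤ) : ℚ) = 0 := by exact_mod_cast h5
    push_cast at e
    have hx0 : (x : ℚ) ≠ 0 := by have : x ≠ 0 := by omega
                                 exact_mod_cast this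
    have hw0 : (w : ℚ) ≠ 0 := by have : w ≠ 0 := by omega
                                 exact_mod_cast this
    have hr0 : (r : ℚ) ≠ 0 := by have : r ≠ 0 := by omega
                                 exact_mod_cast this
    have hb0 : (b : ℚ) ≠ 0 := by have : b ≠ 0 := by omega
                                 exact_mod_cast this
    field_simp
    linear_combination e
  have sm : ∀ (c : ℚ) (z : ℤ) (m : ℕ), 0 ≤ c → 0 < m → m ≤ z.natAbs → |c / z| ≤ c / m := by
    intro c z m hc hm hz
    rw [abs_div, abs_of_nonneg hc]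
    gcongr
    rw [← Int.cast_abs, Int.abs_eq_natAbs]
    exact_mod_cast hz
  have e1 := abs_le.1 (sm 250 x 4000 (by norm_num) (by norm_num) (by omega))
  have e2 := abs_le.1 (sm 56 w 2000 (by norm_num) (by norm_num) (by omega))
  rcases (show 1000 ≤ b.natAbs ∨ 1000 ≤ r.natAbs by omega) with e | e
  · have e3 := abs_le.1 (sm 54 b 1000 (by norm_num) (by norm_num) e)
    obtain ⟨hlo, hhi⟩ : (216 / r : ℚ) ≤ -3.8 ∧ (-4.2 : ℚ) ≤ 216 / r := by
      norm_num at e1 e2 e3 ⊢
      constructor <;> linarith
    have hr_neg : (r : ℚ) < 0 := by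
      by_contra h'
      push Not at h'
      have : (0 : ℚ) ≤ 216 / r := div_nonneg (by norm_num) h'
      norm_num at hlo
      linarith
    rw [div_le_iff_of_neg hr_neg] at hlo
    rw [le_div_iff_of_neg hr_neg] at hhi
    norm_num at hlo hhi
    have g1 : (-57 : ℚ) < r := by linarith
    have g2 : (r : ℚ) < -51 := by linarith
    have g1' : -57 < r := by exact_mod_cast g1
    have g2' : r < -51 := by exact_mod_cast g2
    have hr54 : r = -54 := by omega
    have hb : b = 55 + w := by omega
    rw [hb, hr54, hx] at h5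
    have h6 : 30 * w * w + 7480 * w - 3080 = 0 := by linarith only [show
      4 * ((-1 - 2 * w) * w * (-54) * (55 + w)) + 250 * (w * (-54) * (55 + w)) +
        56 * ((-1 - 2 * w) * (-54) * (55 + w)) + 216 * ((-1 - 2 * w) * w * (55 + w)) +
        54 * ((-1 - 2 * w) * w * (-54)) = -54 * (30 * w * w + 7480 * w - 3080) by ring, h5]
    rcases le_or_gt 0 w with hs | hs
    · have : 2000 * w ≤ w * w := mul_le_mul_of_nonneg_right (by omega) hs
      have : 14 ≤ w := by omega
      linarith
    · have : -2000 * w ≤ w * w := by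
        rw [← neg_mul_neg w w, show -2000 * w = 2000 * -w by ring]
        exact mul_le_mul_of_nonneg_right (by omega) (by omega)
      linarith
  · have e3 := abs_le.1 (sm 216 r 1000 (by norm_num) (by norm_num) e)
    obtain ⟨hlo, hhi⟩ : (54 / b : ℚ) ≤ -3.6 ∧ (-4.31 : ℚ) ≤ 54 / b := by
      norm_num at e1 e2 e3 ⊢
      constructor <;> linarith
    have hb_neg : (b : ℚ) < 0 := by
      by_contra h'
      push Not at h'
      have : (0 : ℚ) ≤ 54 / b := div_nonneg (by norm_num) h'
      norm_num at hlo
      linarith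
    rw [div_le_iff_of_neg hb_neg] at hlo
    rw [le_div_iff_of_neg hb_neg] at hhi
    norm_num at hlo hhi
    have g1 : (-16 : ℚ) < b := by linarith
    have g2 : (b : ℚ) < -12 := by linarith
    have g1' : -16 < b := by exact_mod_cast g1
    have g2' : b < -12 := by exact_mod_cast g2
    omega

end Cfsg.Agent.PermGroups.JOne
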