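import Cfsg.Agent.PermGroups.JOne.Dict
import Mathlib.GroupTheory.Transfer
import Mathlib.GroupTheory.GroupAction.Quotient
import Mathlib.GroupTheory.SpecificGroups.Cyclic

/-!
No group of order 189000 has one class of involutions with centralizer `2 × A₅`.
-/

set_option autoImplicit false
set_option linter.unusedSectionVars false
set_option linter.style.haveILetI false
set_option maxHeartbeats 600000

namespace Cfsg.Agent.PermGroups.JOne

open Cfsg Cfsg.Agent

universe u

variable {G : Type u} [Group G] [Finite G]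

/-- The elements of a subgroup of odd order split along an involution normalising it. -/
theorem split_inverted (A : Subgroup G) (hA : ∀ a ∈ A, Odd (orderOf a)) {t : G} (ht : t * t = 1)
    (hAt : ∀ a ∈ A, t * a * t ∈ A) {g : G} (hg : g ∈ A) :
    ∃ r ∈ A, ∃ f ∈ A, g = r * f ∧ t * r * t = r⁻¹ ∧ t * f * t = f := by
  set x := g * (t * g * t)⁻¹ with hx
  have hxA : x ∈ A := A.mul_mem hg (A.inv_mem (hAt g hg))
  have hti : t⁻¹ = t := inv_eq_of_mul_eq_one_right ht
  have hmul : ∀ a b, t * (a * b) * t = (t * a * t) * (t * b * t) := fun a b => by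
    rw [show (t * a * t) * (t * b * t) = t * a * (t * t) * b * t by group, ht]; group
  have hinvol : ∀ a, t * (t * a * t) * t = a := fun a => by
    rw [show t * (t * a * t) * t = (t * t) * a * (t * t) by group, ht]; group
  have hinv : ∀ a, t * a⁻¹ * t = (t * a * t)⁻¹ := fun a => by
    rw [mul_inv_rev, mul_inv_rev, hti]; group
  have htx : t * x * t = x⁻¹ := by rw [hx, hmul, hinv, hinvol, mul_inv_rev, inv_inv]
  obtain ⟨m, hm⟩ := hA x hxA
  have hpow : ∀ (a : G) (n : ℕ), t * a ^ n * t = (t * a * t) ^ n := fun a n => by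
    induction n with
    | zero => simp [ht]
    | succ n ih => rw [pow_succ, pow_succ, hmul, ih]
  set r := x ^ (m + 1) with hr
  have hr2 : r * r = x := by
    rw [hr, ← pow_add, show m + 1 + (m + 1) = orderOf x + 1 by omega, pow_succ, pow_orderOf_eq_one,
      one_mul]
  have htr : t * r * t = r⁻¹ := by rw [hr, hpow, htx, inv_pow]
  refine ⟨r, A.pow_mem hxA _, r⁻¹ * g, A.mul_mem (A.inv_mem (A.pow_mem hxA _)) hg, by group, htr, ?_⟩
  rw [hmul, hinv, htr, inv_inv]
  calc r * (t * g * t) = r⁻¹ * (r * r) * (t * g * t) := by group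
    _ = r⁻¹ * (g * (t * g * t)⁻¹) * (t * g * t) := by rw [hr2]
    _ = r⁻¹ * g := by group

variable {t : G} (e : Subgroup.centralizer ({t} : Set G) ≃* Multiplicative (ZMod 2) × A₅)

/-- The odd-order elements commuting with the involution lie in the simple factor. -/
theorem eq_iota {a : G} (hat : a * t = t * a) (hodd : Odd (orderOf a)) :
    ∃ s : A₅, a = (iota e s : G) ∧ orderOf s = orderOf a := by
  set c : Subgroup.centralizer ({t} : Set G) := ⟨a, Subgroup.mem_centralizer_singleton_iff.2 hat⟩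
  have hc : orderOf c = orderOf a := (Subgroup.orderOf_coe c).symm
  rcases decomp e c with h | h
  · exact ⟨proj e c, congrArg Subtype.val h, by rw [← hc, h, orderOf_iota, proj_iota]⟩
  · exfalso
    have := two_dvd_tau_mul e (proj e c)
    rw [← h, hc] at this
    exact Nat.not_even_iff_odd.2 hodd (even_iff_two_dvd.2 this)

include e in
/-- The central involution is `t`. -/
theorem coe_tau' (hto : orderOf t = 2) : ((tau e : Subgroup.centralizer ({t} : Set G)) : G) = t := by
  set z : Subgroup.centralizer ({t} : Set G) := ⟨t, Subgroup.mem_centralizer_singleton_iff.2 rfl⟩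
  have h : z = tau e := central_unique e
    (fun h => Subtype.ext (Subgroup.mem_centralizer_singleton_iff.1 h.2).symm)
    (fun h => by
      have h1 : t = 1 := congrArg Subtype.val h
      rw [h1, orderOf_one] at hto
      norm_num at hto)
  rw [← h]

variable (hto : orderOf t = 2) (hone : ∀ s t : G, orderOf s = 2 → orderOf t = 2 → IsConj s t)

include hone hto in
/-- Transport into the centralizer of the chosen involution. -/
theorem exists_transport {x : G} (hx : orderOf x = 2) :
    ∃ g : G, ∀ a, a * x = x * a ↔ (g * a * g⁻¹) * t = t * (g * a * g⁻¹) := by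
  obtain ⟨g, hg⟩ := isConj_iff.1 (hone x t hx hto)
  refine ⟨g, fun a => ?_⟩
  rw [← hg, show g * a * g⁻¹ * (g * x * g⁻¹) = g * (a * x) * g⁻¹ by group,
    show g * x * g⁻¹ * (g * a * g⁻¹) = g * (x * a) * g⁻¹ by group]
  exact ⟨fun h => by rw [h], fun h => mul_left_cancel (mul_right_cancel h)⟩

theorem orderOf_conj' (g a : G) : orderOf (g * a * g⁻¹) = orderOf a := by
  rw [← MulAut.conj_apply]; exact MulEquiv.orderOf_eq (MulAut.conj g) a

include e hone hto in
/-- Elements of order three centralizing an involution are conjugate. -/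
theorem conj_three {x a : G} (hx : orderOf x = 2) (ha : orderOf a = 3) (hax : a * x = x * a) :
    IsConj (iota e g₃ : G) a := by
  obtain ⟨g, hg⟩ := exists_transport hto hone hx
  obtain ⟨s, hs, hso⟩ := eq_iota e ((hg a).1 hax) (by rw [orderOf_conj', ha]; decide)
  rw [orderOf_conj', ha] at hso
  have h3 : s * s * s = 1 := by
    have := pow_orderOf_eq_one s; rw [hso] at this; simpa [pow_succ, mul_assoc] using this
  obtain ⟨h, hh⟩ := order_three_conj s h3 (fun h => by rw [h, orderOf_one] at hso; norm_num at hso)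
  refine IsConj.trans (isConj_iff.2 ⟨(iota e h : G), ?_⟩) (isConj_iff.2 ⟨g, rfl⟩).symm
  rw [← Subgroup.coe_inv, ← Subgroup.coe_mul, ← Subgroup.coe_mul, ← map_inv, ← map_mul, ← map_mul, hh, hs]

include e hone hto in
/-- No element of order `3 * q` centralizes an involution. -/
theorem no_fifteen {x a w : G} {q : ℕ} (hx : orderOf x = 2) (ha : orderOf a = 3) (hw : orderOf w = q)
    (hq : q.Prime) (hq5 : 5 ≤ q) (hax : a * x = x * a) (hwx : w * x = x * w) (haw : Commute a w) :
    False := by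
  obtain ⟨g, hg⟩ := exists_transport hto hone hx
  have hqo : Odd q := hq.odd_of_ne_two (by omega)
  have hco : orderOf (a * w) = 3 * q := by
    rw [haw.orderOf_mul_eq_mul_orderOf_of_coprime, ha, hw]
    rw [ha, hw]
    exact (Nat.coprime_primes Nat.prime_three hq).2 (by omega)
  have hc : a * w * x = x * (a * w) := by rw [mul_assoc, hwx, ← mul_assoc, hax, mul_assoc]
  obtain ⟨s, -, hso⟩ := eq_iota e ((hg _).1 hc)
    (by rw [orderOf_conj', hco]; exact (by decide : Odd 3).mul hqo)
  rw [orderOf_conj', hco] at hso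
  have d1 : ∀ n, s ^ n = 1 → 3 * q ∣ n := fun n h => hso ▸ orderOf_dvd_of_pow_eq_one h
  rcases eq_or_ne (s * s * s) 1 with h3 | h3
  · have := Nat.le_of_dvd (by norm_num) (d1 3 (by simpa [pow_succ, mul_assoc] using h3)); omega
  · rcases no_order_fifteen s h3 with h | h
    · have := Nat.le_of_dvd (by norm_num) (d1 5 (by simpa [pow_succ, mul_assoc] using h)); omega
    · have := Nat.le_of_dvd (by norm_num) (d1 2 (by simpa [pow_succ, mul_assoc] using h)); omega

include e hone hto in
/-- A `3`-subgroup centralizing an involution has order at most three. -/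
theorem card_le_three {x : G} (hx : orderOf x = 2) (K : Subgroup G) (hK : IsPGroup 3 K)
    (hKx : ∀ a ∈ K, a * x = x * a) : Nat.card K ≤ 3 := by
  haveI : Fact (Nat.Prime 3) := ⟨Nat.prime_three⟩
  obtain ⟨g, hg⟩ := exists_transport hto hone hx
  have h120 : Nat.card K ∣ 120 := by
    rw [← card_H e, ← Subgroup.card_map_of_injective (f := (MulAut.conj g).toMonoidHom)
      (MulAut.conj g).injective]
    refine Subgroup.card_dvd_of_le ?_
    rintro _ ⟨a, ha, rfl⟩
    exact Subgroup.mem_centralizer_singleton_iff.2 ((hg a).1 (hKx a ha))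
  obtain ⟨n, hn⟩ := IsPGroup.iff_card.1 hK
  rw [hn] at h120 ⊢
  by_contra hc
  have h2 : 2 ≤ n := by
    by_contra h
    interval_cases n <;> simp_all
  have := (pow_dvd_pow 3 h2).trans h120
  norm_num at this

section

variable {y : G} (hyt : y * t = t * y) (hy3 : orderOf y = 3)

theorem mem_zpowers_three {x a : G} (hx : orderOf x = 3) (ha : a ∈ Subgroup.zpowers x) :
    a = 1 ∨ a = x ∨ a = x * x := by
  obtain ⟨k, hk, rfl⟩ := (Subgroup.mem_zpowers_iff.1 ha).elim fun k hk =>
    (⟨(k % 3).toNat, by omega, by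
      rw [← hk, ← zpow_natCast, Int.toNat_of_nonneg (Int.emod_nonneg _ (by norm_num)),
        show (3 : ℤ) = (orderOf x : ℤ) by rw [hx]; rfl, zpow_mod_orderOf]⟩ :
      ∃ n : ℕ, n < 3 ∧ x ^ n = a)
  interval_cases k <;> simp [pow_two]

end

include e hone hto in
/-- The structure of the centralizer of an element of order three. -/
theorem three_structure (hab : ∀ K : Subgroup G, IsPGroup 2 K → ∀ a ∈ K, ∀ b ∈ K, a * b = b * a) :
    ∃ (O R : Subgroup G), IsPGroup 3 R ∧ R ≤ O ∧ (iota e g₃ : G) ∈ R ∧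
      (∀ g, g ∈ O ↔ g * (iota e g₃ : G) = (iota e g₃ : G) * g ∧ Odd (orderOf g)) ∧
      (∀ g, g * (iota e g₃ : G) = (iota e g₃ : G) * g → (∃ k : ℕ, orderOf g = 3 ^ k) → g ∈ R) ∧
      (∀ g ∈ O, ∀ h ∈ O, g * h * g⁻¹ * h⁻¹ ∈ Subgroup.zpowers (iota e g₃ : G)) ∧
      (∀ g ∈ O, t * g * t = g → g ∈ Subgroup.zpowers (iota e g₃ : G)) ∧
      Nat.card (Subgroup.centralizer ({(iota e g₃ : G)} : Set G)) = 2 * Nat.card O := by
  classical
  haveI : Fact (Nat.Prime 2) := ⟨Nat.prime_two⟩
  haveI : Fact (Nat.Prime 3) := ⟨Nat.prime_three⟩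
  set y : G := (iota e g₃ : G) with hy
  have htt : t * t = 1 := by rw [← pow_two, ← hto]; exact pow_orderOf_eq_one t
  have hyt : y * t = t * y := Subgroup.mem_centralizer_singleton_iff.1 (iota e g₃).2
  have hy3 : orderOf y = 3 := by
    rw [hy, Subgroup.orderOf_coe, orderOf_iota]
    exact orderOf_eq_prime (by rw [pow_succ, pow_two]; exact g3_cube) g3_ne
  set Cy := Subgroup.centralizer ({y} : Set G) with hCy
  have htC : t ∈ Cy := Subgroup.mem_centralizer_singleton_iff.2 hyt.symm
  have hfix : ∀ g, g * y = y * g → g * t = t * g → g ∈ Subgroup.zpowers y ∨ t * g ∈ Subgroup.zpowers y := by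
    intro g hgy hgt
    set c : Subgroup.centralizer ({t} : Set G) := ⟨g, Subgroup.mem_centralizer_singleton_iff.2 hgt⟩
    have hp : proj e c * g₃ = g₃ * proj e c := by
      have h1 : c * iota e g₃ = iota e g₃ * c := Subtype.ext hgy
      have := congrArg (proj e) h1
      rwa [map_mul, map_mul, proj_iota] at this
    have hcases : proj e c = 1 ∨ proj e c = g₃ ∨ proj e c = g₃ * g₃ :=
      (by decide +kernel : ∀ s : A₅, s * g₃ = g₃ * s → s = 1 ∨ s = g₃ ∨ s = g₃ * g₃) _ hp
    have hmem : ((iota e (proj e c) : Subgroup.centralizer ({t} : Set G)) : G) ∈ Subgroup.zpowers y := by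
      rcases hcases with h | h | h <;> rw [h]
      · rw [map_one]; exact one_mem _
      · exact Subgroup.mem_zpowers y
      · rw [map_mul]; exact mul_mem (Subgroup.mem_zpowers y) (Subgroup.mem_zpowers y)
    rcases decomp e c with h | h
    · left; rw [show g = _ from congrArg Subtype.val h]; exact hmem
    · right
      rw [show g = _ from congrArg Subtype.val h, Subgroup.coe_mul, coe_tau' e hto, ← mul_assoc, htt, one_mul]
      exact hmem
  -- the Sylow two subgroup
  obtain ⟨Q, hQ⟩ := (IsPGroup.of_card (n := 1) (G := Subgroup.zpowers (⟨t, htC⟩ : Cy))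
    (by rw [Nat.card_zpowers, ← Subgroup.orderOf_coe, hto, pow_one])).exists_le_sylow
  have hQmap : IsPGroup 2 ((Q : Subgroup Cy).map Cy.subtype) := Q.isPGroup'.map _
  have htQ : t ∈ (Q : Subgroup Cy).map Cy.subtype := ⟨⟨t, htC⟩, hQ (Subgroup.mem_zpowers _), rfl⟩
  have hQc : Nat.card Q = 2 := by
    have hle : Q.1.map Cy.subtype ≤ Subgroup.zpowers t := by
      intro g hg
      obtain ⟨c, hc, rfl⟩ := hg
      obtain ⟨k, hk⟩ := Q.isPGroup' ⟨c, hc⟩
      have hk' : (c : G) ^ 2 ^ k = 1 := congrArg (fun x : Q => ((x : Cy) : G)) hk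
      have key : ∀ z : G, z ∈ Subgroup.zpowers y → (∃ j : ℕ, z ^ 2 ^ j = 1) → z = 1 := by
        rintro z hz ⟨j, hj⟩
        have d1 : orderOf z ∣ 2 ^ j := orderOf_dvd_of_pow_eq_one hj
        have d2 : orderOf z ∣ 3 := hy3 ▸ orderOf_dvd_of_mem_zpowers hz
        exact orderOf_eq_one_iff.1 (Nat.eq_one_of_dvd_coprimes
          (Nat.Coprime.pow_left _ (by norm_num)) d1 d2)
      have hct : (c : G) * t = t * c := hab _ hQmap _ ⟨c, hc, rfl⟩ _ htQ
      rcases hfix c (Subgroup.mem_centralizer_singleton_iff.1 c.2) hct with h | h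
      · rw [Subgroup.subtype_apply, key _ h ⟨k, hk'⟩]; exact one_mem _
      · have h1 : (t * (c : G)) ^ 2 ^ (k + 1) = 1 := by
          rw [(show Commute t (c : G) from hct.symm).mul_pow, pow_succ 2 k, pow_mul (c : G), hk',
            one_pow, mul_one, mul_comm, pow_mul, pow_two, htt, one_pow]
        have h2 := key _ h ⟨_, h1⟩
        rw [Subgroup.subtype_apply, show (c : G) = t by
          rw [mul_eq_one_iff_eq_inv'.1 h2, inv_eq_of_mul_eq_one_right htt]]
        exact Subgroup.mem_zpowers t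
    have heq : Q.1.map Cy.subtype = Subgroup.zpowers t := le_antisymm hle (Subgroup.zpowers_le.2 htQ)
    rw [show Nat.card Q = Nat.card ((Q : Subgroup Cy).map Cy.subtype) from
      (Subgroup.card_map_of_injective Cy.subtype_injective).symm, heq, Nat.card_zpowers, hto]
  have heven : 2 ∣ Nat.card Cy := hQc ▸ Subgroup.card_subgroup_dvd_card (Q : Subgroup Cy)
  have hmin : (Nat.card Cy).minFac = 2 := (Nat.minFac_eq_two_iff _).2 heven
  haveI : IsCyclic Q := isCyclic_of_prime_card (p := 2) hQc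
  have hcompl := MonoidHom.ker_transferSylow_isComplement' Q
    (IsCyclic.normalizer_le_centralizer hmin inferInstance)
  set K := (MonoidHom.transferSylow Q (IsCyclic.normalizer_le_centralizer hmin inferInstance)).ker with hK
  haveI : K.Normal := MonoidHom.normal_ker _
  have hKidx : K.index = 2 := by rw [hcompl.symm.index_eq_card, hQc]
  have hKodd : Odd (Nat.card K) := by
    rw [Nat.odd_iff, ← Nat.two_dvd_ne_zero]
    intro h
    have h4 : 2 ^ 2 ∣ Nat.card Cy := by
      rw [← K.card_mul_index, hKidx]; exact mul_dvd_mul h dvd_rfl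
    have := Q.pow_dvd_card_of_pow_dvd_card h4
    rw [hQc] at this
    norm_num at this
  set O := K.map Cy.subtype with hO
  have hOiff : ∀ g, g ∈ O ↔ g * y = y * g ∧ Odd (orderOf g) := by
    intro g
    constructor
    · rintro ⟨c, hc, rfl⟩
      refine ⟨Subgroup.mem_centralizer_singleton_iff.1 c.2, ?_⟩
      rw [Subgroup.subtype_apply, Subgroup.orderOf_coe]
      exact Odd.of_dvd_nat hKodd (Subgroup.orderOf_dvd_natCard K hc)
    · rintro ⟨hgy, hodd⟩
      set c : Cy := ⟨g, Subgroup.mem_centralizer_singleton_iff.2 hgy⟩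
      refine ⟨c, ?_, rfl⟩
      obtain ⟨m, hm⟩ := hodd
      have h2 : c ^ 2 ∈ K := by
        have := K.pow_index_mem c; rwa [hKidx] at this
      have hc : c = (c ^ 2) ^ (m + 1) := by
        rw [← pow_mul, show 2 * (m + 1) = orderOf g + 1 by omega, pow_succ,
          show orderOf g = orderOf c from (Subgroup.orderOf_coe c), pow_orderOf_eq_one, one_mul]
      rw [hc]; exact K.pow_mem h2 _
  have hti : t⁻¹ = t := inv_eq_of_mul_eq_one_right htt
  have hOt : ∀ g ∈ O, t * g * t ∈ O := by
    intro g hg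
    obtain ⟨h1, h2⟩ := (hOiff g).1 hg
    refine (hOiff _).2 ⟨?_, ?_⟩
    · rw [show t * g * t * y = t * g * (t * y) by group, ← hyt, show t * g * (y * t) = t * (g * y) * t by group,
        h1, show t * (y * g) * t = (t * y) * g * t by group, ← hyt]
      group
    · rw [show t * g * t = t * g * t⁻¹ by rw [hti], orderOf_conj']; exact h2
  have hOfix : ∀ g ∈ O, t * g * t = g → g ∈ Subgroup.zpowers y := by
    intro g hg hf
    obtain ⟨h1, h2⟩ := (hOiff g).1 hg
    have hgt : g * t = t * g := by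
      calc g * t = t * g * t * t := by rw [hf]
        _ = t * g := by rw [mul_assoc, htt, mul_one]
    refine (hfix g h1 hgt).resolve_right fun h => ?_
    have h6 : (t * g) ^ 3 = 1 :=
      orderOf_dvd_iff_pow_eq_one.1 (hy3 ▸ orderOf_dvd_of_mem_zpowers h)
    rw [(show Commute t g from hgt.symm).mul_pow, pow_succ t, pow_two, htt, one_mul] at h6
    have h7 : (t * g ^ 3) ^ orderOf g = t ^ orderOf g := by
      rw [((show Commute t g from hgt.symm).pow_right 3).mul_pow, ← pow_mul, mul_comm, pow_mul,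
        pow_orderOf_eq_one, one_pow, mul_one]
    rw [h6, one_pow] at h7
    obtain ⟨m, hm⟩ := h2
    rw [hm, pow_succ, pow_mul, pow_two, htt, one_pow, one_mul] at h7
    rw [← h7, orderOf_one] at hto
    norm_num at hto
  have hzc : ∀ z ∈ Subgroup.zpowers y, ∀ g ∈ O, g * z = z * g := by
    intro z hz g hg
    obtain ⟨k, rfl⟩ := Subgroup.mem_zpowers_iff.1 hz
    exact (Commute.zpow_right (show Commute g y from ((hOiff g).1 hg).1) k).eq
  have hcomm : ∀ g ∈ O, ∀ h ∈ O, g * h * g⁻¹ * h⁻¹ ∈ Subgroup.zpowers y := by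
    intro g hg h hh
    have dec : ∀ a ∈ O, ∃ z ∈ Subgroup.zpowers y, t * a * t = a⁻¹ * z := by
      intro a ha
      obtain ⟨r, hr, f, hf, rfl, htr, htf⟩ := split_inverted O (fun a ha => ((hOiff a).1 ha).2) htt hOt ha
      have hfz := hOfix f hf htf
      refine ⟨f * f, mul_mem hfz hfz, ?_⟩
      have hrf : r⁻¹ * f = f * r⁻¹ := hzc f hfz _ (O.inv_mem hr)
      rw [show t * (r * f) * t = (t * r * t) * (t * f * t) by
        rw [show (t * r * t) * (t * f * t) = t * r * (t * t) * f * t by group, htt]; group, htr, htf,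
        mul_inv_rev, show f⁻¹ * r⁻¹ * (f * f) = f⁻¹ * (r⁻¹ * f) * f by group, hrf,
        show f⁻¹ * (f * r⁻¹) * f = r⁻¹ * f by group, hrf]
    obtain ⟨z1, hz1, e1⟩ := dec g hg
    obtain ⟨z2, hz2, e2⟩ := dec h hh
    obtain ⟨z3, hz3, e3⟩ := dec (g * h) (O.mul_mem hg hh)
    have e4 : (g * h)⁻¹ * z3 = g⁻¹ * h⁻¹ * (z1 * z2) := by
      rw [← e3, show t * (g * h) * t = (t * g * t) * (t * h * t) by
        rw [show (t * g * t) * (t * h * t) = t * g * (t * t) * h * t by group, htt]; group, e1, e2]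
      rw [show g⁻¹ * z1 * (h⁻¹ * z2) = g⁻¹ * (z1 * h⁻¹) * z2 by group,
        ← hzc z1 hz1 _ (O.inv_mem hh)]
      group
    have h5 : h * g * g⁻¹ ∈ O := by rw [mul_inv_cancel_right]; exact hh
    have e5 : g * h * g⁻¹ * h⁻¹ * (z1 * z2) = z3 := by
      rw [show g * h * g⁻¹ * h⁻¹ * (z1 * z2) = g * h * (g⁻¹ * h⁻¹ * (z1 * z2)) by group, ← e4]
      group
    rw [eq_mul_inv_of_mul_eq e5]
    exact mul_mem hz3 (inv_mem (mul_mem hz1 hz2))
  -- the Sylow three subgroup
  have hyO : y ∈ O := (hOiff y).2 ⟨rfl, by rw [hy3]; decide⟩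
  obtain ⟨R₀, hR₀⟩ := (IsPGroup.of_card (n := 1) (G := Subgroup.zpowers (⟨y, hyO⟩ : O))
    (by rw [Nat.card_zpowers, ← Subgroup.orderOf_coe, hy3, pow_one])).exists_le_sylow (p := 3)
  set R := (R₀ : Subgroup O).map O.subtype with hR
  have hyR : y ∈ R := ⟨⟨y, hyO⟩, hR₀ (Subgroup.mem_zpowers _), rfl⟩
  haveI hn : (R₀ : Subgroup O).Normal := by
    refine ⟨fun p hp g => ?_⟩
    have hm := hcomm g g.2 p p.2
    have : g * p * g⁻¹ * p⁻¹ ∈ (R₀ : Subgroup O) := by
      obtain ⟨k, hk⟩ := Subgroup.mem_zpowers_iff.1 hm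
      have e : (⟨y, hyO⟩ : O) ^ k = g * p * g⁻¹ * p⁻¹ := Subtype.ext (by simpa using hk)
      rw [← e]; exact hR₀ (Subgroup.zpow_mem _ (Subgroup.mem_zpowers _) k)
    simpa using (R₀ : Subgroup O).mul_mem this hp
  refine ⟨O, R, R₀.isPGroup'.map _, Subgroup.map_subtype_le _, hyR, hOiff, ?_, hcomm, hOfix, ?_⟩
  · rintro g hg ⟨k, hk⟩
    have hgO : g ∈ O := (hOiff g).2 ⟨hg, by rw [hk]; exact Odd.pow (by decide)⟩
    obtain ⟨P, hP⟩ := (IsPGroup.of_card (n := k) (G := Subgroup.zpowers (⟨g, hgO⟩ : O))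
      (by rw [Nat.card_zpowers, ← Subgroup.orderOf_coe, hk])).exists_le_sylow (p := 3)
    haveI := Sylow.unique_of_normal R₀ hn
    rw [Subsingleton.elim P R₀] at hP
    exact ⟨⟨g, hgO⟩, hP (Subgroup.mem_zpowers _), rfl⟩
  · rw [hO, Subgroup.card_map_of_injective Cy.subtype_injective, ← K.card_mul_index, hKidx, mul_comm]

end Cfsg.Agent.PermGroups.JOne
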